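import Cfsg.Agent.Lib.Golay.Code

/-! Sets of points of the length-24 code and their masks. -/

set_option autoImplicit false

namespace Cfsg.Agent.Lib.SporStruct.Masks

open Cfsg Cfsg.Agent.Lib.Golay

theorem testBit_maskOfSet (s : Finset GolayPt) (i : ℕ) :
    (maskOfSet s).testBit i = true ↔ ∃ p ∈ s, idx p = i := by
  have he : maskOfSet s = ∑ j ∈ s.image idx, 2 ^ j := by
    rw [maskOfSet, Finset.sum_image fun a _ b _ hab => idx_injective hab]
  rw [he, ← Nat.mem_bitIndices, ← List.mem_toFinset, Finset.toFinset_bitIndices_sum_two_pow,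
    Finset.mem_image]

theorem testBit_maskOfSet_idx {s : Finset GolayPt} {p : GolayPt} :
    (maskOfSet s).testBit (idx p) = true ↔ p ∈ s := by
  simp [testBit_maskOfSet, idx_injective.eq_iff]

theorem maskOfSet_lt (s : Finset GolayPt) : maskOfSet s < 2 ^ 24 := by
  refine Nat.lt_pow_two_of_testBit _ fun i hi => ?_
  rw [Bool.eq_false_iff, ne_eq, testBit_maskOfSet]
  rintro ⟨p, _, rfl⟩
  exact absurd hi (not_le.mpr (idx_lt p))

@[simp] theorem setOfMask_maskOfSet (s : Finset GolayPt) : setOfMask (maskOfSet s) = s := by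
  ext p; rw [mem_setOfMask, testBit_maskOfSet_idx]

theorem maskOfSet_setOfMask {m : ℕ} (hm : m < 2 ^ 24) : maskOfSet (setOfMask m) = m :=
  setOfMask_injOn (maskOfSet_lt _) hm (setOfMask_maskOfSet _)

theorem maskOfSet_injective : Function.Injective maskOfSet :=
  fun s t h => by rw [← setOfMask_maskOfSet s, h, setOfMask_maskOfSet]

theorem setOfMask_and (a b : ℕ) : setOfMask (a &&& b) = setOfMask a ∩ setOfMask b := by
  ext p; simp [Nat.testBit_and]

theorem setOfMask_or (a b : ℕ) : setOfMask (a ||| b) = setOfMask a ∪ setOfMask b := by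
  ext p; simp [Nat.testBit_or]

theorem setOfMask_xor_full (a : ℕ) : setOfMask (a ^^^ 16777215) = (setOfMask a)ᶜ := by
  ext p
  have : (16777215 : ℕ).testBit (idx p) = true := by
    rw [show (16777215 : ℕ) = 2 ^ 24 - 1 from rfl, Nat.testBit_two_pow_sub_one]
    simpa using idx_lt p
  simp [Nat.testBit_xor, this]

theorem setOfMask_zero : setOfMask 0 = ∅ := by ext p; simp

theorem maskOfSet_inter (s t : Finset GolayPt) :
    maskOfSet (s ∩ t) = maskOfSet s &&& maskOfSet t := by
  refine setOfMask_injOn (maskOfSet_lt _) (lt_of_le_of_lt Nat.and_le_left (maskOfSet_lt s)) ?_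
  rw [setOfMask_and, setOfMask_maskOfSet, setOfMask_maskOfSet, setOfMask_maskOfSet]

theorem maskOfSet_union (s t : Finset GolayPt) :
    maskOfSet (s ∪ t) = maskOfSet s ||| maskOfSet t := by
  refine setOfMask_injOn (maskOfSet_lt _) (Nat.or_lt_two_pow (maskOfSet_lt s) (maskOfSet_lt t)) ?_
  rw [setOfMask_or, setOfMask_maskOfSet, setOfMask_maskOfSet, setOfMask_maskOfSet]

theorem maskOfSet_compl (s : Finset GolayPt) : maskOfSet sᶜ = maskOfSet s ^^^ 16777215 := by
  refine setOfMask_injOn (maskOfSet_lt _) (Nat.xor_lt_two_pow (maskOfSet_lt s) (by norm_num)) ?_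
  rw [setOfMask_xor_full, setOfMask_maskOfSet, setOfMask_maskOfSet]

theorem maskOfSet_empty : maskOfSet (∅ : Finset GolayPt) = 0 := rfl

theorem card_eq_pc24 (s : Finset GolayPt) : s.card = pc24 (maskOfSet s) := by
  rw [← card_setOfMask, setOfMask_maskOfSet]

theorem card_inter_eq (s t : Finset GolayPt) :
    (s ∩ t).card = pc24 (maskOfSet s &&& maskOfSet t) := by
  rw [card_eq_pc24, maskOfSet_inter]

theorem disjoint_iff_and (s t : Finset GolayPt) :
    Disjoint s t ↔ maskOfSet s &&& maskOfSet t = 0 := by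
  rw [Finset.disjoint_iff_inter_eq_empty, ← maskOfSet_inter, ← maskOfSet_empty,
    maskOfSet_injective.eq_iff]

theorem subset_iff_and (s t : Finset GolayPt) :
    s ⊆ t ↔ maskOfSet s &&& maskOfSet t = maskOfSet s := by
  rw [← Finset.inter_eq_left, ← maskOfSet_inter, maskOfSet_injective.eq_iff]

theorem maskOfSet_mem_iff {s : Finset GolayPt} :
    s ∈ supports (golayCode : Set (GolayPt → ZMod 2)) ↔ inCode (maskOfSet s) = true := by
  constructor
  · intro h
    obtain ⟨k, hk, rfl⟩ := mem_supports_iff.mp h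
    rw [maskOfSet_setOfMask (enc_lt hk)]
    exact inCode_enc hk
  · intro h
    rw [← setOfMask_maskOfSet s]
    exact setOfMask_mem_supports h

/-- Test for a code mask of weight `n`. -/
def isWord (n m : ℕ) : Bool := inCode m && Nat.beq (pc24 m) n

theorem isWord_iff (n m : ℕ) : isWord n m = true ↔ inCode m = true ∧ pc24 m = n := by
  simp [isWord]

theorem mem_wordsOfWeight_mask {s : Finset GolayPt} {n : ℕ} :
    s ∈ wordsOfWeight (golayCode : Set (GolayPt → ZMod 2)) n ↔ isWord n (maskOfSet s) = true := by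
  rw [isWord_iff, ← maskOfSet_mem_iff, ← card_eq_pc24]
  exact Iff.rfl

theorem mem_octads_mask {s : Finset GolayPt} : s ∈ octads ↔ isWord 8 (maskOfSet s) = true :=
  mem_wordsOfWeight_mask

theorem mem_dodecads_mask {s : Finset GolayPt} : s ∈ dodecads ↔ isWord 12 (maskOfSet s) = true :=
  mem_wordsOfWeight_mask

theorem symmDiff_mem_supports {s t : Finset GolayPt}
    (hs : s ∈ supports (golayCode : Set (GolayPt → ZMod 2)))
    (ht : t ∈ supports (golayCode : Set (GolayPt → ZMod 2))) :
    symmDiff s t ∈ supports (golayCode : Set (GolayPt → ZMod 2)) := by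
  obtain ⟨v, hv, rfl⟩ := hs
  obtain ⟨w, hw, rfl⟩ := ht
  refine ⟨v + w, add_mem hv hw, ?_⟩
  ext p
  have h2 : ∀ a b : ZMod 2, a + b ≠ 0 ↔ (a ≠ 0 ∧ ¬b ≠ 0 ∨ b ≠ 0 ∧ ¬a ≠ 0) := by decide
  simp only [support₂, Finset.mem_symmDiff, Finset.mem_filter, Finset.mem_univ, true_and,
    Pi.add_apply]
  exact h2 _ _

theorem compl_mem_supports {s : Finset GolayPt}
    (hs : s ∈ supports (golayCode : Set (GolayPt → ZMod 2))) :
    sᶜ ∈ supports (golayCode : Set (GolayPt → ZMod 2)) := by
  have h1 : (Finset.univ : Finset GolayPt) ∈ supports (golayCode : Set (GolayPt → ZMod 2)) :=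
    ⟨1, one_mem, by ext p; simp [support₂]⟩
  convert symmDiff_mem_supports hs h1 using 1
  ext p
  simp [Finset.mem_symmDiff]

theorem card_symmDiff_add (s t : Finset GolayPt) :
    (symmDiff s t).card + 2 * (s ∩ t).card = s.card + t.card := by
  have e : symmDiff s t = (s ∪ t) \ (s ∩ t) := symmDiff_eq_sup_sdiff_inf s t
  rw [e, Finset.card_sdiff_of_subset (Finset.inter_subset_union),
    ← Finset.card_union_add_card_inter s t]
  have := Finset.card_le_card (Finset.inter_subset_union (s := s) (t := t))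
  omega

/-- The octads as a finite family. -/
noncomputable def octadFinset : Finset (Finset GolayPt) := (Set.toFinite octads).toFinset

@[simp] theorem mem_octadFinset {o : Finset GolayPt} : o ∈ octadFinset ↔ o ∈ octads := by
  simp [octadFinset]

theorem coe_octadFinset : (octadFinset : Set (Finset GolayPt)) = octads := by
  ext o; simp

end Cfsg.Agent.Lib.SporStruct.Masks
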