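import Cfsg.Agent.Lib.Golay.Stabilizers

/-!
The stabiliser of an octad in the group of the code: the pointwise stabiliser is regular on the
outside points and the induced group is alternating.
-/

set_option autoImplicit false

namespace Cfsg.Agent.Lib.SporStruct.OctadStab

open Cfsg Cfsg.Agent.Lib.Golay
open scoped Pointwise

variable {o : Finset GolayPt}

theorem exists_fix_base {z : GolayPt} (hz : z ∉ baseOctad) :
    ∃ g ∈ octadFix baseOctad, g basePt7 = z := by
  obtain ⟨c, hc, h6, h7⟩ := fiveFixers_complete _ basePt6_mem.1 z hz basePt6_mem.2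
  have hspec := List.all_eq_true.mp fiveFixers_spec c hc
  simp only [Bool.and_eq_true] at hspec
  have hok := okCode_of_inM24 hspec.1
  refine ⟨gperm c, mem_octadFix.mpr ⟨gperm_mem_M24 hspec.1, fun p hp => ?_⟩, ?_⟩
  · rw [gperm_apply hok]; exact (baseOctad_fixed_iff c hc).mp h6 p hp
  · rw [gperm_apply hok, h7]

/-- The pointwise stabiliser of an octad is transitive outside it. -/
theorem exists_fix_move (ho : o ∈ octads) {x z : GolayPt} (hx : x ∉ o) (hz : z ∉ o) :
    ∃ g ∈ octadFix o, g x = z := by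
  obtain ⟨a, ha, hao⟩ := transitive_octads baseOctad_mem ho
  have hout : ∀ p, p ∉ o → a⁻¹ p ∉ baseOctad := fun p hp h => by
    refine hp ?_
    rw [← hao]
    exact Finset.mem_smul_finset.2 ⟨_, h, by simp⟩
  obtain ⟨g₁, hg₁, e₁⟩ := exists_fix_base (hout x hx)
  obtain ⟨g₂, hg₂, e₂⟩ := exists_fix_base (hout z hz)
  refine ⟨a * (g₂ * g₁⁻¹) * a⁻¹, ?_, ?_⟩
  · rw [octadFix_conj ha hao, Subgroup.mem_map]
    exact ⟨g₂ * g₁⁻¹, mul_mem hg₂ (inv_mem hg₁), rfl⟩
  · have hx' : g₁⁻¹ (a⁻¹ x) = basePt7 := by rw [← e₁, Equiv.Perm.inv_def, Equiv.symm_apply_apply]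
    simp only [Equiv.Perm.mul_apply, hx', e₂]
    simp

/-- The pointwise stabiliser of an octad is regular outside it. -/
theorem fix_eq_one (ho : o ∈ octads) {g : Equiv.Perm GolayPt} (hg : g ∈ octadFix o) {x : GolayPt}
    (hx : x ∉ o) (hgx : g x = x) : g = 1 := by
  let f : octadFix o → {z // z ∈ oᶜ} := fun h => ⟨(h : Equiv.Perm GolayPt) x, by
    rw [Finset.mem_compl]
    intro hm
    have := (mem_octadFix.mp h.2).2 _ hm
    exact hx ((h : Equiv.Perm GolayPt).injective this ▸ hm)⟩
  have hsurj : Function.Surjective f := by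
    rintro ⟨z, hz⟩
    obtain ⟨h, hh, he⟩ := exists_fix_move ho hx (Finset.mem_compl.1 hz)
    exact ⟨⟨h, hh⟩, Subtype.ext he⟩
  have hb := (Nat.bijective_iff_surjective_and_card f).2 ⟨hsurj, by
    rw [(octadFix_spec ho).1, Nat.card_eq_finsetCard, Finset.card_compl, ho.2, card_golayPt]⟩
  have := hb.1 (a₁ := ⟨g, hg⟩) (a₂ := 1) (Subtype.ext (by simpa [f] using hgx))
  exact congrArg Subtype.val this

/-- The stabiliser of an octad in the group of the code. -/
def octadStab (o : Finset GolayPt) : Subgroup (Equiv.Perm GolayPt) :=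
  M24 ⊓ MulAction.stabilizer (Equiv.Perm GolayPt) o

theorem smul_eq_iff {g : Equiv.Perm GolayPt} : g • o = o ↔ ∀ x, g x ∈ o ↔ x ∈ o := by
  constructor
  · intro h x
    conv_lhs => rw [← h, ← Equiv.Perm.smul_def]
    exact Finset.smul_mem_smul_finset_iff g
  · intro h
    ext x
    rw [← Finset.inv_smul_mem_iff, Equiv.Perm.smul_def, ← h (g⁻¹ x), Equiv.Perm.inv_def,
      Equiv.apply_symm_apply]

theorem fix_le : octadFix o ≤ octadStab o := fun g hg =>
  ⟨(mem_octadFix.1 hg).1, MulAction.mem_stabilizer_iff.2 (smul_eq_iff.2 fun x => by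
    have hf := (mem_octadFix.1 hg).2
    exact ⟨fun h => by have := g.injective (hf _ h); rw [this] at h; exact h,
      fun h => by rw [hf _ h]; exact h⟩)⟩

/-- Restriction to the octad. -/
def restrict (o : Finset GolayPt) : octadStab o →* Equiv.Perm ↥o where
  toFun g := (g : Equiv.Perm GolayPt).subtypePerm (smul_eq_iff.1 g.2.2)
  map_one' := by ext x; rfl
  map_mul' _ _ := by ext x; rfl

theorem restrict_apply (g : octadStab o) (x : ↥o) :
    (restrict o g x : GolayPt) = (g : Equiv.Perm GolayPt) x := rfl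

theorem card_octadStab (ho : o ∈ octads) : Nat.card (octadStab o) = 322560 := by
  have h := ncard_mul_card_inf M24 o octads (fun g hg => smul_mem_octads hg ho)
    (fun o' ho' => transitive_octads ho ho')
  rw [ncard_octads, card_M24] at h
  change 759 * Nat.card (octadStab o) = _ at h
  omega

theorem card_ker (ho : o ∈ octads) : Nat.card (restrict o).ker = 16 := by
  rw [← (octadFix_spec ho).1]
  refine Nat.card_congr
    { toFun := fun g => ⟨(g.1 : Equiv.Perm GolayPt), mem_octadFix.2 ⟨g.1.2.1, fun p hp => by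
        have h := congrArg Subtype.val (DFunLike.congr_fun (MonoidHom.mem_ker.1 g.2) ⟨p, hp⟩)
        exact h⟩⟩
      invFun := fun g => ⟨⟨g, fix_le g.2⟩, MonoidHom.mem_ker.2 (Equiv.ext fun x =>
        Subtype.ext ((mem_octadFix.1 g.2).2 x x.2))⟩
      left_inv := fun g => rfl
      right_inv := fun g => rfl }

theorem card_range (ho : o ∈ octads) : Nat.card (restrict o).range = 20160 := by
  have h := Subgroup.card_mul_index (restrict o).ker
  rw [card_ker ho, card_octadStab ho, Subgroup.index_ker] at h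
  omega

theorem eq_alternating (ho : o ∈ octads) {H : Subgroup (Equiv.Perm ↥o)}
    (hH : Nat.card H = 20160) : H = alternatingGroup ↥o := by
  refine Equiv.Perm.eq_alternatingGroup_of_index_eq_two ?_
  have h := Subgroup.card_mul_index H
  rw [hH, Nat.card_perm, Nat.card_eq_finsetCard, ho.2] at h
  norm_num [Nat.factorial] at h
  omega

/-- The induced group on an octad is alternating. -/
theorem range_eq (ho : o ∈ octads) : (restrict o).range = alternatingGroup ↥o :=
  eq_alternating ho (card_range ho)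

/-- The stabiliser of an octad and of a point outside. -/
def pointStab (o : Finset GolayPt) (p : GolayPt) : Subgroup (Equiv.Perm GolayPt) :=
  M24 ⊓ MulAction.stabilizer (Equiv.Perm GolayPt) o ⊓ MulAction.stabilizer (Equiv.Perm GolayPt) p

theorem fix_inf (ho : o ∈ octads) {p : GolayPt} (hp : p ∉ o) :
    octadFix o ⊓ pointStab o p = ⊥ := by
  rw [Subgroup.eq_bot_iff_forall]
  rintro g ⟨hg, hgp⟩
  exact fix_eq_one ho hg hp hgp.2

theorem fix_sup (ho : o ∈ octads) {p : GolayPt} (hp : p ∉ o) :
    octadFix o ⊔ pointStab o p = octadStab o := by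
  refine le_antisymm (sup_le fix_le fun g hg => ⟨hg.1.1, hg.1.2⟩) fun g hg => ?_
  have hgp : g p ∉ o := fun h => hp ((smul_eq_iff.1 hg.2 p).1 h)
  obtain ⟨k, hk, hkp⟩ := exists_fix_move ho hp hgp
  have h : k⁻¹ * g ∈ pointStab o p :=
    ⟨(octadStab o).mul_mem ((octadStab o).inv_mem (fix_le hk)) hg, by
      show (k⁻¹ * g) • p = p
      rw [mul_smul, inv_smul_eq_iff]
      exact hkp.symm⟩
  rw [show g = k * (k⁻¹ * g) by group]
  exact Subgroup.mul_mem_sup hk h

theorem pointStab_le (p : GolayPt) : pointStab o p ≤ octadStab o := fun _ hg => hg.1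

/-- The stabiliser of an octad and a point outside is alternating of degree eight. -/
theorem pointStab_equiv (ho : o ∈ octads) {p : GolayPt} (hp : p ∉ o) :
    Nonempty (pointStab o p ≃* alternatingGroup (Fin 8)) := by
  let f : pointStab o p →* Equiv.Perm ↥o :=
    (restrict o).comp (Subgroup.inclusion (pointStab_le p))
  have hinj : Function.Injective f := by
    rw [injective_iff_map_eq_one]
    rintro ⟨g, hg⟩ hf
    refine Subtype.ext (fix_eq_one ho (mem_octadFix.2 ⟨hg.1.1, fun q hq => ?_⟩) hp hg.2)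
    exact congrArg Subtype.val (DFunLike.congr_fun hf ⟨q, hq⟩)
  have hrange : f.range = (restrict o).range := by
    refine le_antisymm ?_ ?_
    · rintro _ ⟨g, rfl⟩; exact ⟨_, rfl⟩
    · rintro _ ⟨⟨g, hg⟩, rfl⟩
      have hgp : g p ∉ o := fun h => hp ((smul_eq_iff.1 hg.2 p).1 h)
      obtain ⟨k, hk, hkp⟩ := exists_fix_move ho hp hgp
      have hmem : k⁻¹ * g ∈ pointStab o p :=
        ⟨(octadStab o).mul_mem ((octadStab o).inv_mem (fix_le hk)) hg, by
          show (k⁻¹ * g) • p = p
          rw [mul_smul, inv_smul_eq_iff]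
          exact hkp.symm⟩
      refine ⟨⟨_, hmem⟩, Equiv.ext fun x => Subtype.ext ?_⟩
      show (k⁻¹ * g) x = g x
      rw [Equiv.Perm.mul_apply, Equiv.Perm.inv_eq_iff_eq]
      exact ((mem_octadFix.1 hk).2 _ ((smul_eq_iff.1 hg.2 x).2 x.2)).symm
  have e1 : pointStab o p ≃* alternatingGroup ↥o :=
    (MonoidHom.ofInjective hinj).trans (MulEquiv.subgroupCongr (hrange.trans (range_eq ho)))
  exact ⟨e1.trans (Equiv.altCongrHom (Fintype.equivFinOfCardEq (by rw [Fintype.card_coe, ho.2])))⟩

end Cfsg.Agent.Lib.SporStruct.OctadStab
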