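import Cfsg.Agent.Lib.SporStruct.LeechPairs

/-!
Distribution of the inner products of the minimal vectors with a vector of norm 32 or 48.
-/

set_option autoImplicit false

namespace Cfsg.Agent.Lib.SporStruct.LeechCounts

open Cfsg Finset Leech LeechPairs

theorem finite_shell (n : ℕ) : {v : leechLattice | sqNorm (vec v) = (n : ℤ)}.Finite := by
  refine Set.Finite.subset (Set.Finite.preimage (f := fun v : leechLattice => vec v)
    (fun _ _ _ _ h => Subtype.ext h)
    (Fintype.piFinset fun _ : GolayPt => Finset.Icc (-(n : ℤ)) (n : ℤ)).finite_toSet) ?_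
  intro v hv
  simp only [Set.mem_preimage, Finset.mem_coe, Fintype.mem_piFinset, Finset.mem_Icc]
  exact fun i => abs_coord_le v (le_of_eq hv) i

/-- The vectors of a given norm. -/
noncomputable def shell (n : ℕ) : Finset leechLattice := (finite_shell n).toFinset

theorem mem_shell {n : ℕ} {v : leechLattice} : v ∈ shell n ↔ sqNorm (vec v) = (n : ℤ) :=
  Set.Finite.mem_toFinset _

theorem ncard_fun (n : ℕ) (P : (GolayPt → ℤ) → Prop) [DecidablePred P] :
    {x : GolayPt → ℤ | x ∈ leechLattice ∧ sqNorm x = (n : ℤ) ∧ P x}.ncard =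
      ((shell n).filter fun v => P (vec v)).card := by
  rw [← Set.ncard_coe_finset, ← Set.ncard_image_of_injective
    (↑((shell n).filter fun v => P (vec v)) : Set leechLattice)
    (Subtype.val_injective (p := fun x => x ∈ leechLattice))]
  congr 1
  ext x
  simp only [Set.mem_image, Finset.mem_coe, Finset.mem_filter, mem_shell, Set.mem_ofPred_eq]
  constructor
  · rintro ⟨hx, hn, hP⟩
    exact ⟨⟨x, hx⟩, ⟨hn, hP⟩, rfl⟩
  · rintro ⟨v, ⟨hn, hP⟩, rfl⟩
    exact ⟨v.2, hn, hP⟩

theorem card_shell (n : ℕ) :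
    (shell n).card = {x : GolayPt → ℤ | x ∈ leechLattice ∧ sqNorm x = (n : ℤ)}.ncard := by
  have h := ncard_fun n fun _ => True
  simp only [and_true, Finset.filter_true] at h
  exact h.symm

theorem card32 : (shell 32).card = 196560 := (card_shell 32).trans ncard_norm32

theorem card48 : (shell 48).card = 16773120 := (card_shell 48).trans ncard_norm48

theorem card64 : (shell 64).card = 398034000 := (card_shell 64).trans ncard_norm64

/-- Number of minimal vectors with given inner product with a vector. -/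
noncomputable def N (d : ℤ) (v : GolayPt → ℤ) : ℕ :=
  ((shell 32).filter fun w => dotInt v (vec w) = d).card

theorem N_smul (g : Co0) (d : ℤ) (v : leechLattice) : N d (vec (g • v)) = N d (vec v) := by
  refine Finset.card_nbij' (fun w => g⁻¹ • w) (fun w => g • w) ?_ ?_ ?_ ?_
  · intro w hw
    simp only [Finset.mem_coe, Finset.mem_filter, mem_shell] at hw ⊢
    refine ⟨by rw [norm_smul']; exact hw.1, ?_⟩
    rw [← dot_smul g, smul_inv_smul]; exact hw.2
  · intro w hw
    simp only [Finset.mem_coe, Finset.mem_filter, mem_shell] at hw ⊢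
    exact ⟨by rw [norm_smul']; exact hw.1, by rw [dot_smul]; exact hw.2⟩
  · intro w _; exact smul_inv_smul g w
  · intro w _; exact inv_smul_smul g w

theorem N_neg (d : ℤ) (v : GolayPt → ℤ) : N (-d) v = N d v := by
  refine Finset.card_nbij' (fun w => -w) (fun w => -w) ?_ ?_ ?_ ?_
  · intro w hw
    simp only [Finset.mem_coe, Finset.mem_filter, mem_shell, vec, AddSubgroup.coe_neg] at hw ⊢
    refine ⟨by rw [sqNorm_neg]; exact hw.1, by rw [dot_neg_right, hw.2, neg_neg]⟩
  · intro w hw
    simp only [Finset.mem_coe, Finset.mem_filter, mem_shell, vec, AddSubgroup.coe_neg] at hw ⊢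
    refine ⟨by rw [sqNorm_neg]; exact hw.1, by rw [dot_neg_right, hw.2]⟩
  · intro w _; exact neg_neg w
  · intro w _; exact neg_neg w

/-! ### Sums over the minimal vectors -/

theorem flip_mem_shell {n : ℕ} {c : Finset GolayPt} (hc : IsCode c) {w : leechLattice}
    (hw : w ∈ shell n) : Leech.flip c hc • w ∈ shell n := by
  rw [mem_shell] at hw ⊢
  rw [norm_smul', hw]

theorem sum_invariant {n : ℕ} (g : Co0) (f : leechLattice → ℤ) :
    ∑ w ∈ shell n, f (g • w) = ∑ w ∈ shell n, f w :=
  Finset.sum_nbij' (fun w => g • w) (fun w => g⁻¹ • w)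
    (fun w hw => by
      simp only [Finset.mem_coe, mem_shell] at hw ⊢; rw [norm_smul']; exact hw)
    (fun w hw => by
      simp only [Finset.mem_coe, mem_shell] at hw ⊢; rw [norm_smul']; exact hw)
    (fun w _ => inv_smul_smul g w) (fun w _ => smul_inv_smul g w) (fun w _ => rfl)

/-- The sign of a coordinate under a flip. -/
def sgn (c : Finset GolayPt) (i : GolayPt) : ℤ := if i ∈ c then -1 else 1

theorem vec_flip {c : Finset GolayPt} (hc : IsCode c) (w : leechLattice) (i : GolayPt) :
    vec (Leech.flip c hc • w) i = sgn c i * vec w i := by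
  rw [flip_smul, sgn]; split_ifs <;> ring

theorem pair_zero {n : ℕ} {c : Finset GolayPt} (hc : IsCode c) {i j : GolayPt}
    (h : sgn c i * sgn c j = -1) : ∑ w ∈ shell n, vec w i * vec w j = 0 := by
  have h1 := sum_invariant (n := n) (Leech.flip c hc) fun w => vec w i * vec w j
  simp only [vec_flip] at h1
  rw [Finset.sum_congr rfl (g := fun w => -(vec w i * vec w j)) fun w _ => by
    linear_combination (vec w i * vec w j) * h, Finset.sum_neg_distrib] at h1
  omega

theorem quad_zero {n : ℕ} {c : Finset GolayPt} (hc : IsCode c) {i j k l : GolayPt}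
    (h : sgn c i * sgn c j * (sgn c k * sgn c l) = -1) :
    ∑ w ∈ shell n, vec w i * vec w j * (vec w k * vec w l) = 0 := by
  have h1 := sum_invariant (n := n) (Leech.flip c hc)
    fun w => vec w i * vec w j * (vec w k * vec w l)
  simp only [vec_flip] at h1
  rw [Finset.sum_congr rfl (g := fun w => -(vec w i * vec w j * (vec w k * vec w l))) fun w _ => by
    linear_combination (vec w i * vec w j * (vec w k * vec w l)) * h, Finset.sum_neg_distrib] at h1
  omega

theorem perm_apply {σ : Equiv.Perm GolayPt} (hσ : σ ∈ M24) (w : leechLattice) (i : GolayPt) :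
    vec (monomial σ hσ ∅ isCode_empty • w) (σ i) = vec w i := by
  rw [monomial_smul]; simp [signedPerm]

theorem sum_sq (i : GolayPt) : ∑ w ∈ shell 32, vec w i ^ 2 = 262080 := by
  have hc : ∀ j, ∑ w ∈ shell 32, vec w j ^ 2 = ∑ w ∈ shell 32, vec w i ^ 2 := by
    intro j
    obtain ⟨σ, hσ, rfl⟩ := M24_transitive i j
    rw [← sum_invariant (monomial σ hσ ∅ isCode_empty) fun w => vec w (σ i) ^ 2]
    simp only [perm_apply]
  have h : ∑ j, ∑ w ∈ shell 32, vec w j ^ 2 = 196560 * 32 := by
    rw [Finset.sum_comm]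
    show ∑ w ∈ shell 32, sqNorm (vec w) = _
    rw [Finset.sum_congr rfl (g := fun _ => (32 : ℤ)) fun w hw => mem_shell.1 hw,
      Finset.sum_const, card32]
    norm_num
  rw [Finset.sum_congr rfl fun j _ => hc j, Finset.sum_const, Finset.card_univ, card_pt,
    nsmul_eq_mul] at h
  push_cast at h
  linarith

/-- Second moment of the inner products with the minimal vectors. -/
theorem moment2 (v : GolayPt → ℤ) :
    ∑ w ∈ shell 32, dotInt v (vec w) ^ 2 = 262080 * sqNorm v := by
  have hS : ∀ i j, ∑ w ∈ shell 32, vec w i * vec w j = if i = j then 262080 else 0 := by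
    intro i j
    split_ifs with h
    · subst h; rw [← sum_sq i]; simp only [sq]
    · obtain ⟨c, hc, hi, hj⟩ := separated h
      exact pair_zero hc (by simp [sgn, hi, hj])
  calc ∑ w ∈ shell 32, dotInt v (vec w) ^ 2
      = ∑ w ∈ shell 32, ∑ i, ∑ j, v i * v j * (vec w i * vec w j) := by
        refine Finset.sum_congr rfl fun w _ => ?_
        rw [dotInt, sq, Finset.sum_mul_sum]
        exact Finset.sum_congr rfl fun i _ => Finset.sum_congr rfl fun j _ => by ring
    _ = ∑ i, ∑ j, v i * v j * ∑ w ∈ shell 32, vec w i * vec w j := by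
        rw [Finset.sum_comm]
        refine Finset.sum_congr rfl fun i _ => ?_
        rw [Finset.sum_comm]
        exact Finset.sum_congr rfl fun j _ => (Finset.mul_sum _ _ _).symm
    _ = 262080 * sqNorm v := by
        simp only [hS, mul_ite, mul_zero, Finset.sum_ite_eq, Finset.mem_univ, if_true,
          sqNorm, Finset.mul_sum]
        exact Finset.sum_congr rfl fun i _ => by ring

/-- The sum of the fourth powers of a coordinate. -/
noncomputable def P : ℤ := ∑ w ∈ shell 32, vec w none ^ 4

/-- The sum of the products of two squared coordinates. -/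
noncomputable def Q : ℤ := ∑ w ∈ shell 32, vec w none ^ 2 * vec w (some 0) ^ 2

theorem sum_four (i : GolayPt) : ∑ w ∈ shell 32, vec w i ^ 4 = P := by
  obtain ⟨σ, hσ, rfl⟩ := M24_transitive none i
  rw [← sum_invariant (monomial σ hσ ∅ isCode_empty) fun w => vec w (σ none) ^ 4]
  simp only [perm_apply, P]

theorem sum_two_two {i j : GolayPt} (h : i ≠ j) :
    ∑ w ∈ shell 32, vec w i ^ 2 * vec w j ^ 2 = Q := by
  obtain ⟨σ, hσ, rfl, rfl⟩ := M24_two (i := none) (j := some 0) (by simp) h
  rw [← sum_invariant (monomial σ hσ ∅ isCode_empty)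
    fun w => vec w (σ none) ^ 2 * vec w (σ (some 0)) ^ 2]
  simp only [perm_apply, Q]

theorem P_add_Q : 24 * P + 552 * Q = 1024 * 196560 := by
  have h : ∑ w ∈ shell 32, sqNorm (vec w) ^ 2 = 1024 * 196560 := by
    rw [Finset.sum_congr rfl (g := fun _ => (1024 : ℤ)) fun w hw => by rw [mem_shell.1 hw]; rfl,
      Finset.sum_const, card32]
    norm_num
  have e : ∀ w : leechLattice,
      sqNorm (vec w) ^ 2 = ∑ i, ∑ j, vec w i ^ 2 * vec w j ^ 2 := fun w => by
    rw [sqNorm, sq, Finset.sum_mul_sum]
  simp only [e] at h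
  rw [Finset.sum_comm] at h
  simp only [Finset.sum_comm (s := shell 32)] at h
  have hS : ∀ i j, ∑ w ∈ shell 32, vec w i ^ 2 * vec w j ^ 2 =
      Q + (if i = j then P - Q else 0) := by
    intro i j
    split_ifs with hij
    · subst hij
      rw [← sum_four i, add_sub_cancel]
      exact Finset.sum_congr rfl fun w _ => by ring
    · rw [add_zero, sum_two_two hij]
  simp only [hS, Finset.sum_add_distrib, Finset.sum_ite_eq, Finset.mem_univ, if_true,
    Finset.sum_const, Finset.card_univ, card_pt, nsmul_eq_mul] at h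
  push_cast at h
  linarith

/-! ### Inner products with a minimal vector -/

theorem fiber_sum {v : GolayPt → ℤ} {S : Finset ℤ}
    (hS : ∀ w ∈ shell 32, dotInt v (vec w) ∈ S) (f : ℤ → ℤ) :
    ∑ w ∈ shell 32, f (dotInt v (vec w)) = ∑ d ∈ S, (N d v : ℤ) * f d := by
  rw [← Finset.sum_fiberwise_of_maps_to hS]
  refine Finset.sum_congr rfl fun d _ => ?_
  rw [Finset.sum_congr rfl (g := fun _ => f d) fun w hw => by rw [(Finset.mem_filter.1 hw).2],
    Finset.sum_const, nsmul_eq_mul]
  rfl

theorem N32 {v : leechLattice} (hv : sqNorm (vec v) = 32) : N 32 (vec v) = 1 := by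
  rw [N, Finset.card_eq_one]
  refine ⟨v, Finset.ext fun w => ?_⟩
  simp only [Finset.mem_filter, mem_shell, Finset.mem_singleton]
  constructor
  · rintro ⟨hw, hd⟩
    refine Subtype.ext (sub_eq_zero.1 (sqNorm_eq_zero.1 ?_)).symm
    rw [sqNorm_sub, hv, hw, hd]; norm_num
  · rintro rfl
    exact ⟨hv, by rw [dot_self]; exact hv⟩

theorem four_of_four {u : GolayPt → ℤ} (hu : u ∈ leechLattice) (hn : sqNorm u = 32) {i : GolayPt}
    (hi : u i = 4) : ∀ k, u k = 0 ∨ u k = 4 ∨ u k = -4 := by
  intro k
  have he : EvenVec u := (mem_leech_iff.1 hu).resolve_right fun ho => by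
    have := ho.1 i; omega
  have hk : k ∉ res 2 u := fun hk => by
    obtain ⟨-, hs2, hs0⟩ := even32_shape he hn hk
    by_cases hi2 : i ∈ res 2 u
    · have := mem_res.1 hi2; omega
    · have := hs0 i hi2; omega
  rw [mem_res] at hk
  have := he.1 k
  have := coord_le_five hn k
  omega

theorem N32_eight {x : leechLattice} (hx : sqNorm (vec x) = 64) : N 32 (vec x) = 46 := by
  obtain ⟨g, hg⟩ := transitive64 hx
  rw [← N_smul g, hg]
  classical
  let F : GolayPt × Bool → leechLattice := fun p => if p.2 then pp none p.1 else pn none p.1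
  have hF : ∀ p : GolayPt × Bool, p.1 ≠ none →
      ∀ k, vec (F p) k = if k = none then 4 else if k = p.1 then (if p.2 then 4 else -4) else 0 := by
    rintro ⟨j, s⟩ hj k
    cases s <;> by_cases h1 : k = none <;> by_cases h2 : k = j <;>
      simp_all [F, pp, pn, vec]
  have himg : ((shell 32).filter fun w => dotInt (vec (eightE none)) (vec w) = 32) =
      (((univ : Finset GolayPt).erase none) ×ˢ (univ : Finset Bool)).image F := by
    ext w
    have hdot : dotInt (vec (eightE none)) (vec w) = 8 * vec w none := by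
      simp [dotInt, eightE, vec, Pi.single_apply, ite_mul]
    simp only [Finset.mem_filter, mem_shell, hdot, Finset.mem_image, Finset.mem_product,
      Finset.mem_erase, Finset.mem_univ, and_true, Nat.cast_ofNat]
    constructor
    · rintro ⟨hw, hd⟩
      have hn4 : vec w none = 4 := by omega
      have h4 : ∀ k, vec w k = 0 ∨ vec w k = 4 ∨ vec w k = -4 := four_of_four w.2 hw hn4
      have hsum : sqNorm (vec w) = 16 + ∑ k ∈ univ.erase none, vec w k ^ 2 := by
        rw [sqNorm, ← Finset.add_sum_erase _ _ (Finset.mem_univ none), hn4]; norm_num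
      obtain ⟨j, hj, hj0⟩ : ∃ j ∈ (univ : Finset GolayPt).erase none, vec w j ≠ 0 := by
        by_contra hall
        push Not at hall
        rw [Finset.sum_congr rfl (g := fun _ => (0 : ℤ)) fun k hk => by rw [hall k hk]; rfl,
          Finset.sum_const_zero, hw] at hsum
        norm_num at hsum
      have hjn := Finset.ne_of_mem_erase hj
      have hj16 : vec w j ^ 2 = 16 := by
        rcases h4 j with e | e | e
        · exact absurd e hj0
        · rw [e]; norm_num
        · rw [e]; norm_num
      refine ⟨(j, decide (0 < vec w j)), hjn, ?_⟩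
      apply Subtype.ext
      funext k
      show vec (F (j, decide (0 < vec w j))) k = vec w k
      rw [hF _ hjn]
      by_cases hk : k = none
      · rw [if_pos hk, hk, hn4]
      rw [if_neg hk]
      by_cases hkj : k = j
      · subst hkj
        rw [if_pos rfl]
        rcases h4 k with e | e | e <;> simp_all
      · rw [if_neg hkj]
        have h2 := Finset.sum_le_sum_of_subset_of_nonneg (f := fun i => vec w i ^ 2)
          (show ({j, k} : Finset GolayPt) ⊆ univ.erase none by
            simp [Finset.insert_subset_iff, hjn, hk]) fun i _ _ => sq_nonneg _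
        rw [Finset.sum_pair (Ne.symm hkj), hj16] at h2
        have h0 : vec w k ^ 2 ≤ 0 := by linarith [hw, hsum, h2]
        exact (pow_eq_zero_iff two_ne_zero |>.mp (le_antisymm h0 (sq_nonneg _))).symm
    · rintro ⟨⟨j, s⟩, hj, rfl⟩
      refine ⟨?_, ?_⟩
      · cases s
        · exact norm_pn (Ne.symm hj)
        · exact norm_pp (Ne.symm hj)
      · rw [hF _ hj, if_pos rfl]; norm_num
  rw [N, himg, Finset.card_image_of_injOn]
  · rw [Finset.card_product, Finset.card_erase_of_mem (Finset.mem_univ _), Finset.card_univ,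
      card_pt]
    rfl
  · rintro ⟨j, s⟩ hj ⟨j', s'⟩ hj' he
    simp only [Finset.mem_coe, Finset.mem_product, Finset.mem_erase, Finset.mem_univ, and_true]
      at hj hj'
    have e := congrFun (congrArg vec he) j
    rw [hF _ hj, hF _ hj', if_neg hj, if_neg hj, if_pos rfl] at e
    by_cases hjj : j = j'
    · subst hjj
      cases s <;> cases s' <;> simp_all
    · rw [if_neg hjj] at e
      cases s <;> simp_all

theorem sigma_count {S T : Finset leechLattice} (A : leechLattice → Finset leechLattice)
    (B : leechLattice → Finset leechLattice) {a b : ℕ} (hA : ∀ v ∈ S, (A v).card = a)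
    (hB : ∀ v ∈ T, (B v).card = b) (f g : leechLattice × leechLattice → leechLattice × leechLattice)
    (hf : ∀ v ∈ S, ∀ w ∈ A v, (f (v, w)).1 ∈ T ∧ (f (v, w)).2 ∈ B (f (v, w)).1 ∧ g (f (v, w)) = (v, w))
    (hg : ∀ v ∈ T, ∀ w ∈ B v, (g (v, w)).1 ∈ S ∧ (g (v, w)).2 ∈ A (g (v, w)).1 ∧ f (g (v, w)) = (v, w)) :
    S.card * a = T.card * b := by
  have h1 : (S.sigma A).card = S.card * a := by
    rw [Finset.card_sigma, Finset.sum_congr rfl hA, Finset.sum_const, smul_eq_mul]
  have h2 : (T.sigma B).card = T.card * b := by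
    rw [Finset.card_sigma, Finset.sum_congr rfl hB, Finset.sum_const, smul_eq_mul]
  rw [← h1, ← h2]
  refine Finset.card_nbij' (fun p => ⟨(f (p.1, p.2)).1, (f (p.1, p.2)).2⟩)
    (fun p => ⟨(g (p.1, p.2)).1, (g (p.1, p.2)).2⟩) ?_ ?_ ?_ ?_
  · rintro ⟨v, w⟩ hp
    rw [Finset.mem_coe, Finset.mem_sigma] at hp ⊢
    exact ⟨(hf v hp.1 w hp.2).1, (hf v hp.1 w hp.2).2.1⟩
  · rintro ⟨v, w⟩ hp
    rw [Finset.mem_coe, Finset.mem_sigma] at hp ⊢
    exact ⟨(hg v hp.1 w hp.2).1, (hg v hp.1 w hp.2).2.1⟩
  · rintro ⟨v, w⟩ hp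
    rw [Finset.mem_coe, Finset.mem_sigma] at hp
    simp only [(hf v hp.1 w hp.2).2.2]
  · rintro ⟨v, w⟩ hp
    rw [Finset.mem_coe, Finset.mem_sigma] at hp
    simp only [(hg v hp.1 w hp.2).2.2]

theorem N_const32 {v v' : leechLattice} (hv : sqNorm (vec v) = 32) (hv' : sqNorm (vec v') = 32)
    (d : ℤ) : N d (vec v) = N d (vec v') := by
  obtain ⟨g, hg⟩ := transitive32 (p := none) (q := some 0) (by simp) hv
  obtain ⟨g', hg'⟩ := transitive32 (p := none) (q := some 0) (by simp) hv'
  rw [← N_smul g, hg, ← hg', N_smul g']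

theorem N0 {v : leechLattice} (hv : sqNorm (vec v) = 32) : N 0 (vec v) = 93150 := by
  have h := sigma_count (S := shell 32) (T := shell 64)
    (fun v => (shell 32).filter fun w => dotInt (vec v) (vec w) = 0)
    (fun x => (shell 32).filter fun w => dotInt (vec x) (vec w) = 32)
    (a := N 0 (vec v)) (b := 46)
    (fun u hu => N_const32 (mem_shell.1 hu) hv 0) (fun x hx => N32_eight (mem_shell.1 hx))
    (fun p => (p.1 + p.2, p.2)) (fun p => (p.1 - p.2, p.2))
    (fun x hx w hw => by
      simp only [Finset.mem_filter, mem_shell, vec, AddSubgroup.coe_add] at *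
      refine ⟨by rw [sqNorm_add, hx, hw.1, hw.2]; norm_num, ⟨hw.1, ?_⟩, by simp⟩
      rw [dot_comm, dot_add_right, dot_self, dot_comm, hw.2, hw.1]; norm_num)
    (fun x hx w hw => by
      simp only [Finset.mem_filter, mem_shell, vec, AddSubgroup.coe_sub] at *
      refine ⟨by rw [sqNorm_sub, hx, hw.1, hw.2]; norm_num, ⟨hw.1, ?_⟩, by simp⟩
      rw [dot_comm, dot_sub_right, dot_self, dot_comm, hw.2, hw.1]; norm_num)
  rw [card32, card64] at h
  omega

/-- The inner products of the minimal vectors with one of them. -/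
theorem count32 {v : leechLattice} (hv : sqNorm (vec v) = 32) :
    N (-16) (vec v) = 4600 ∧ N 16 (vec v) = 4600 ∧ N (-8) (vec v) = 47104 ∧
      N 8 (vec v) = 47104 ∧ N 0 (vec v) = 93150 := by
  have hS : ∀ w ∈ shell 32, dotInt (vec v) (vec w) ∈ ({-32, -16, -8, 0, 8, 16, 32} : Finset ℤ) := by
    intro w hw
    rcases dot_cases v.2 w.2 hv (mem_shell.1 hw) with h | h | h | h | h | h | h <;> simp [h]
  have h0 := fiber_sum hS fun _ => 1
  have h2 := fiber_sum hS fun d => d ^ 2
  rw [Finset.sum_const, card32] at h0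
  rw [moment2, hv] at h2
  simp [N_neg, N32 hv, N0 hv] at h0 h2
  refine ⟨?_, ?_, ?_, ?_, N0 hv⟩ <;> (try simp only [N_neg]) <;> omega

/-- Inner products of a vector of norm `48` with the minimal vectors are bounded. -/
theorem dot_cases48 {u w : GolayPt → ℤ} (hu : u ∈ leechLattice) (hw : w ∈ leechLattice)
    (hun : sqNorm u = 48) (hwn : sqNorm w = 32) :
    dotInt u w = -24 ∨ dotInt u w = -16 ∨ dotInt u w = -8 ∨ dotInt u w = 0 ∨ dotInt u w = 8 ∨
      dotInt u w = 16 ∨ dotInt u w = 24 := by
  have h8 := dotInt_dvd hu hw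
  have hp := sqNorm_add u w
  have hm := sqNorm_sub u w
  by_cases h1 : u + w = 0
  · rw [eq_neg_of_add_eq_zero_left h1, sqNorm_neg, hwn] at hun
    norm_num at hun
  by_cases h2 : u - w = 0
  · rw [sub_eq_zero.1 h2, hwn] at hun
    norm_num at hun
  have := sqNorm_ge (leechLattice.add_mem hu hw) h1
  have := sqNorm_ge (leechLattice.sub_mem hu hw) h2
  omega

theorem N_const48 {v v' : leechLattice} (hv : sqNorm (vec v) = 48) (hv' : sqNorm (vec v') = 48)
    (d : ℤ) : N d (vec v) = N d (vec v') := by
  obtain ⟨D, hD⟩ : dodecads.Nonempty :=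
    Set.nonempty_of_ncard_ne_zero (by rw [Golay.ncard_dodecads]; norm_num)
  obtain ⟨g, hg⟩ := transitive48 hD hv
  obtain ⟨g', hg'⟩ := transitive48 hD hv'
  rw [← N_smul g, hg, ← hg', N_smul g']

theorem N24 {u : leechLattice} (hu : sqNorm (vec u) = 48) : N 24 (vec u) = 552 := by
  have h := sigma_count (S := shell 32) (T := shell 48)
    (fun v => (shell 32).filter fun w => dotInt (vec v) (vec w) = -8)
    (fun x => (shell 32).filter fun w => dotInt (vec x) (vec w) = 24)
    (a := 47104) (b := N 24 (vec u))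
    (fun v hv => (count32 (mem_shell.1 hv)).2.2.1)
    (fun x hx => N_const48 (mem_shell.1 hx) hu 24)
    (fun p => (p.1 + p.2, p.2)) (fun p => (p.1 - p.2, p.2))
    (fun x hx w hw => by
      simp only [Finset.mem_filter, mem_shell, vec, AddSubgroup.coe_add] at *
      refine ⟨by rw [sqNorm_add, hx, hw.1, hw.2]; norm_num, ⟨hw.1, ?_⟩, by simp⟩
      rw [dot_comm, dot_add_right, dot_self, dot_comm, hw.2, hw.1]; norm_num)
    (fun x hx w hw => by
      simp only [Finset.mem_filter, mem_shell, vec, AddSubgroup.coe_sub] at *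
      refine ⟨by rw [sqNorm_sub, hx, hw.1, hw.2]; norm_num, ⟨hw.1, ?_⟩, by simp⟩
      rw [dot_comm, dot_sub_right, dot_self, dot_comm, hw.2, hw.1]; norm_num)
  rw [card32, card48] at h
  omega

theorem P_eq_Q : P = 3 * Q ∧ Q = 322560 := by
  obtain ⟨v, hv⟩ : ∃ v : leechLattice, sqNorm (vec v) = 32 :=
    ⟨pp none (some 0), norm_pp (by simp)⟩
  have hab : (none : GolayPt) ≠ some 0 := by simp
  have hv := norm_pp hab
  have hS : ∀ w ∈ shell 32, dotInt (vec (pp none (some 0))) (vec w) ∈
      ({-32, -16, -8, 0, 8, 16, 32} : Finset ℤ) := by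
    intro w hw
    rcases dot_cases (pp none (some 0)).2 w.2 hv (mem_shell.1 hw) with h | h | h | h | h | h | h <;>
      simp [h]
  have h4 := fiber_sum hS fun d => d ^ 4
  obtain ⟨-, c16, -, c8, c0⟩ := count32 hv
  simp [N_neg, N32 hv, c16, c8, c0] at h4
  obtain ⟨c, hc, hcn, hc0⟩ := separated hab
  have e31 : ∑ w ∈ shell 32, vec w none * vec w none * (vec w none * vec w (some 0)) = 0 :=
    quad_zero hc (by simp [sgn, hcn, hc0])
  have e13 : ∑ w ∈ shell 32, vec w none * vec w (some 0) * (vec w (some 0) * vec w (some 0)) = 0 :=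
    quad_zero hc (by simp [sgn, hcn, hc0])
  rw [Finset.sum_congr rfl (g := fun w => 256 * vec w none ^ 4 + 256 * vec w (some 0) ^ 4 +
      1536 * (vec w none ^ 2 * vec w (some 0) ^ 2) +
      1024 * (vec w none * vec w none * (vec w none * vec w (some 0))) +
      1024 * (vec w none * vec w (some 0) * (vec w (some 0) * vec w (some 0))))
    fun w _ => by rw [dot_pp]; ring] at h4
  simp only [Finset.sum_add_distrib, ← Finset.mul_sum, sum_four, sum_two_two hab, e31, e13] at h4
  have := P_add_Q
  omega

theorem tensor4 (i j k l : GolayPt) :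
    ∑ w ∈ shell 32, vec w i * vec w j * (vec w k * vec w l) =
      Q * ((if i = j ∧ k = l then 1 else 0) + (if i = k ∧ j = l then 1 else 0) +
        (if i = l ∧ j = k then 1 else 0)) := by
  by_cases hij : i = j
  · subst hij
    by_cases hkl : k = l
    · subst hkl
      by_cases hik : i = k
      · subst hik
        rw [Finset.sum_congr rfl (g := fun w => vec w i ^ 4) fun w _ => by ring, sum_four,
          P_eq_Q.1]
        simp
        ring
      · rw [Finset.sum_congr rfl (g := fun w => vec w i ^ 2 * vec w k ^ 2) fun w _ => by ring,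
          sum_two_two hik]
        simp [hik]
    · obtain ⟨c, hc, hk, hl⟩ := separated hkl
      rw [quad_zero hc (by by_cases h : i ∈ c <;> simp [sgn, h, hk, hl])]
      have : ¬(i = k ∧ i = l) := fun h => hkl (h.1.symm.trans h.2)
      have : ¬(i = l ∧ i = k) := fun h => hkl (h.2.symm.trans h.1)
      simp [hkl, *]
  by_cases hkl : k = l
  · subst hkl
    obtain ⟨c, hc, hi, hj⟩ := separated hij
    rw [quad_zero hc (by by_cases h : k ∈ c <;> simp [sgn, h, hi, hj])]
    have : ¬(i = k ∧ j = k) := fun h => hij (h.1.trans h.2.symm)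
    simp [hij, this]
  by_cases hik : i = k
  · subst hik
    by_cases hjl : j = l
    · subst hjl
      rw [Finset.sum_congr rfl (g := fun w => vec w i ^ 2 * vec w j ^ 2) fun w _ => by ring,
        sum_two_two hij]
      simp [hij, hkl]
    · obtain ⟨c, hc, hj, hl⟩ := separated hjl
      rw [quad_zero hc (by by_cases h : i ∈ c <;> simp [sgn, h, hj, hl])]
      simp [hij, hkl, hjl]
  by_cases hil : i = l
  · subst hil
    by_cases hjk : j = k
    · subst hjk
      rw [Finset.sum_congr rfl (g := fun w => vec w i ^ 2 * vec w j ^ 2) fun w _ => by ring,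
        sum_two_two hij]
      simp [hij, hik]
    · obtain ⟨c, hc, hj, hk⟩ := separated hjk
      rw [quad_zero hc (by by_cases h : i ∈ c <;> simp [sgn, h, hj, hk])]
      simp [hij, hik, hjk]
  by_cases hjk : j = k
  · subst hjk
    obtain ⟨c, hc, hi, hl⟩ := separated hil
    rw [quad_zero hc (by by_cases h : j ∈ c <;> simp [sgn, h, hi, hl])]
    simp [hij, hil]
  by_cases hjl : j = l
  · subst hjl
    obtain ⟨c, hc, hi, hk⟩ := separated hik
    rw [quad_zero hc (by by_cases h : j ∈ c <;> simp [sgn, h, hi, hk])]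
    simp [hij, hik]
  have hcard : ({i, j, k, l} : Finset GolayPt).card = 4 :=
    Finset.card_eq_four.2 ⟨i, j, k, l, hij, hik, hil, hjk, hjl, hkl, rfl⟩
  obtain ⟨c, hc, hodd⟩ := exists_odd_code hcard
  rw [quad_zero hc ?_]
  · simp [hij, hik, hil]
  · have h : (c ∩ {i, j, k, l}).card =
        (if i ∈ c then 1 else 0) + (if j ∈ c then 1 else 0) + (if k ∈ c then 1 else 0) +
          (if l ∈ c then 1 else 0) := by
      rw [Finset.inter_comm, ← Finset.filter_mem_eq_inter, Finset.card_filter,
        Finset.sum_insert (by simp [hij, hik, hil]), Finset.sum_insert (by simp [hjk, hjl]),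
        Finset.sum_pair hkl]
      ring
    by_cases h1 : i ∈ c <;> by_cases h2 : j ∈ c <;> by_cases h3 : k ∈ c <;>
      by_cases h4 : l ∈ c <;>
      simp only [sgn, h1, h2, h3, h4, if_true, if_false] at h ⊢ <;> omega

/-- Fourth moment of the inner products with the minimal vectors. -/
theorem moment4 (v : GolayPt → ℤ) :
    ∑ w ∈ shell 32, dotInt v (vec w) ^ 4 = 967680 * sqNorm v ^ 2 := by
  calc ∑ w ∈ shell 32, dotInt v (vec w) ^ 4
      = ∑ w ∈ shell 32, ∑ i, ∑ j, ∑ k, ∑ l,
          v i * v j * (v k * v l) * (vec w i * vec w j * (vec w k * vec w l)) := by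
        refine Finset.sum_congr rfl fun w _ => ?_
        rw [dotInt, show ∀ x : ℤ, x ^ 4 = x * x * (x * x) from fun x => by ring,
          Finset.sum_mul_sum]
        simp only [Finset.sum_mul, Finset.mul_sum]
        refine Finset.sum_congr rfl fun i _ => Finset.sum_congr rfl fun j _ =>
          Finset.sum_congr rfl fun k _ => Finset.sum_congr rfl fun l _ => ?_
        ring
    _ = ∑ i, ∑ j, ∑ k, ∑ l, v i * v j * (v k * v l) *
          ∑ w ∈ shell 32, vec w i * vec w j * (vec w k * vec w l) := by
        simp only [Finset.mul_sum]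
        rw [Finset.sum_comm]
        refine Finset.sum_congr rfl fun i _ => ?_
        rw [Finset.sum_comm]
        refine Finset.sum_congr rfl fun j _ => ?_
        rw [Finset.sum_comm]
        refine Finset.sum_congr rfl fun k _ => ?_
        rw [Finset.sum_comm]
    _ = 967680 * sqNorm v ^ 2 := by
        simp only [tensor4, mul_add, mul_ite, mul_one, mul_zero, Finset.sum_add_distrib,
          ite_and, Finset.sum_ite_irrel, Finset.sum_const_zero, Finset.sum_ite_eq,
          Finset.mem_univ, if_true]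
        simp only [sqNorm, P_eq_Q.2, sq, Finset.sum_mul, Finset.mul_sum, ← Finset.sum_add_distrib]
        refine Finset.sum_congr rfl fun i _ => Finset.sum_congr rfl fun j _ => ?_
        ring

/-- The inner products of the minimal vectors with a vector of norm `48`. -/
theorem count48 {u : leechLattice} (hu : sqNorm (vec u) = 48) :
    N (-24) (vec u) = 552 ∧ N 24 (vec u) = 552 ∧ N (-16) (vec u) = 11178 ∧
      N 16 (vec u) = 11178 ∧ N (-8) (vec u) = 48600 ∧ N 8 (vec u) = 48600 := by
  have hS : ∀ w ∈ shell 32, dotInt (vec u) (vec w) ∈ ({-24, -16, -8, 0, 8, 16, 24} : Finset ℤ) := by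
    intro w hw
    rcases dot_cases48 u.2 w.2 hu (mem_shell.1 hw) with h | h | h | h | h | h | h <;> simp [h]
  have h2 := fiber_sum hS fun d => d ^ 2
  have h4 := fiber_sum hS fun d => d ^ 4
  rw [moment2, hu] at h2
  rw [moment4, hu] at h4
  simp [N_neg, N24 hu] at h2 h4
  refine ⟨?_, N24 hu, ?_, ?_, ?_, ?_⟩
  · rw [N_neg, N24 hu]
  all_goals (try simp only [N_neg])
  all_goals omega

end Cfsg.Agent.Lib.SporStruct.LeechCounts
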