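import Cfsg.Agent.Lib.Leech.Order
import Cfsg.Agent.Lib.Golay.Stabilizers

/-!
Pairs of short vectors in the rank-24 lattice up to automorphisms.
-/

set_option autoImplicit false

namespace Cfsg.Agent.Lib.SporStruct.LeechPairs

open Cfsg Finset Leech

variable {a b : GolayPt}

/-- `4 e a + 4 e b`. -/
def pp (a b : GolayPt) : leechLattice :=
  ⟨Pi.single a (4 * 1) + Pi.single b (4 * 1), four_pm_mem 1 1 rfl⟩

/-- `4 e a - 4 e b`. -/
def pn (a b : GolayPt) : leechLattice :=
  ⟨Pi.single a (4 * 1) + Pi.single b (4 * -1), four_pm_mem 1 (-1) rfl⟩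

theorem dot_pair (c d : GolayPt) (p q : ℤ) (u : GolayPt → ℤ) :
    dotInt (Pi.single c p + Pi.single d q) u = p * u c + q * u d := by
  simp [dotInt, add_mul, Finset.sum_add_distrib, Pi.single_apply, ite_mul]

theorem norm_pair {c d : GolayPt} (h : c ≠ d) (p q : ℤ) :
    sqNorm (Pi.single c p + Pi.single d q : GolayPt → ℤ) = p ^ 2 + q ^ 2 := by
  have hs : sqNorm (Pi.single c p + Pi.single d q : GolayPt → ℤ) =
      dotInt (Pi.single c p + Pi.single d q) (Pi.single c p + Pi.single d q) :=
    Finset.sum_congr rfl fun i _ => sq _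
  rw [hs, dot_pair]
  simp [Pi.single_apply, h, Ne.symm h]
  ring

theorem dot_comm (x y : GolayPt → ℤ) : dotInt x y = dotInt y x :=
  Finset.sum_congr rfl fun i _ => mul_comm _ _

theorem dot_self (x : GolayPt → ℤ) : dotInt x x = sqNorm x :=
  Finset.sum_congr rfl fun i _ => (sq _).symm

theorem dot_add_right (x y z : GolayPt → ℤ) : dotInt x (y + z) = dotInt x y + dotInt x z := by
  simp [dotInt, mul_add, Finset.sum_add_distrib]

theorem dot_sub_right (x y z : GolayPt → ℤ) : dotInt x (y - z) = dotInt x y - dotInt x z := by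
  simp [dotInt, mul_sub, Finset.sum_sub_distrib]

theorem dot_neg_right (x y : GolayPt → ℤ) : dotInt x (-y) = -dotInt x y := by
  simp [dotInt]

theorem norm_pp (h : a ≠ b) : sqNorm (vec (pp a b)) = 32 := by
  rw [pp, vec, norm_pair h]; norm_num

theorem dot_pp (u : GolayPt → ℤ) : dotInt (vec (pp a b)) u = 4 * (u a + u b) := by
  rw [pp, vec, dot_pair]; ring

theorem norm_pn (h : a ≠ b) : sqNorm (vec (pn a b)) = 32 := by
  rw [pn, vec, norm_pair h]; norm_num

theorem dot_pn (u : GolayPt → ℤ) : dotInt (vec (pn a b)) u = 4 * (u a - u b) := by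
  rw [pn, vec, dot_pair]; ring

/-- An orthogonal pair of minimal vectors can be moved to the standard one. -/
theorem orth_std (hab : a ≠ b) {v w : leechLattice} (hv : sqNorm (vec v) = 32)
    (hw : sqNorm (vec w) = 32) (hd : dotInt (vec v) (vec w) = 0) :
    ∃ g : Co0, g • v = pp a b ∧ g • w = pn a b := by
  have hxn : sqNorm (vec (v + w)) = 64 := by
    simp only [vec, AddSubgroup.coe_add, sqNorm_add] at *; omega
  have hyn : sqNorm (vec (v - w)) = 64 := by
    simp only [vec, AddSubgroup.coe_sub, sqNorm_sub] at *; omega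
  obtain ⟨g₁, hg₁⟩ := transitive64 hxn
  have hdiff : eightE none - g₁ • (v - w) = (2 : ℤ) • (g₁ • w) := by
    rw [← hg₁, smul_add', smul_sub', two_zsmul]; abel
  obtain ⟨j, hj⟩ := eight_congr (by rw [norm_smul', hyn]) hdiff
  have hxy : dotInt (vec (eightE none)) (vec (g₁ • (v - w))) = 0 := by
    rw [← hg₁, dot_smul]
    simp only [vec, AddSubgroup.coe_add, AddSubgroup.coe_sub] at *
    rw [dot_sub_right, dot_comm _ (v : GolayPt → ℤ), dot_comm _ (w : GolayPt → ℤ),
      dot_add_right, dot_add_right, dot_self, dot_self, dot_comm (w : GolayPt → ℤ) v]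
    omega
  have hjn : none ≠ j := by
    intro e
    subst e
    rcases hj with h | h <;> rw [h] at hxy
    · rw [dot_self, sqNorm_eightE] at hxy; omega
    · simp only [vec, AddSubgroup.coe_neg] at hxy
      rw [dot_neg_right, dot_self, sqNorm_eightE] at hxy; omega
  obtain ⟨σ, hσ, hσa, hσb⟩ := M24_two hjn hab
  obtain ⟨h, hha, hhb⟩ : ∃ h : Co0, h • eightE none = eightE a ∧
      h • (g₁ • (v - w)) = eightE b := by
    rcases hj with hj | hj
    · exact ⟨monomial σ hσ ∅ isCode_empty, by rw [monomial_eightE, hσa],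
        by rw [hj, monomial_eightE, hσb]⟩
    · obtain ⟨c, hc, hcb, hca⟩ := separated (Ne.symm hab)
      refine ⟨monomial σ hσ c hc, ?_, ?_⟩
      · rw [monomial_apply_eightE, hσa, if_neg hca]
      · rw [hj, smul_neg', monomial_apply_eightE, hσb, if_pos hcb, neg_neg]
  refine ⟨h * g₁, ?_, ?_⟩
  all_goals
    rw [mul_smul]
    apply leech_zsmul_injective (n := 2) two_ne_zero
    simp only []
  · have e : (2 : ℤ) • (h • (g₁ • v)) = h • (g₁ • (v + w)) + h • (g₁ • (v - w)) := by
      simp only [smul_add', smul_sub', two_zsmul]; abel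
    rw [e, hg₁, hha, hhb]
    apply Subtype.ext
    funext k
    simp [eightE, pp, Pi.single_apply]
    split_ifs <;> omega
  · have e : (2 : ℤ) • (h • (g₁ • w)) = h • (g₁ • (v + w)) - h • (g₁ • (v - w)) := by
      simp only [smul_add', smul_sub', two_zsmul]; abel
    rw [e, hg₁, hha, hhb]
    apply Subtype.ext
    funext k
    simp [eightE, pn, Pi.single_apply]
    split_ifs <;> omega

/-- Two orthogonal pairs of minimal vectors are conjugate. -/
theorem orth_transitive {v w w' : leechLattice} (hv : sqNorm (vec v) = 32)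
    (hw : sqNorm (vec w) = 32) (hw' : sqNorm (vec w') = 32) (hd : dotInt (vec v) (vec w) = 0)
    (hd' : dotInt (vec v) (vec w') = 0) : ∃ g : Co0, g • v = v ∧ g • w = w' := by
  have hab : (none : GolayPt) ≠ some 0 := by simp
  obtain ⟨g, hg1, hg2⟩ := orth_std hab hv hw hd
  obtain ⟨g', hg1', hg2'⟩ := orth_std hab hv hw' hd'
  refine ⟨g'⁻¹ * g, ?_, ?_⟩
  · rw [mul_smul, hg1, ← hg1', inv_smul_smul]
  · rw [mul_smul, hg2, ← hg2', inv_smul_smul]

/-! ### Small coordinates -/

theorem sub_pair_le (u : GolayPt → ℤ) (S : Finset GolayPt) : ∑ i ∈ S, u i ^ 2 ≤ sqNorm u :=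
  Finset.sum_le_sum_of_subset_of_nonneg (Finset.subset_univ S) fun i _ _ => sq_nonneg _

theorem two_le (u : GolayPt → ℤ) {i j : GolayPt} (h : i ≠ j) : u i ^ 2 + u j ^ 2 ≤ sqNorm u := by
  have := sub_pair_le u {i, j}
  rwa [Finset.sum_pair h] at this

/-- For odd vectors the excess over `1` of the squares is bounded by that of the norm. -/
theorem odd_excess {u : GolayPt → ℤ} (ho : OddVec u) (S : Finset GolayPt) :
    ∑ i ∈ S, (u i ^ 2 - 1) ≤ sqNorm u - 24 := by
  have h1 : ∀ i, 1 ≤ u i ^ 2 := fun i => by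
    rcases (by have := ho.1 i; omega : 1 ≤ u i ∨ u i ≤ -1) with h | h <;> nlinarith
  calc ∑ i ∈ S, (u i ^ 2 - 1) ≤ ∑ i, (u i ^ 2 - 1) :=
        Finset.sum_le_sum_of_subset_of_nonneg (Finset.subset_univ S) fun i _ _ => by
          have := h1 i; omega
    _ = sqNorm u - 24 := by
        rw [Finset.sum_sub_distrib, Finset.sum_const, Finset.card_univ, card_pt]
        simp [sqNorm]

/-- Outside one large coordinate of an odd vector all others are `±1`. -/
theorem odd_unit {u : GolayPt → ℤ} (ho : OddVec u) {i j : GolayPt} (hij : i ≠ j)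
    (h : sqNorm u - 24 < u i ^ 2 - 1 + 8) : u j = 1 ∨ u j = -1 := by
  by_contra hne
  push Not at hne
  have h1 := odd_excess ho {i, j}
  rw [Finset.sum_pair hij] at h1
  rcases (by have := ho.1 j; omega : 3 ≤ u j ∨ u j ≤ -3) with e | e <;> nlinarith

theorem even_two {u : GolayPt → ℤ} (he : EvenVec u) {i : GolayPt} (hi : i ∈ res 2 u) :
    2 ≤ |u i| := by
  have := mem_res.1 hi
  rcases (by omega : 2 ≤ u i ∨ u i ≤ -2) with e | e
  · exact le_trans e (le_abs_self _)
  · exact le_trans (by omega) (neg_le_abs _)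

theorem res_two_card {u : GolayPt → ℤ} (he : EvenVec u) {i : GolayPt} (hi : i ∈ res 2 u) :
    8 ≤ (res 2 u).card := by
  have := he.2.1.weights
  have := Finset.card_pos.2 ⟨i, hi⟩
  omega

/-- A minimal even vector meeting a coordinate `2 mod 4` consists of eight `±2`. -/
theorem even32_shape {u : GolayPt → ℤ} (he : EvenVec u) (hn : sqNorm u = 32) {i : GolayPt}
    (hi : i ∈ res 2 u) :
    (res 2 u).card = 8 ∧ (∀ k ∈ res 2 u, u k = 2 ∨ u k = -2) ∧ ∀ k ∉ res 2 u, u k = 0 := by
  have h8 := res_two_card he hi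
  have h4 : ∀ k ∈ res 2 u, (4 : ℤ) ≤ u k ^ 2 := fun k hk => by
    rw [← sq_abs]; have := even_two he hk; nlinarith
  have hs : 4 * ((res 2 u).card : ℤ) ≤ ∑ k ∈ res 2 u, u k ^ 2 := by
    have := Finset.card_nsmul_le_sum _ _ _ h4
    rw [nsmul_eq_mul] at this
    linarith
  have hle := sub_pair_le u (res 2 u)
  refine ⟨by omega, fun k hk => ?_, fun k hk => ?_⟩
  · by_contra hne
    push Not at hne
    have hk36 : 36 ≤ u k ^ 2 := by
      have := mem_res.1 hk
      rcases (by omega : 6 ≤ u k ∨ u k ≤ -6) with e | e <;> nlinarith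
    have := sub_pair_le u {k}
    rw [Finset.sum_singleton] at this
    omega
  · have := sub_pair_le u (insert k (res 2 u))
    rw [Finset.sum_insert hk] at this
    have h0 : u k ^ 2 ≤ 0 := by omega
    exact pow_eq_zero_iff two_ne_zero |>.mp (le_antisymm h0 (sq_nonneg _))

theorem coord_le_five {u : GolayPt → ℤ} (hn : sqNorm u = 32) (i : GolayPt) :
    -5 ≤ u i ∧ u i ≤ 5 := by
  have := sub_pair_le u {i}
  rw [Finset.sum_singleton, hn] at this
  constructor <;> nlinarith

/-! ### Vectors with four in two places -/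

theorem pair_mem (c d : GolayPt) {s t : ℤ} (hs : s = 1 ∨ s = -1) (ht : t = 1 ∨ t = -1) :
    (Pi.single c (4 * s) + Pi.single d (4 * t) : GolayPt → ℤ) ∈ leechLattice :=
  four_pm_mem s t (by omega)

/-- A minimal vector orthogonal to `4 e a + 4 e b` from two coordinates outside. -/
theorem pair_witness {u : GolayPt → ℤ} {c d : GolayPt} (hcd : c ≠ d) (hca : c ≠ a) (hcb : c ≠ b)
    (hda : d ≠ a) (hdb : d ≠ b) (h : |u c| + |u d| = 4) :
    ∃ z : leechLattice, sqNorm (vec z) = 32 ∧ dotInt (vec (pp a b)) (vec z) = 0 ∧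
      dotInt (vec z) u = 16 := by
  set s : ℤ := if 0 ≤ u c then 1 else -1 with hs
  set t : ℤ := if 0 ≤ u d then 1 else -1 with ht
  have hs1 : s = 1 ∨ s = -1 := by rw [hs]; split_ifs <;> simp
  have ht1 : t = 1 ∨ t = -1 := by rw [ht]; split_ifs <;> simp
  refine ⟨⟨_, pair_mem c d hs1 ht1⟩, ?_, ?_, ?_⟩
  · show sqNorm (Pi.single c (4 * s) + Pi.single d (4 * t) : GolayPt → ℤ) = 32
    rw [norm_pair hcd]
    rcases hs1 with e | e <;> rcases ht1 with e' | e' <;> rw [e, e'] <;> norm_num
  · rw [dot_pp]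
    simp [vec, Pi.single_apply, Ne.symm hca, Ne.symm hcb, Ne.symm hda, Ne.symm hdb]
  · show dotInt (Pi.single c (4 * s) + Pi.single d (4 * t)) u = 16
    rw [dot_pair, hs, ht]
    simp only [Int.abs_eq_natAbs] at h
    split_ifs <;> omega

theorem exists_two_outside {S : Finset GolayPt} (h : 4 ≤ S.card) :
    ∃ c ∈ S, ∃ d ∈ S, c ≠ d ∧ c ≠ a ∧ c ≠ b ∧ d ≠ a ∧ d ≠ b := by
  have h2 : 1 < ((S.erase a).erase b).card := by
    have := Finset.pred_card_le_card_erase (s := S) (a := a)
    have := Finset.pred_card_le_card_erase (s := S.erase a) (a := b)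
    omega
  obtain ⟨c, hc, d, hd, hne⟩ := Finset.one_lt_card.1 h2
  simp only [Finset.mem_erase] at hc hd
  exact ⟨c, hc.2.2, d, hd.2.2, hne, hc.2.1, hc.1, hd.2.1, hd.1⟩

/-- An octad through a point avoiding two others. -/
theorem exists_octad_avoiding {p : GolayPt} (hpa : p ≠ a) (hpb : p ≠ b) (hab : a ≠ b) :
    ∃ o, IsCode o ∧ o.card = 8 ∧ p ∈ o ∧ a ∉ o ∧ b ∉ o := by
  obtain ⟨o, ho⟩ : octads.Nonempty :=
    Set.nonempty_of_ncard_ne_zero (by rw [Golay.ncard_octads]; norm_num)
  obtain ⟨hoc, ho8⟩ := mem_octads.1 ho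
  obtain ⟨x, hx⟩ := Finset.card_pos.1 (show 0 < o.card by omega)
  obtain ⟨y, hy, z, hz, hyz⟩ := Finset.one_lt_card.1 (show 1 < oᶜ.card by
    rw [Finset.card_compl, card_pt]; omega)
  rw [Finset.mem_compl] at hy hz
  obtain ⟨σ, hσ, h1, h2, h3⟩ := Golay.exists_map_three (p := x) (q := y) (r := z)
    (p' := p) (q' := a) (r' := b) (fun e => hy (e ▸ hx)) (fun e => hz (e ▸ hx)) hyz hpa hpb hab
  refine ⟨o.map σ.toEmbedding, hoc.map hσ, by rw [Finset.card_map, ho8], ?_, ?_, ?_⟩
  · rw [← h1]; exact Finset.mem_map_of_mem _ hx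
  · rw [← h2]; exact fun h => hy (by simpa using h)
  · rw [← h3]; exact fun h => hz (by simpa using h)

/-- An octad signed like an odd vector. -/
theorem octad_witness {u : GolayPt → ℤ} (ho : OddVec u) {o : Finset GolayPt} (hoc : IsCode o)
    (ho8 : o.card = 8) (hao : a ∉ o) (hbo : b ∉ o) (hunit : ∀ k ∈ o, u k = 1 ∨ u k = -1) :
    ∃ z : leechLattice, sqNorm (vec z) = 32 ∧ dotInt (vec (pp a b)) (vec z) = 0 ∧
      dotInt (vec z) u = 16 := by
  set w : GolayPt → ℤ := fun i =>
    if i ∈ (res 1 u)ᶜ then -(if i ∈ o then (2 : ℤ) else 0) else (if i ∈ o then (2 : ℤ) else 0)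
    with hw
  have hwo : ∀ i ∈ o, w i ^ 2 = 4 ∧ w i * u i = 2 := fun i hi => by
    simp only [hw, Finset.mem_compl, mem_res]
    rcases hunit i hi with e | e <;> rw [e] <;> simp [hi]
  have hw0 : ∀ i ∉ o, w i = 0 := fun i hi => by simp [hw, hi]
  refine ⟨⟨w, signs_mem ho.2.1.compl (two_smul_code_mem hoc)⟩, ?_, ?_, ?_⟩
  · show sqNorm w = 32
    rw [sqNorm, ← Finset.sum_subset (Finset.subset_univ o)
      (fun i _ hi => by rw [hw0 i hi]; norm_num),
      Finset.sum_congr rfl fun i hi => (hwo i hi).1, Finset.sum_const, ho8]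
    norm_num
  · show dotInt (vec (pp a b)) w = 0
    rw [dot_pp, hw0 a hao, hw0 b hbo]; norm_num
  · show dotInt w u = 16
    rw [dotInt, ← Finset.sum_subset (Finset.subset_univ o)
      (fun i _ hi => by rw [hw0 i hi]; norm_num),
      Finset.sum_congr rfl fun i hi => (hwo i hi).2, Finset.sum_const, ho8]
    norm_num

/-- For a minimal vector with inner product `-16` or `-8` with `4 e a + 4 e b` there is a minimal
vector orthogonal to the latter with inner product `16`. -/
theorem exists_witness (hab : a ≠ b) {u : GolayPt → ℤ} (hu : u ∈ leechLattice)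
    (hn : sqNorm u = 32) (hd : u a + u b = -4 ∨ u a + u b = -2) :
    ∃ z : leechLattice, sqNorm (vec z) = 32 ∧ dotInt (vec (pp a b)) (vec z) = 0 ∧
      dotInt (vec z) u = 16 := by
  have ha := coord_le_five hn a
  have hb := coord_le_five hn b
  have hpnA : u a - u b = 4 → ∃ z : leechLattice, sqNorm (vec z) = 32 ∧
      dotInt (vec (pp a b)) (vec z) = 0 ∧ dotInt (vec z) u = 16 := fun h =>
    ⟨pn a b, norm_pn hab, by simp [dot_pp, pn, vec, hab, Ne.symm hab],
      by rw [dot_pn, h]; norm_num⟩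
  have hpnB : u b - u a = 4 → ∃ z : leechLattice, sqNorm (vec z) = 32 ∧
      dotInt (vec (pp a b)) (vec z) = 0 ∧ dotInt (vec z) u = 16 := fun h =>
    ⟨pn b a, norm_pn (Ne.symm hab), by simp [dot_pp, pn, vec, hab, Ne.symm hab],
      by rw [dot_pn, h]; norm_num⟩
  rcases mem_leech_iff.1 hu with he | ho
  · by_cases hres : a ∈ res 2 u ∨ b ∈ res 2 u
    · obtain ⟨h8, h2, -⟩ : (res 2 u).card = 8 ∧ _ ∧ _ :=
        hres.elim (even32_shape he hn) (even32_shape he hn)
      obtain ⟨c, hc, d, hdm, hcd, hca, hcb, hda, hdb⟩ :=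
        exists_two_outside (a := a) (b := b) (S := res 2 u) (by omega)
      refine pair_witness hcd hca hcb hda hdb ?_
      rcases h2 c hc with e | e <;> rcases h2 d hdm with e' | e' <;> rw [e, e'] <;> norm_num
    · simp only [mem_res, not_or] at hres
      have hea : u a % 2 = 0 := he.1 a
      have heb : u b % 2 = 0 := he.1 b
      have h : u a - u b = 4 ∨ u b - u a = 4 := by clear hpnA hpnB; omega
      exact h.elim hpnA hpnB
  · have hoa : u a % 2 = 1 := ho.1 a
    have hob : u b % 2 = 1 := ho.1 b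
    have h1 := odd_excess ho {a}
    have h1' := odd_excess ho {b}
    rw [Finset.sum_singleton, hn] at h1 h1'
    have ha3 : -3 ≤ u a ∧ u a ≤ 3 := by constructor <;> nlinarith
    have hb3 : -3 ≤ u b ∧ u b ≤ 3 := by constructor <;> nlinarith
    rcases hd with hd | hd
    · have h3 : u a = -3 ∨ u b = -3 := by clear hpnA hpnB; omega
      have hunit : ∀ k, k ≠ a → k ≠ b → u k = 1 ∨ u k = -1 := by
        intro k hka hkb
        rcases h3 with e | e
        · exact odd_unit ho (Ne.symm hka) (by rw [hn, e]; norm_num)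
        · exact odd_unit ho (Ne.symm hkb) (by rw [hn, e]; norm_num)
      obtain ⟨p, hp⟩ : ∃ p : GolayPt, p ∈ ({a, b} : Finset GolayPt)ᶜ :=
        Finset.card_pos.1 (by rw [Finset.card_compl, card_pt, Finset.card_pair hab]; norm_num)
      simp only [Finset.mem_compl, Finset.mem_insert, Finset.mem_singleton, not_or] at hp
      obtain ⟨o, hoc, ho8, -, hao, hbo⟩ := exists_octad_avoiding hp.1 hp.2 hab
      exact octad_witness ho hoc ho8 hao hbo fun k hk =>
        hunit k (fun e => hao (e ▸ hk)) (fun e => hbo (e ▸ hk))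
    · have h3 : u a - u b = 4 ∨ u b - u a = 4 ∨ (u a = -1 ∧ u b = -1) := by clear hpnA hpnB; omega
      rcases h3 with h | h | ⟨e, e'⟩
      · exact hpnA h
      · exact hpnB h
      · obtain ⟨c, hc⟩ : ∃ c, u c ≠ 1 ∧ u c ≠ -1 := by
          by_contra hall
          push Not at hall
          have : sqNorm u = ∑ _i : GolayPt, (1 : ℤ) := by
            refine Finset.sum_congr rfl fun i _ => ?_
            by_cases q : u i = 1
            · rw [q]; norm_num
            · rw [hall i q]; norm_num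
          rw [Finset.sum_const, Finset.card_univ, card_pt, hn] at this
          norm_num at this
        have hc3 : u c = 3 ∨ u c = -3 := by
          have h9 := odd_excess ho {c}
          rw [Finset.sum_singleton, hn] at h9
          have := ho.1 c
          have : -3 ≤ u c ∧ u c ≤ 3 := by constructor <;> nlinarith
          omega
        have hca : c ≠ a := fun q => by rw [q] at hc3; omega
        have hcb : c ≠ b := fun q => by rw [q] at hc3; omega
        obtain ⟨d, hd'⟩ : ∃ d : GolayPt, d ∈ ({a, b, c} : Finset GolayPt)ᶜ :=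
          Finset.card_pos.1 (by
            rw [Finset.card_compl, card_pt]
            have := Finset.card_le_three (a := a) (b := b) (c := c)
            omega)
        simp only [Finset.mem_compl, Finset.mem_insert, Finset.mem_singleton, not_or] at hd'
        refine pair_witness (c := c) (d := d) (Ne.symm hd'.2.2) hca hcb hd'.1 hd'.2.1 ?_
        rcases hc3 with q | q <;>
          rcases odd_unit ho (Ne.symm hd'.2.2) (by rw [hn, q]; norm_num) with q' | q' <;>
          rw [q, q'] <;> norm_num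

/-- A minimal vector with inner product `-16` or `-8` with another one, in standard position. -/
theorem std_position (hab : a ≠ b) {v w : leechLattice} (hv : sqNorm (vec v) = 32)
    (hw : sqNorm (vec w) = 32)
    (hd : dotInt (vec v) (vec w) = -16 ∨ dotInt (vec v) (vec w) = -8) :
    ∃ g : Co0, g • v = pp a b ∧
      4 * (vec (g • w) a + vec (g • w) b) = dotInt (vec v) (vec w) ∧
      vec (g • w) a - vec (g • w) b = 4 := by
  obtain ⟨g, hg⟩ := transitive32 hab hv
  have hgv : g • v = pp a b := by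
    apply Subtype.ext
    show vec (g • v) = _
    rw [hg]
    funext k
    simp only [pp, Pi.add_apply, Pi.single_apply]
    split_ifs <;> simp_all
  have e : dotInt (vec (pp a b)) (vec (g • w)) = dotInt (vec v) (vec w) := by rw [← hgv, dot_smul]
  rw [dot_pp] at e
  obtain ⟨z, hzn, hzv, hzu⟩ := exists_witness hab (u := vec (g • w)) (g • w).2
    (by rw [norm_smul', hw]) (by omega)
  obtain ⟨h, hh1, hh2⟩ := orth_std hab (norm_pp hab) hzn hzv
  refine ⟨h * g, by rw [mul_smul, hgv, hh1], ?_, ?_⟩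
  · rw [← dot_pp, mul_smul, ← hh1, dot_smul, ← hgv, dot_smul]
  · have h16 : dotInt (vec (pn a b)) (vec ((h * g) • w)) = 16 := by
      rw [mul_smul, ← hh2, dot_smul, hzu]
    rw [dot_pn] at h16
    omega

theorem monomial_pp {σ : Equiv.Perm GolayPt} (hσ : σ ∈ M24) {c : Finset GolayPt} (hc : IsCode c)
    (h1 : σ a = a) (h2 : σ b = b) (hca : a ∉ c) (hcb : b ∉ c) :
    monomial σ hσ c hc • pp a b = pp a b := by
  apply Subtype.ext
  funext k
  show signedPerm σ c (Pi.single a (4 * 1) + Pi.single b (4 * 1)) k =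
    (Pi.single a (4 * 1) + Pi.single b (4 * 1) : GolayPt → ℤ) k
  have e1 : σ.symm k = a ↔ k = a := by rw [Equiv.symm_apply_eq, h1]
  have e2 : σ.symm k = b ↔ k = b := by rw [Equiv.symm_apply_eq, h2]
  by_cases hka : k = a
  · subst hka; simp [signedPerm, Pi.single_apply, e1, e2, hca]
  by_cases hkb : k = b
  · subst hkb; simp [signedPerm, Pi.single_apply, e1, e2, hcb]
  simp [signedPerm, Pi.single_apply, e1, e2, hka, hkb]

/-- A minimal vector with entries `0` and `-4` at two given places is `-4 e b + 4 e c0` up to a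
monomial element fixing both places. -/
theorem move16 {c0 : GolayPt} (hab : a ≠ b) (hca : c0 ≠ a) (hcb : c0 ≠ b) {x : GolayPt → ℤ}
    (hxm : x ∈ leechLattice) (hn : sqNorm x = 32) (hxa : x a = 0) (hxb : x b = -4) :
    ∃ σ, ∃ hσ : σ ∈ M24, ∃ s, ∃ hs : IsCode s, σ a = a ∧ σ b = b ∧ a ∉ s ∧ b ∉ s ∧
      vec (monomial σ hσ s hs • (⟨x, hxm⟩ : leechLattice)) =
        fun k => if k = b then -4 else if k = c0 then 4 else 0 := by
  have he : EvenVec x := (mem_leech_iff.1 hxm).resolve_right fun ho => by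
    have := ho.1 a; omega
  have h4 : ∀ i, x i = 0 ∨ x i = 4 ∨ x i = -4 := fun i => by
    have hi : i ∉ res 2 x := fun hi => by
      obtain ⟨-, hs2, hs0⟩ := even32_shape he hn hi
      have hbr := mem_res (k := 2) (x := x) (i := b)
      by_cases hb2 : b ∈ res 2 x
      · have := hbr.1 hb2; omega
      · have := hs0 b hb2; omega
    rw [mem_res] at hi
    have := he.1 i
    have := coord_le_five hn i
    omega
  set T := univ.filter fun i => x i ≠ 0 with hT
  have hcount : sqNorm x = 16 * (T.card : ℤ) := by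
    rw [sqNorm, Finset.sum_congr rfl fun i _ => show x i ^ 2 =
      16 * (if x i ≠ 0 then 1 else 0) by rcases h4 i with e | e | e <;> rw [e] <;> norm_num,
      ← Finset.mul_sum, Finset.sum_boole]
  have hbT : b ∈ T := by simp [hT, hxb]
  obtain ⟨c, hc⟩ := Finset.card_eq_one.1 (show (T.erase b).card = 1 by
    rw [Finset.card_erase_of_mem hbT]; omega)
  have hmem : ∀ k, k ∈ T.erase b ↔ k = c := fun k => by rw [hc, Finset.mem_singleton]
  obtain ⟨hcb', hcT⟩ := Finset.mem_erase.1 ((hmem c).2 rfl)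
  have hxc : x c ≠ 0 := (Finset.mem_filter.1 hcT).2
  have hca' : c ≠ a := fun e => hxc (e ▸ hxa)
  have hrest : ∀ k, k ≠ b → k ≠ c → x k = 0 := fun k k1 k2 => by
    by_contra hne
    exact k2 ((hmem k).1 (Finset.mem_erase.2 ⟨k1, Finset.mem_filter.2 ⟨Finset.mem_univ _, hne⟩⟩))
  obtain ⟨σ, hσ, s1, s2, s3⟩ := Golay.exists_map_three hab (Ne.symm hca') (Ne.symm hcb')
    hab (Ne.symm hca) (Ne.symm hcb)
  obtain ⟨s, hs, hsc, hsa, hsb⟩ : ∃ s, IsCode s ∧ (c0 ∈ s ↔ x c = -4) ∧ a ∉ s ∧ b ∉ s := by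
    by_cases hneg : x c = -4
    · obtain ⟨o, ho, -, hpo, hao, hbo⟩ := exists_octad_avoiding hca hcb hab
      exact ⟨o, ho, by simp [hpo, hneg], hao, hbo⟩
    · exact ⟨∅, isCode_empty, by simp [hneg], by simp, by simp⟩
  refine ⟨σ, hσ, s, hs, s1, s2, hsa, hsb, ?_⟩
  rw [monomial_smul]
  simp only [vec]
  funext k
  obtain ⟨l, rfl⟩ := σ.surjective k
  simp only [signedPerm, Equiv.symm_apply_apply]
  by_cases hlb : l = b
  · subst hlb
    simp [s2, hsb, hxb]
  by_cases hlc : l = c
  · subst hlc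
    rw [s3, if_neg hcb, if_pos rfl]
    have := h4 l
    split_ifs with h
    · have := hsc.1 h; omega
    · have := mt hsc.2 h; omega
  have n1 : σ l ≠ b := fun e => hlb (σ.injective (e.trans s2.symm))
  have n2 : σ l ≠ c0 := fun e => hlc (σ.injective (e.trans s3.symm))
  simp [n1, n2, hrest l hlb hlc]

/-- The standard form for inner product `-16`. -/
theorem std16 {c0 : GolayPt} (hab : a ≠ b) (hca : c0 ≠ a) (hcb : c0 ≠ b) {v w : leechLattice}
    (hv : sqNorm (vec v) = 32) (hw : sqNorm (vec w) = 32) (hd : dotInt (vec v) (vec w) = -16) :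
    ∃ g : Co0, g • v = pp a b ∧
      vec (g • w) = fun k => if k = b then -4 else if k = c0 then 4 else 0 := by
  obtain ⟨g, hg, h1, h2⟩ := std_position hab hv hw (Or.inl hd)
  have hn : sqNorm (vec (g • w)) = 32 := by rw [norm_smul', hw]
  obtain ⟨σ, hσ, s, hs, s1, s2, hsa, hsb, e⟩ :=
    move16 hab hca hcb (g • w).2 hn (by simp only [vec] at *; omega) (by simp only [vec] at *; omega)
  exact ⟨monomial σ hσ s hs * g, by rw [mul_smul, hg, monomial_pp hσ hs s1 s2 hsa hsb],
    by rw [mul_smul]; exact e⟩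

/-- The standard form for inner product `-8`. -/
theorem std8 (hab : a ≠ b) {v w : leechLattice} (hv : sqNorm (vec v) = 32)
    (hw : sqNorm (vec w) = 32) (hd : dotInt (vec v) (vec w) = -8) :
    ∃ g : Co0, g • v = pp a b ∧ vec (g • w) = oddBase b := by
  obtain ⟨g, hg, h1, h2⟩ := std_position hab hv hw (Or.inr hd)
  have hn : sqNorm (vec (g • w)) = 32 := by rw [norm_smul', hw]
  have hxm : vec (g • w) ∈ leechLattice := (g • w).2
  obtain ⟨x, hx⟩ : ∃ x, x = vec (g • w) := ⟨_, rfl⟩
  rw [← hx] at h1 h2 hn hxm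
  have hxa : x a = 1 := by omega
  have hxb : x b = -3 := by omega
  have ho : OddVec x := (mem_leech_iff.1 hxm).resolve_left fun he => by
    have := he.1 a; omega
  have hca : a ∉ (res 1 x)ᶜ := by simp [mem_res, hxa]
  have hcb : b ∉ (res 1 x)ᶜ := by simp [mem_res, hxb]
  refine ⟨flip (res 1 x)ᶜ ho.2.1.compl * g, by
    rw [mul_smul, hg]; exact monomial_pp _ _ rfl rfl hca hcb, ?_⟩
  funext k
  rw [mul_smul, flip_smul, ← hx, oddBase]
  by_cases hk : k = b
  · subst hk; rw [if_neg hcb, if_pos rfl, hxb]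
  · rw [if_neg hk]
    simp only [Finset.mem_compl, mem_res]
    rcases odd_unit ho (Ne.symm hk) (by rw [hn, hxb]; norm_num) with e | e <;> rw [e] <;> simp

/-- Transitivity on pairs of minimal vectors with inner product `-16` or `-8`. -/
theorem pair_transitive {v w v' w' : leechLattice} (hv : sqNorm (vec v) = 32)
    (hw : sqNorm (vec w) = 32) (hv' : sqNorm (vec v') = 32) (hw' : sqNorm (vec w') = 32)
    (hd : dotInt (vec v) (vec w) = dotInt (vec v') (vec w'))
    (hval : dotInt (vec v') (vec w') = -16 ∨ dotInt (vec v') (vec w') = -8) :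
    ∃ g : Co0, g • v = v' ∧ g • w = w' := by
  have hab : (none : GolayPt) ≠ some 0 := by simp
  obtain ⟨g, g', e1, e2⟩ : ∃ g g' : Co0, g • v = g' • v' ∧ g • w = g' • w' := by
    rcases hval with h | h
    · have hca : (some 1 : GolayPt) ≠ none := by simp
      have hcb : (some 1 : GolayPt) ≠ some 0 := by decide
      obtain ⟨g, p1, p2⟩ := std16 hab hca hcb hv hw (hd.trans h)
      obtain ⟨g', q1, q2⟩ := std16 hab hca hcb hv' hw' h
      exact ⟨g, g', p1.trans q1.symm, Subtype.ext (p2.trans q2.symm)⟩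
    · obtain ⟨g, p1, p2⟩ := std8 hab hv hw (hd.trans h)
      obtain ⟨g', q1, q2⟩ := std8 hab hv' hw' h
      exact ⟨g, g', p1.trans q1.symm, Subtype.ext (p2.trans q2.symm)⟩
  exact ⟨g'⁻¹ * g, by rw [mul_smul, e1, inv_smul_smul], by rw [mul_smul, e2, inv_smul_smul]⟩

/-! ### A minimal vector with inner product `16` with a vector of norm `48` -/

theorem dot_cases {x y : GolayPt → ℤ} (hx : x ∈ leechLattice) (hy : y ∈ leechLattice)
    (hxn : sqNorm x = 32) (hyn : sqNorm y = 32) :
    dotInt x y = -32 ∨ dotInt x y = -16 ∨ dotInt x y = -8 ∨ dotInt x y = 0 ∨ dotInt x y = 8 ∨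
      dotInt x y = 16 ∨ dotInt x y = 32 := by
  have h8 := dotInt_dvd hx hy
  have hp := sqNorm_add x y
  have hm := sqNorm_sub x y
  have hp0 := sqNorm_nonneg (x + y)
  have hm0 := sqNorm_nonneg (x - y)
  by_cases h1 : x + y = 0
  · have : sqNorm (x + y) = 0 := sqNorm_eq_zero.2 h1
    omega
  by_cases h2 : x - y = 0
  · have : sqNorm (x - y) = 0 := sqNorm_eq_zero.2 h2
    omega
  have := sqNorm_ge (leechLattice.add_mem hx hy) h1
  have := sqNorm_ge (leechLattice.sub_mem hx hy) h2
  omega

/-- Five in one place, one elsewhere. -/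
def fiveBase (a : GolayPt) : leechLattice :=
  ⟨oddBase a + Pi.single a 8, leechLattice.add_mem (oddBase_mem a) (single_eight_mem a)⟩

theorem fiveBase_apply (a k : GolayPt) : vec (fiveBase a) k = if k = a then 5 else 1 := by
  by_cases h : k = a <;> simp [vec, fiveBase, oddBase, h]

theorem norm_fiveBase (a : GolayPt) : sqNorm (vec (fiveBase a)) = 48 := by
  rw [sqNorm, ← Finset.add_sum_erase _ _ (Finset.mem_univ a), fiveBase_apply, if_pos rfl,
    Finset.sum_congr rfl fun k hk => show vec (fiveBase a) k ^ 2 = 1 by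
      rw [fiveBase_apply, if_neg (Finset.ne_of_mem_erase hk)]; norm_num,
    Finset.sum_const, Finset.card_erase_of_mem (Finset.mem_univ a), Finset.card_univ, card_pt]
  norm_num

theorem dot_fiveBase (a : GolayPt) (t : GolayPt → ℤ) :
    dotInt (vec (fiveBase a)) t = ∑ k, t k + 4 * t a := by
  have : ∀ k, vec (fiveBase a) k * t k = t k + if k = a then 4 * t k else 0 := fun k => by
    rw [fiveBase_apply]; split_ifs <;> ring
  simp only [dotInt, this, Finset.sum_add_distrib, Finset.sum_ite_eq', Finset.mem_univ, if_true]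

theorem exists_witness48 {a : GolayPt} {t : GolayPt → ℤ} (ht : t ∈ leechLattice)
    (hn : sqNorm t = 32) (hd : dotInt (vec (fiveBase a)) t = 16) :
    ∃ z : leechLattice, sqNorm (vec z) = 32 ∧ dotInt t (vec z) = 0 ∧
      dotInt (vec (fiveBase a)) (vec z) = 24 := by
  have hu := (fiveBase a).2
  have hun := norm_fiveBase a
  by_cases h : ∃ c, c ≠ a ∧ (t a + t c = 0 ∨ t a + t c = 4)
  · obtain ⟨c, hca, h⟩ := h
    have e : dotInt (vec (fiveBase a)) (vec (pp a c)) = 24 := by
      rw [dot_comm, dot_pp, fiveBase_apply, fiveBase_apply, if_pos rfl, if_neg hca]; norm_num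
    have et : dotInt t (vec (pp a c)) = 4 * (t a + t c) := by rw [dot_comm, dot_pp]
    rcases h with h | h
    · exact ⟨pp a c, norm_pp (Ne.symm hca), by rw [et, h]; norm_num, e⟩
    · refine ⟨fiveBase a - pp a c, ?_, ?_, ?_⟩
      · show sqNorm (vec (fiveBase a) - vec (pp a c)) = 32
        rw [sqNorm_sub, hun, norm_pp (Ne.symm hca), e]; norm_num
      · show dotInt t (vec (fiveBase a) - vec (pp a c)) = 0
        rw [dot_sub_right, dot_comm, hd, et, h]; norm_num
      · show dotInt (vec (fiveBase a)) (vec (fiveBase a) - vec (pp a c)) = 24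
        rw [dot_sub_right, dot_self, hun, e]; norm_num
  exfalso
  push Not at h
  have h2 : ∀ c ∈ univ.erase a, t c = 2 - t a := by
    intro c hc
    have hca := Finset.ne_of_mem_erase hc
    have hz := (pp a c).2
    have hzn := norm_pp (Ne.symm hca)
    have e : dotInt (vec (fiveBase a)) (vec (pp a c)) = 24 := by
      rw [dot_comm, dot_pp, fiveBase_apply, fiveBase_apply, if_pos rfl, if_neg hca]; norm_num
    have et : dotInt t (vec (pp a c)) = 4 * (t a + t c) := by rw [dot_comm, dot_pp]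
    have hne := h c hca
    have hx := leechLattice.add_mem ht hz
    have hxn : sqNorm (t + vec (pp a c)) = 64 + 2 * dotInt t (vec (pp a c)) := by
      rw [sqNorm_add, hn, hzn]; ring
    have hxd : dotInt (vec (fiveBase a)) (t + vec (pp a c)) = 40 := by
      rw [dot_add_right, hd, e]; norm_num
    have hyn : sqNorm (vec (fiveBase a) - (t + vec (pp a c))) =
        32 + 2 * dotInt t (vec (pp a c)) := by
      rw [sqNorm_sub, hun, hxd, hxn]; ring
    by_cases hy0 : vec (fiveBase a) - (t + vec (pp a c)) = 0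
    · rw [sqNorm_eq_zero.2 hy0] at hyn
      have : sqNorm (t + vec (pp a c)) = 48 := by rw [← sub_eq_zero.1 hy0, hun]
      omega
    have := sqNorm_ge (leechLattice.sub_mem hu hx) hy0
    simp only [vec] at *
    rcases dot_cases ht hz hn hzn with q | q | q | q | q | q | q
    · omega
    · omega
    · omega
    · omega
    · omega
    · omega
    · exfalso
      have hz0 : t - vec (pp a c) = 0 := sqNorm_eq_zero.1 (by
        rw [sqNorm_sub, hn, hzn]; simp only [vec] at q ⊢; omega)
      rw [sub_eq_zero.1 hz0, e] at hd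
      norm_num at hd
  have hs : ∑ k, t k = t a + 23 * (2 - t a) := by
    rw [← Finset.add_sum_erase _ _ (Finset.mem_univ a), Finset.sum_congr rfl h2, Finset.sum_const,
      Finset.card_erase_of_mem (Finset.mem_univ a), Finset.card_univ, card_pt, nsmul_eq_mul]
    norm_num
  rw [dot_fiveBase, hs] at hd
  omega

/-- The standard form of a minimal vector and a norm `48` vector with inner product `16`. -/
theorem std48 (hab : a ≠ b) {t v : leechLattice} (ht : sqNorm (vec t) = 32)
    (hv : sqNorm (vec v) = 48) (hd : dotInt (vec t) (vec v) = 16) :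
    ∃ g : Co0, g • t = pp a b ∧ OddVec (vec (g • v)) ∧ vec (g • v) a = 5 ∧ vec (g • v) b = -1 ∧
      ∀ k, k ≠ a → (vec (g • v) k = 1 ∨ vec (g • v) k = -1) := by
  obtain ⟨d, hd12⟩ : dodecads.Nonempty :=
    Set.nonempty_of_ncard_ne_zero (by rw [Golay.ncard_dodecads]; norm_num)
  obtain ⟨g₁, hg₁⟩ := transitive48 hd12 hv
  obtain ⟨g₂, hg₂⟩ := transitive48 hd12 (norm_fiveBase a)
  obtain ⟨h, hh⟩ := exists_smul_eq_of (hg₁.trans hg₂.symm)
  have hd1 : dotInt (vec (fiveBase a)) (vec (h • t)) = 16 := by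
    rw [← hh, dot_smul, dot_comm, hd]
  obtain ⟨z, hzn, hzt, hzv⟩ :=
    exists_witness48 (a := a) (h • t).2 (by rw [← ht, ← norm_smul' h t]) hd1
  obtain ⟨g, hg1, hg2⟩ := orth_std hab (by rw [norm_smul', ht]) hzn hzt
  have e1 : dotInt (vec (pp a b)) (vec (g • fiveBase a)) = 16 := by
    rw [← hg1, dot_smul, dot_comm, hd1]
  have e2 : dotInt (vec (pn a b)) (vec (g • fiveBase a)) = 24 := by
    rw [← hg2, dot_smul, dot_comm, hzv]
  rw [dot_pp] at e1
  rw [dot_pn] at e2
  have hn : sqNorm (vec (g • fiveBase a)) = 48 := by rw [norm_smul', norm_fiveBase]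
  have hxm : vec (g • fiveBase a) ∈ leechLattice := (g • fiveBase a).2
  refine ⟨g * h, by rw [mul_smul, hg1], ?_⟩
  rw [mul_smul, hh]
  generalize vec (g • fiveBase a) = x at e1 e2 hn hxm ⊢
  have hxa : x a = 5 := by omega
  have ho : OddVec x := (mem_leech_iff.1 hxm).resolve_left fun he => by have := he.1 a; omega
  exact ⟨ho, hxa, by omega, fun k hk => odd_unit ho (Ne.symm hk) (by rw [hn, hxa]; norm_num)⟩

/-- Transitivity on such pairs. -/
theorem transitive48_16 {t v t' v' : leechLattice} (ht : sqNorm (vec t) = 32)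
    (hv : sqNorm (vec v) = 48) (hd : dotInt (vec t) (vec v) = 16) (ht' : sqNorm (vec t') = 32)
    (hv' : sqNorm (vec v') = 48) (hd' : dotInt (vec t') (vec v') = 16) :
    ∃ g : Co0, g • t = t' ∧ g • v = v' := by
  have hab : (none : GolayPt) ≠ some 0 := by simp
  obtain ⟨g, p1, po, pa, pb, pr⟩ := std48 hab ht hv hd
  obtain ⟨g', q1, qo, qa, qb, qr⟩ := std48 hab ht' hv' hd'
  have hc := po.2.1.symmDiff qo.2.1
  have hca : (none : GolayPt) ∉ symmDiff (res 1 (vec (g • v))) (res 1 (vec (g' • v'))) := by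
    simp only [Finset.mem_symmDiff, mem_res, pa, qa]; omega
  have hcb : (some 0 : GolayPt) ∉ symmDiff (res 1 (vec (g • v))) (res 1 (vec (g' • v'))) := by
    simp only [Finset.mem_symmDiff, mem_res, pb, qb]; omega
  refine ⟨g'⁻¹ * Leech.flip _ hc * g, ?_, ?_⟩ <;> rw [mul_smul, mul_smul, inv_smul_eq_iff]
  · rw [p1, q1]
    exact monomial_pp _ _ rfl rfl hca hcb
  · apply Subtype.ext
    funext k
    show vec (Leech.flip _ hc • (g • v)) k = vec (g' • v') k
    rw [flip_smul]
    simp only [Finset.mem_symmDiff, mem_res]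
    by_cases hk : k = none
    · subst hk; rw [pa, qa]; simp
    · rcases pr k hk with e | e <;> rcases qr k hk with e' | e' <;> rw [e, e'] <;> simp

end Cfsg.Agent.Lib.SporStruct.LeechPairs
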