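import Mathlib

/-! Kernel-checkable Schreier trees for orbits on coded objects (natural numbers). -/

set_option autoImplicit false

namespace Cfsg.Agent.Lib.SporStruct.OrbitTree

/-- Search tree on the points of an orbit; each node stores its parent in the Schreier tree,
the number of the generator used and its depth. -/
inductive MTree : Type where
  | leaf
  | node (l : MTree) (key par gen depth : ℕ) (r : MTree)

namespace MTree

/-- The keys in increasing order. -/
def keys : MTree → List ℕ
  | leaf => []
  | node l k _ _ _ r => l.keys ++ k :: r.keys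

/-- The depth stored at a key. -/
def depthOf (x : ℕ) : MTree → Option ℕ
  | leaf => none
  | node l k _ _ d r => bif Nat.beq x k then some d else (bif Nat.blt x k then l.depthOf x else r.depthOf x)

/-- One node is justified inside the whole tree `t`. -/
def nodeOk (act : ℕ → ℕ → ℕ) (gens : List ℕ) (root : ℕ) (t : MTree) (k p g d : ℕ) : Bool :=
  bif Nat.beq d 0 then Nat.beq k root
  else (match t.depthOf p with
    | some e => Nat.beq (e + 1) d && Nat.blt g gens.length && Nat.beq (act (gens.getD g 0) p) k
    | none => false)

/-- All nodes of a subtree are justified inside `t`. -/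
def allOk (act : ℕ → ℕ → ℕ) (gens : List ℕ) (root : ℕ) (t : MTree) : MTree → Bool
  | leaf => true
  | node l k p g d r =>
    nodeOk act gens root t k p g d && allOk act gens root t l && allOk act gens root t r

/-- The certificate check. -/
def check (act : ℕ → ℕ → ℕ) (gens : List ℕ) (root : ℕ) (t : MTree) : Bool :=
  allOk act gens root t t

theorem allOk_depthOf {act : ℕ → ℕ → ℕ} {gens : List ℕ} {root : ℕ} {t : MTree} :
    ∀ {u : MTree}, allOk act gens root t u = true → ∀ {x d : ℕ}, u.depthOf x = some d →
      ∃ p g, nodeOk act gens root t x p g d = true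
  | leaf, _, _, _, h => by simp [depthOf] at h
  | node l k p g e r, hu, x, d, h => by
    simp only [allOk, Bool.and_eq_true] at hu
    cases hb : Nat.beq x k with
    | true =>
      simp only [depthOf, hb, cond_true, Option.some.injEq] at h
      rw [Nat.eq_of_beq_eq_true hb, ← h]
      exact ⟨p, g, hu.1.1⟩
    | false =>
      cases hl : Nat.blt x k with
      | true =>
        simp only [depthOf, hb, hl, cond_false, cond_true] at h
        exact allOk_depthOf hu.1.2 h
      | false =>
        simp only [depthOf, hb, hl, cond_false] at h
        exact allOk_depthOf hu.2 h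

theorem allOk_keys {act : ℕ → ℕ → ℕ} {gens : List ℕ} {root : ℕ} {t : MTree} :
    ∀ {u : MTree}, allOk act gens root t u = true → ∀ {x : ℕ}, x ∈ u.keys →
      ∃ p g d, nodeOk act gens root t x p g d = true
  | leaf, _, _, h => by simp [keys] at h
  | node l k p g e r, hu, x, h => by
    simp only [allOk, Bool.and_eq_true] at hu
    simp only [keys, List.mem_append, List.mem_cons] at h
    rcases h with h | rfl | h
    · exact allOk_keys hu.1.2 h
    · exact ⟨p, g, e, hu.1.1⟩
    · exact allOk_keys hu.2 h

theorem check_sound {act : ℕ → ℕ → ℕ} {gens : List ℕ} {root : ℕ} {t : MTree}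
    (h : check act gens root t = true) (P : ℕ → Prop) (h0 : P root)
    (hact : ∀ g ∈ gens, ∀ x, P x → P (act g x)) : ∀ x ∈ t.keys, P x := by
  have key : ∀ d x p g, nodeOk act gens root t x p g d = true → P x := by
    intro d
    induction d using Nat.strong_induction_on with
    | _ d ih =>
      intro x p g hn
      cases hd : Nat.beq d 0 with
      | true =>
        simp only [nodeOk, hd, cond_true] at hn
        rw [Nat.eq_of_beq_eq_true hn]; exact h0
      | false =>
        simp only [nodeOk, hd, cond_false] at hn
        cases hp : t.depthOf p with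
        | none => rw [hp] at hn; simp at hn
        | some e =>
          rw [hp] at hn
          simp only [Bool.and_eq_true, Nat.beq_eq, Nat.blt_eq] at hn
          obtain ⟨⟨he, hg⟩, hk⟩ := hn
          obtain ⟨p', g', hn'⟩ := allOk_depthOf h hp
          rw [← hk]
          refine hact _ ?_ _ (ih e (by omega) p p' g' hn')
          rw [List.getD_eq_getElem?_getD, List.getElem?_eq_getElem hg]
          exact List.getElem_mem hg
  intro x hx
  obtain ⟨p, g, d, hn⟩ := allOk_keys h hx
  exact key d x p g hn

end MTree

/-- Strictly increasing. -/
def incFrom : List ℕ → ℕ → Bool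
  | [], _ => true
  | a :: l, b => Nat.blt b a && incFrom l a

/-- Strictly increasing list. -/
def incList : List ℕ → Bool
  | [] => true
  | a :: l => incFrom l a

theorem incFrom_pairwise : ∀ {l : List ℕ} {b : ℕ}, incFrom l b = true → (b :: l).Pairwise (· < ·)
  | [], b, _ => List.pairwise_singleton _ b
  | a :: l, b, h => by
    simp only [incFrom, Bool.and_eq_true, Nat.blt_eq] at h
    have ih := incFrom_pairwise h.2
    refine List.pairwise_cons.2 ⟨fun c hc => ?_, ih⟩
    rcases List.mem_cons.1 hc with rfl | hc
    · exact h.1
    · exact lt_trans h.1 ((List.pairwise_cons.1 ih).1 c hc)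

theorem incList_nodup : ∀ {l : List ℕ}, incList l = true → l.Nodup
  | [], _ => List.nodup_nil
  | _ :: _, h => (incFrom_pairwise h).imp (fun hab => Nat.ne_of_lt hab)

/-- Equality test for lists of numbers. -/
def eqList : List ℕ → List ℕ → Bool
  | [], [] => true
  | a :: l, b :: m => Nat.beq a b && eqList l m
  | _, _ => false

theorem eqList_eq : ∀ {l m : List ℕ}, eqList l m = true → l = m
  | [], [], _ => rfl
  | a :: l, b :: m, h => by
    simp only [eqList, Bool.and_eq_true, Nat.beq_eq] at h
    rw [h.1, eqList_eq h.2]
  | [], _ :: _, h => by simp [eqList] at h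
  | _ :: _, [], h => by simp [eqList] at h

end Cfsg.Agent.Lib.SporStruct.OrbitTree
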