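import Cfsg.Agent.Lib.Golay.Steiner

/-! Blocks meeting a given block of a Steiner system in a given subset. -/

set_option autoImplicit false

namespace Cfsg.Agent.Lib.SporStruct.SteinerTriangle

open Cfsg Cfsg.Agent.Lib.Golay.Steiner

/-- The recursion a table of exact intersection numbers has to satisfy. -/
def GoodTable (v t k : ℕ) (T : ℕ → ℕ) : Prop :=
  T k = 1 ∧ (∀ s < k, t ≤ s → T s = 0) ∧ ∀ s < t,
    (∑ j ∈ Finset.range (k - s + 1), (k - s).choose j * T (s + j)) * (k - s).choose (t - s) =
      (v - s).choose (t - s)

/-- The blocks meeting `b` exactly in `s` are counted by the table. -/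
theorem exact_count {α : Type*} [Fintype α] [DecidableEq α] {v t k : ℕ} {B : Set (Finset α)}
    {T : ℕ → ℕ} (hv : Fintype.card α = v) (htk : t ≤ k) (hT : GoodTable v t k T)
    (hB : IsSteinerSystem t k B) {b : Finset α} (hb : b ∈ B) (s : Finset α) (hsb : s ⊆ b) :
    {c : Finset α | c ∈ B ∧ b ∩ c = s}.ncard = T s.card := by
  have hbk : b.card = k := hB.1 b hb
  have e : ∀ u, {c : Finset α | c ∈ B ∧ b ∩ c = u}.ncard =
      ((blocks B).filter fun c => b ∩ c = u).card := by
    intro u
    rw [← Set.ncard_coe_finset]
    congr 1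
    ext c; simp
  rw [e]
  induction hn : (k - s.card) using Nat.strong_induction_on generalizing s with
  | _ n ih =>
    have hle : s.card ≤ k := hbk ▸ Finset.card_le_card hsb
    by_cases hk : s.card = k
    · have es : s = b := Finset.eq_of_subset_of_card_le hsb (by omega)
      rw [hk, hT.1]
      refine Finset.card_eq_one.2 ⟨b, ?_⟩
      ext c
      simp only [Finset.mem_filter, Finset.mem_singleton, mem_blocks]
      constructor
      · rintro ⟨hc, hi⟩
        exact (Finset.eq_of_subset_of_card_le
          (fun x hx => (Finset.mem_inter.1 (by rw [hi, es]; exact hx)).2)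
          (by rw [hB.1 c hc, hbk])).symm
      · rintro rfl; exact ⟨hb, by rw [Finset.inter_self, es]⟩
    by_cases hts : t ≤ s.card
    · rw [hT.2.1 _ (by omega) hts, Finset.card_eq_zero, Finset.filter_eq_empty_iff]
      intro c hc hi
      rw [mem_blocks] at hc
      have h1 : b = c := eq_of_subset hB hb hc hts hsb
        (fun x hx => (Finset.mem_inter.1 (by rw [hi]; exact hx)).2)
      rw [← h1, Finset.inter_self] at hi
      exact hk (by rw [← hi, hbk])
    -- split the blocks through `s` by their intersection with `b`
    have hsplit : (through B s).card =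
        ∑ u ∈ (b \ s).powerset, ((blocks B).filter fun c => b ∩ c = s ∪ u).card := by
      rw [through, Finset.card_eq_sum_card_fiberwise (f := fun c => (b ∩ c) \ s) (t := (b \ s).powerset)
        (fun c _ => Finset.mem_coe.2 (Finset.mem_powerset.2 (Finset.sdiff_subset_sdiff Finset.inter_subset_left subset_rfl)))]
      refine Finset.sum_congr rfl fun u hu => ?_
      rw [Finset.mem_powerset] at hu
      congr 1
      ext c
      simp only [Finset.mem_filter]
      constructor
      · rintro ⟨⟨hc, hsc⟩, rfl⟩
        exact ⟨hc, (Finset.union_sdiff_of_subset (Finset.subset_inter hsb hsc)).symm⟩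
      · rintro ⟨hc, hi⟩
        refine ⟨⟨hc, fun x hx => (Finset.mem_inter.1 (by rw [hi]; exact Finset.mem_union_left u hx)).2⟩, ?_⟩
        rw [hi, Finset.union_sdiff_left]
        exact Finset.sdiff_eq_self_of_disjoint (Finset.disjoint_left.2 fun x hx hxs => (Finset.mem_sdiff.1 (hu hx)).2 hxs)
    rw [Finset.sum_powerset] at hsplit
    have hm : (b \ s).card = k - s.card := by rw [Finset.card_sdiff_of_subset hsb, hbk]
    have hterm : ∀ j, ∑ u ∈ (b \ s).powersetCard (j + 1), ((blocks B).filter fun c => b ∩ c = s ∪ u).card =
        (k - s.card).choose (j + 1) * T (s.card + (j + 1)) := by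
      intro j
      rw [← hm, ← Finset.card_powersetCard, ← smul_eq_mul, ← Finset.sum_const]
      refine Finset.sum_congr rfl fun u hu => ?_
      rw [Finset.mem_powersetCard] at hu
      have hd : Disjoint s u := Finset.disjoint_left.2 fun x hx hxu => (Finset.mem_sdiff.1 (hu.1 hxu)).2 hx
      have hc : (s ∪ u).card = s.card + (j + 1) := by rw [Finset.card_union_of_disjoint hd, hu.2]
      rw [← hc]
      exact ih (k - (s ∪ u).card) (by omega) (s ∪ u)
        (Finset.union_subset hsb (hu.1.trans Finset.sdiff_subset)) rfl
    rw [hm, Finset.sum_range_succ', Finset.powersetCard_zero, Finset.sum_singleton,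
      Finset.union_empty, Finset.sum_congr rfl (fun j _ => hterm j)] at hsplit
    have hN := card_through hB s (by omega)
    have hS := hT.2.2 s.card (by omega)
    rw [hv, ← hS, Finset.sum_range_succ', Nat.choose_zero_right, one_mul, Nat.add_zero, hsplit] at hN
    have := Nat.eq_of_mul_eq_mul_right (Nat.choose_pos (by omega)) hN
    omega

/-- The table of `S(5, 8, 24)`. -/
def table24 : ℕ → ℕ
  | 0 => 30
  | 2 => 16
  | 4 => 4
  | 8 => 1
  | _ => 0

theorem goodTable24 : GoodTable 24 5 8 table24 := by
  refine ⟨rfl, ?_, ?_⟩ <;> decide +kernel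

end Cfsg.Agent.Lib.SporStruct.SteinerTriangle
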