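import Cfsg.Agent.Lib.SporStruct.Masks
import Cfsg.Agent.Lib.SporStruct.SteinerTriangle

/-! The octads form a Steiner system. -/

set_option autoImplicit false

namespace Cfsg.Agent.Lib.SporStruct.OctadSystem

open Cfsg Cfsg.Agent.Lib.Golay Masks

theorem octad_supports {o : Finset GolayPt} (ho : o ∈ octads) :
    o ∈ supports (golayCode : Set (GolayPt → ZMod 2)) := ho.1

theorem card_octad {o : Finset GolayPt} (ho : o ∈ octads) : o.card = 8 := ho.2

theorem eq_of_five {o o' : Finset GolayPt} (ho : o ∈ octads) (ho' : o' ∈ octads)
    (h : 5 ≤ (o ∩ o').card) : o = o' := by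
  have h1 := card_symmDiff_add o o'
  have h2 := card_of_mem_supports (symmDiff_mem_supports ho.1 ho'.1)
  rw [card_octad ho, card_octad ho'] at h1
  have h3 : (symmDiff o o').card = 0 := by omega
  rw [Finset.card_eq_zero] at h3
  exact symmDiff_eq_bot.1 h3

theorem steiner : IsSteinerSystem 5 8 octads := by
  refine ⟨fun b hb => hb.2, fun s hs => ?_⟩
  have hsub : octadFinset.biUnion (fun o => o.powersetCard 5) ⊆
      (Finset.univ : Finset GolayPt).powersetCard 5 := by
    intro u hu
    obtain ⟨o, -, hu⟩ := Finset.mem_biUnion.1 hu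
    exact Finset.mem_powersetCard.2 ⟨Finset.subset_univ u, (Finset.mem_powersetCard.1 hu).2⟩
  have hcard : (octadFinset.biUnion fun o => o.powersetCard 5).card = 759 * 56 := by
    rw [Finset.card_biUnion, Finset.sum_congr rfl (g := fun _ => 56), Finset.sum_const, smul_eq_mul]
    · rw [← Set.ncard_coe_finset, coe_octadFinset, ncard_octads]
    · intro o ho
      rw [Finset.card_powersetCard, card_octad (mem_octadFinset.1 ho)]
      rfl
    · intro o ho o' ho' hne
      rw [Function.onFun, Finset.disjoint_left]
      intro u hu hu'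
      rw [Finset.mem_powersetCard] at hu hu'
      refine hne (eq_of_five (mem_octadFinset.1 ho) (mem_octadFinset.1 ho') ?_)
      rw [← hu.2]
      exact Finset.card_le_card (Finset.subset_inter hu.1 hu'.1)
  have heq := Finset.eq_of_subset_of_card_le hsub (by
    rw [hcard, Finset.card_powersetCard, Finset.card_univ, card_golayPt]; decide)
  have hmem : s ∈ (Finset.univ : Finset GolayPt).powersetCard 5 :=
    Finset.mem_powersetCard.2 ⟨Finset.subset_univ s, hs⟩
  rw [← heq] at hmem
  obtain ⟨o, ho, hso⟩ := Finset.mem_biUnion.1 hmem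
  rw [Finset.mem_powersetCard] at hso
  refine ⟨o, ⟨mem_octadFinset.1 ho, hso.1⟩, ?_⟩
  rintro o' ⟨ho', hso'⟩
  refine eq_of_five ho' (mem_octadFinset.1 ho) ?_
  rw [← hs]
  exact Finset.card_le_card (Finset.subset_inter hso' hso.1)

/-- Number of octads meeting a given octad exactly in a given subset of it. -/
theorem exact_count {o s : Finset GolayPt} (ho : o ∈ octads) (hs : s ⊆ o) :
    {c : Finset GolayPt | c ∈ octads ∧ o ∩ c = s}.ncard = SteinerTriangle.table24 s.card :=
  SteinerTriangle.exact_count card_golayPt (by decide) SteinerTriangle.goodTable24 steiner ho s hs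

/-- Number of octads through a given set of at most five points. -/
theorem card_through (s : Finset GolayPt) (hs : s.card ≤ 5) :
    (Steiner.through octads s).card * Nat.choose (8 - s.card) (5 - s.card) =
      Nat.choose (24 - s.card) (5 - s.card) := by
  have h := Steiner.card_through steiner s hs
  rwa [card_golayPt] at h

end Cfsg.Agent.Lib.SporStruct.OctadSystem
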