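import Cfsg.Agent.Lib.SporStruct.LeechCounts
import Cfsg.Agent.Lib.SporStruct.OctadSystem
import Cfsg.Agent.Lib.Leech.PairStab

/-!
The configuration of a hundred minimal vectors attached to two vectors of norm 48.
-/

set_option autoImplicit false

namespace Cfsg.Agent.Lib.SporStruct.LeechHS

open Cfsg Finset GolayUnique Leech LeechPairs LeechCounts

variable {a b : GolayPt}

theorem pn_apply (a b k : GolayPt) :
    vec (pn a b) k = (if k = a then 4 else 0) + (if k = b then -4 else 0) := by
  simp [pn, vec, Pi.single_apply]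

theorem monomial_pn {σ : Equiv.Perm GolayPt} (hσ : σ ∈ M24) {c : Finset GolayPt} (hc : IsCode c)
    (h1 : σ a = a) (h2 : σ b = b) (hca : a ∉ c) (hcb : b ∉ c) :
    monomial σ hσ c hc • pn a b = pn a b := by
  apply Subtype.ext
  funext k
  show signedPerm σ c (vec (pn a b)) k = vec (pn a b) k
  have e1 : σ.symm k = a ↔ k = a := by rw [Equiv.symm_apply_eq, h1]
  have e2 : σ.symm k = b ↔ k = b := by rw [Equiv.symm_apply_eq, h2]
  simp only [signedPerm, pn_apply, e1, e2]
  by_cases hk : k ∈ c
  · have k1 : k ≠ a := fun e => hca (e ▸ hk)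
    have k2 : k ≠ b := fun e => hcb (e ▸ hk)
    simp [hk, k1, k2]
  · simp [hk]

/-- The shape of a norm 48 vector in standard position with `pp a b` and `pn a b`. -/
def Std (a b : GolayPt) (v : GolayPt → ℤ) : Prop :=
  OddVec v ∧ v a = 5 ∧ v b = -1 ∧ ∀ k, k ≠ a → v k = 1 ∨ v k = -1

theorem std_of_dot {v : leechLattice} (hn : sqNorm (vec v) = 48)
    (h1 : dotInt (vec (pp a b)) (vec v) = 16) (h2 : dotInt (vec (pn a b)) (vec v) = 24) :
    Std a b (vec v) := by
  rw [dot_pp] at h1
  rw [dot_pn] at h2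
  have hva : vec v a = 5 := by omega
  have hmem : vec v ∈ leechLattice := v.2
  have ho : OddVec (vec v) := (mem_leech_iff.1 hmem).resolve_left fun he => by
    have := he.1 a; omega
  exact ⟨ho, hva, by omega, fun k hk => odd_unit ho (Ne.symm hk) (by rw [hn, hva]; norm_num)⟩

/-- Two standard vectors differ by a monomial element over any permutation fixing both points. -/
theorem exists_move {σ : Equiv.Perm GolayPt} (hσ : σ ∈ M24) (h1 : σ a = a) (h2 : σ b = b)
    {v v' : leechLattice} (hv : Std a b (vec v)) (hv' : Std a b (vec v')) :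
    ∃ s, ∃ hs : IsCode s, a ∉ s ∧ b ∉ s ∧ monomial σ hσ s hs • v = v' := by
  set w := monomial σ hσ ∅ isCode_empty • v with hw
  have hwk : ∀ k, vec w k = vec v (σ.symm k) := fun k => by
    rw [hw, monomial_smul]; simp [signedPerm]
  have hwa : vec w a = 5 := by rw [hwk, (Equiv.symm_apply_eq σ).2 h1.symm, hv.2.1]
  have hwb : vec w b = -1 := by rw [hwk, (Equiv.symm_apply_eq σ).2 h2.symm, hv.2.2.1]
  have hwc : IsCode (res 1 (vec w)) := by
    rcases mem_leech_iff.1 w.2 with he | ho
    · exfalso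
      have := he.1 a
      simp only [vec] at *
      omega
    · exact ho.2.1
  refine ⟨_, hwc.symmDiff hv'.1.2.1, ?_, ?_, ?_⟩
  · simp only [Finset.mem_symmDiff, mem_res, hwa, hv'.2.1]; omega
  · simp only [Finset.mem_symmDiff, mem_res, hwb, hv'.2.2.1]; omega
  · apply Subtype.ext
    funext k
    show vec (monomial σ hσ _ _ • v) k = vec v' k
    rw [monomial_smul]
    simp only [signedPerm, ← hwk, Finset.mem_symmDiff, mem_res]
    by_cases hk : k = a
    · subst hk; rw [hwa, hv'.2.1]; simp
    · have hk' : σ.symm k ≠ a := fun e => hk (by rw [← h1, ← e, Equiv.apply_symm_apply])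
      rcases hv.2.2.2 _ hk' with e | e <;> rcases hv'.2.2.2 k hk with e' | e' <;>
        rw [hwk, e, e'] <;> simp

/-- A triple in standard position. -/
theorem std100 (hab : a ≠ b) {v w x : leechLattice} (hv : sqNorm (vec v) = 48)
    (hw : sqNorm (vec w) = 48) (hvw : dotInt (vec v) (vec w) = -32)
    (hx : sqNorm (vec x) = 32) (hvx : dotInt (vec v) (vec x) = 24)
    (hwx : dotInt (vec w) (vec x) = -24) :
    ∃ g : Co0, g • (v + w) = pp a b ∧ g • x = pn a b ∧ Std a b (vec (g • v)) := by
  have htn : sqNorm (vec (v + w)) = 32 := by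
    simp only [vec, AddSubgroup.coe_add, sqNorm_add] at *; omega
  have htx : dotInt (vec (v + w)) (vec x) = 0 := by
    simp only [vec, AddSubgroup.coe_add] at *
    rw [dot_comm, dot_add_right, dot_comm, hvx, dot_comm, hwx]; norm_num
  obtain ⟨g, g1, g2⟩ := orth_std hab htn hx htx
  refine ⟨g, g1, g2, std_of_dot (by rw [norm_smul', hv]) ?_ ?_⟩
  · rw [← g1, dot_smul]
    simp only [vec, AddSubgroup.coe_add] at *
    rw [dot_comm, dot_add_right, dot_self, hv, hvw]; norm_num
  · rw [← g2, dot_smul, dot_comm, hvx]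

/-- Transitivity on triples. -/
theorem transitive100 {v w x v' w' x' : leechLattice} (hv : sqNorm (vec v) = 48)
    (hw : sqNorm (vec w) = 48) (hvw : dotInt (vec v) (vec w) = -32)
    (hx : sqNorm (vec x) = 32) (hvx : dotInt (vec v) (vec x) = 24)
    (hwx : dotInt (vec w) (vec x) = -24) (hv' : sqNorm (vec v') = 48)
    (hw' : sqNorm (vec w') = 48) (hvw' : dotInt (vec v') (vec w') = -32)
    (hx' : sqNorm (vec x') = 32) (hvx' : dotInt (vec v') (vec x') = 24)
    (hwx' : dotInt (vec w') (vec x') = -24) :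
    ∃ g : Co0, g • v = v' ∧ g • w = w' ∧ g • x = x' := by
  have hab : (none : GolayPt) ≠ some 0 := by simp
  obtain ⟨g, p1, p2, p3⟩ := std100 hab hv hw hvw hx hvx hwx
  obtain ⟨g', q1, q2, q3⟩ := std100 hab hv' hw' hvw' hx' hvx' hwx'
  obtain ⟨s, hs, h1, h2, e⟩ := exists_move (one_mem M24) rfl rfl p3 q3
  set m := monomial 1 (one_mem _) s hs
  have hm : (g'⁻¹ * m * g) • v = v' := by
    rw [mul_smul, mul_smul, inv_smul_eq_iff]; exact e
  refine ⟨g'⁻¹ * m * g, hm, ?_, ?_⟩
  · have h : (g'⁻¹ * m * g) • (v + w) = v' + w' := by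
      rw [mul_smul, mul_smul, inv_smul_eq_iff, p1, q1]
      exact monomial_pp _ _ rfl rfl h1 h2
    rw [smul_add', hm] at h
    exact add_left_cancel h
  · rw [mul_smul, mul_smul, inv_smul_eq_iff, p2, q2]
    exact monomial_pn _ _ rfl rfl h1 h2

/-! ### Counting -/

theorem filter_congr_smul (n : ℕ) (g : Co0) (p q : leechLattice → Prop) [DecidablePred p]
    [DecidablePred q] (h : ∀ w, p w ↔ q (g • w)) :
    ((shell n).filter p).card = ((shell n).filter q).card := by
  refine Finset.card_nbij' (fun w => g • w) (fun w => g⁻¹ • w) ?_ ?_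
    (fun w _ => inv_smul_smul g w) (fun w _ => smul_inv_smul g w)
  · intro w hw
    simp only [Finset.mem_coe, Finset.mem_filter, mem_shell] at hw ⊢
    exact ⟨by rw [norm_smul']; exact hw.1, (h w).1 hw.2⟩
  · intro w hw
    simp only [Finset.mem_coe, Finset.mem_filter, mem_shell] at hw ⊢
    exact ⟨by rw [norm_smul']; exact hw.1, (h _).2 (by rw [smul_inv_smul]; exact hw.2)⟩

/-- Vectors of norm 48 with inner product `16` with a minimal vector. -/
theorem card_nine {t : leechLattice} (ht : sqNorm (vec t) = 32) :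
    ((shell 48).filter fun v => dotInt (vec t) (vec v) = 16).card = 953856 := by
  classical
  have h := sigma_count (S := shell 48) (T := shell 32)
    (fun v => (shell 32).filter fun w => dotInt (vec v) (vec w) = 16)
    (fun w => (shell 48).filter fun v => dotInt (vec w) (vec v) = 16)
    (a := 11178) (b := ((shell 48).filter fun v => dotInt (vec t) (vec v) = 16).card)
    (fun v hv => (count48 (mem_shell.1 hv)).2.2.2.1)
    (fun w hw => by
      obtain ⟨g, hg⟩ := transitive32 (p := none) (q := some 0) (by simp) (mem_shell.1 hw)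
      obtain ⟨g', hg'⟩ := transitive32 (p := none) (q := some 0) (by simp) ht
      obtain ⟨m, hm⟩ := exists_smul_eq_of (hg.trans hg'.symm)
      exact filter_congr_smul 48 m _ _ fun v => by rw [← hm, dot_smul])
    (fun p => (p.2, p.1)) (fun p => (p.2, p.1))
    (fun v hv w hw => by
      simp only [Finset.mem_filter] at *
      exact ⟨hw.1, ⟨hv, by rw [dot_comm]; exact hw.2⟩, trivial⟩)
    (fun v hv w hw => by
      simp only [Finset.mem_filter] at *
      exact ⟨hw.1, ⟨hv, by rw [dot_comm]; exact hw.2⟩, trivial⟩)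
  rw [card32, card48] at h
  omega

/-- A standard vector. -/
theorem exists_std (hab : a ≠ b) : ∃ v : leechLattice, sqNorm (vec v) = 48 ∧ Std a b (vec v) := by
  obtain ⟨c, hc, hb, ha⟩ := separated (Ne.symm hab)
  have hn : sqNorm (vec (Leech.flip c hc • fiveBase a)) = 48 := by
    rw [norm_smul', norm_fiveBase]
  have h1 : vec (Leech.flip c hc • fiveBase a) a = 5 := by
    rw [flip_smul, if_neg ha, fiveBase_apply, if_pos rfl]
  have h2 : vec (Leech.flip c hc • fiveBase a) b = -1 := by
    rw [flip_smul, if_pos hb, fiveBase_apply, if_neg (Ne.symm hab)]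
  exact ⟨_, hn, std_of_dot hn (by rw [dot_pp, h1, h2]; norm_num)
    (by rw [dot_pn, h1, h2]; norm_num)⟩

theorem card_std (hab : a ≠ b) : ((shell 48).filter fun v =>
    dotInt (vec (pp a b)) (vec v) = 16 ∧ dotInt (vec (pn a b)) (vec v) = 24).card = 1024 := by
  classical
  obtain ⟨v0, hn0, h0⟩ := exists_std hab
  have hmem : ∀ v, (v ∈ shell 48 ∧ dotInt (vec (pp a b)) (vec v) = 16 ∧
      dotInt (vec (pn a b)) (vec v) = 24) ↔ (sqNorm (vec v) = 48 ∧ Std a b (vec v)) := by
    intro v
    rw [mem_shell]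
    constructor
    · rintro ⟨h, h1, h2⟩
      exact ⟨h, std_of_dot h h1 h2⟩
    · rintro ⟨h, h1⟩
      exact ⟨h, by rw [dot_pp, h1.2.1, h1.2.2.1]; norm_num,
        by rw [dot_pn, h1.2.1, h1.2.2.1]; norm_num⟩
  rw [← card_codes_avoiding hab]
  refine Finset.card_nbij' (fun v => symmDiff (res 1 (vec v0)) (res 1 (vec v)))
    (fun c => if h : IsCode c then Leech.flip c h • v0 else v0) ?_ ?_ ?_ ?_
  · intro v hv
    simp only [Finset.mem_coe, Finset.mem_filter, hmem] at hv ⊢
    obtain ⟨-, h⟩ := hv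
    refine ⟨mem_golaySets.2 (h0.1.2.1.symmDiff h.1.2.1), ?_, ?_⟩
    · simp only [Finset.mem_symmDiff, mem_res, h0.2.1, h.2.1]; omega
    · simp only [Finset.mem_symmDiff, mem_res, h0.2.2.1, h.2.2.1]; omega
  · intro c hc
    simp only [Finset.mem_coe, Finset.mem_filter, hmem, mem_golaySets] at hc ⊢
    obtain ⟨hc, hca, hcb⟩ := hc
    simp only [dif_pos hc]
    have h1 : vec (Leech.flip c hc • v0) a = 5 := by rw [flip_smul, if_neg hca, h0.2.1]
    have h2 : vec (Leech.flip c hc • v0) b = -1 := by rw [flip_smul, if_neg hcb, h0.2.2.1]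
    have hn : sqNorm (vec (Leech.flip c hc • v0)) = 48 := by rw [norm_smul', hn0]
    exact ⟨hn, std_of_dot hn (by rw [dot_pp, h1, h2]; norm_num)
      (by rw [dot_pn, h1, h2]; norm_num)⟩
  · intro v hv
    simp only [Finset.mem_coe, Finset.mem_filter, hmem] at hv
    obtain ⟨-, h⟩ := hv
    simp only [dif_pos (h0.1.2.1.symmDiff h.1.2.1)]
    apply Subtype.ext
    funext k
    show vec (Leech.flip _ _ • v0) k = vec v k
    rw [flip_smul]
    simp only [Finset.mem_symmDiff, mem_res]
    by_cases hk : k = a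
    · subst hk; rw [h0.2.1, h.2.1]; simp
    · rcases h0.2.2.2 k hk with e | e <;> rcases h.2.2.2 k hk with e' | e' <;>
        rw [e, e'] <;> simp
  · intro c hc
    simp only [Finset.mem_coe, Finset.mem_filter, mem_golaySets] at hc
    obtain ⟨hc, hca, hcb⟩ := hc
    simp only [dif_pos hc]
    ext k
    simp only [Finset.mem_symmDiff, mem_res, flip_smul]
    by_cases hk : k = a
    · subst hk; simp [hca]
    · rcases h0.2.2.2 k hk with e | e <;> by_cases hkc : k ∈ c <;> simp [e, hkc]

/-- The hundred vectors attached to a minimal `t` and a norm 48 vector `v` with inner product 16. -/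
theorem card100 {t v : leechLattice} (ht : sqNorm (vec t) = 32) (hv : sqNorm (vec v) = 48)
    (htv : dotInt (vec t) (vec v) = 16) :
    ((shell 32).filter fun x =>
      dotInt (vec t) (vec x) = 0 ∧ dotInt (vec v) (vec x) = 24).card = 100 := by
  classical
  have hab : (none : GolayPt) ≠ some 0 := by simp
  have h := sigma_count (S := (shell 48).filter fun v => dotInt (vec t) (vec v) = 16)
    (T := (shell 32).filter fun x => dotInt (vec t) (vec x) = 0)
    (fun v => (shell 32).filter fun x => dotInt (vec t) (vec x) = 0 ∧ dotInt (vec v) (vec x) = 24)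
    (fun x => (shell 48).filter fun v => dotInt (vec t) (vec v) = 16 ∧ dotInt (vec x) (vec v) = 24)
    (a := ((shell 32).filter fun x =>
      dotInt (vec t) (vec x) = 0 ∧ dotInt (vec v) (vec x) = 24).card) (b := 1024)
    (fun u hu => by
      simp only [Finset.mem_filter, mem_shell] at hu
      obtain ⟨g, g1, g2⟩ := transitive48_16 ht hu.1 hu.2 ht hv htv
      refine filter_congr_smul 32 g _ _ fun x => ?_
      conv_rhs => rw [← g1, ← g2, dot_smul, dot_smul])
    (fun x hx => by
      simp only [Finset.mem_filter, mem_shell] at hx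
      obtain ⟨g, g1, g2⟩ := orth_std hab ht hx.1 hx.2
      rw [← card_std hab]
      exact filter_congr_smul 48 g _ _ fun u => by rw [← g1, ← g2, dot_smul, dot_smul])
    (fun p => (p.2, p.1)) (fun p => (p.2, p.1))
    (fun u hu x hx => by
      simp only [Finset.mem_filter] at *
      exact ⟨⟨hx.1, hx.2.1⟩, ⟨hu.1, hu.2, by rw [dot_comm]; exact hx.2.2⟩, trivial⟩)
    (fun x hx u hu => by
      simp only [Finset.mem_filter] at *
      exact ⟨⟨hu.1, hu.2.1⟩, ⟨hx.1, hx.2, by rw [dot_comm]; exact hu.2.2⟩, trivial⟩)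
  rw [card_nine ht] at h
  have h93 : ((shell 32).filter fun x => dotInt (vec t) (vec x) = 0).card = 93150 :=
    (count32 ht).2.2.2.2
  rw [h93] at h
  omega

/-! ### The two classes relative to a point -/

theorem six_terms (hab : a ≠ b) (v y : GolayPt → ℤ) :
    dotInt v y = v a * y a + v b * y b + ∑ k ∈ univ \ {a, b}, v k * y k := by
  rw [dotInt, ← Finset.sum_sdiff (Finset.subset_univ ({a, b} : Finset GolayPt)),
    Finset.sum_pair hab]
  ring

theorem norm_terms (hab : a ≠ b) (y : GolayPt → ℤ) :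
    sqNorm y = y a ^ 2 + y b ^ 2 + ∑ k ∈ univ \ {a, b}, y k ^ 2 := by
  rw [sqNorm, ← Finset.sum_sdiff (Finset.subset_univ ({a, b} : Finset GolayPt)),
    Finset.sum_pair hab]
  ring

theorem card_rest (hab : a ≠ b) : ((univ : Finset GolayPt) \ {a, b}).card = 22 := by
  rw [Finset.card_sdiff_of_subset (Finset.subset_univ _), Finset.card_univ, card_pt,
    Finset.card_pair hab]

theorem mem_rest {k : GolayPt} : k ∈ (univ : Finset GolayPt) \ {a, b} ↔ k ≠ a ∧ k ≠ b := by
  simp [not_or]

/-- An odd member agrees with the norm 48 vector except for one `-3`. -/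
theorem classify_odd (hab : a ≠ b) {v y : GolayPt → ℤ} (hv : Std a b v) (hy : OddVec y)
    (hn : sqNorm y = 32) (h0 : y a + y b = 0) (hd : dotInt v y = 24) :
    y a = 1 ∧ y b = -1 ∧ ∃ m, m ≠ a ∧ m ≠ b ∧
      ∀ k, k ≠ a → k ≠ b → y k = if k = m then -3 * v k else v k := by
  have hle : ∀ k ∈ univ \ {a, b}, 4 * (v k * y k) ≤ y k ^ 2 + 3 := by
    intro k hk
    obtain ⟨hka, -⟩ := mem_rest.1 hk
    have h1 := hy.1 k
    rcases hv.2.2.2 k hka with e | e <;> rw [e] <;>
      rcases (by omega : y k = 1 ∨ y k = -1 ∨ 3 ≤ y k ∨ y k ≤ -3) with q | q | q | q <;> nlinarith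
  have hR := Finset.sum_le_sum hle
  rw [← Finset.mul_sum, Finset.sum_add_distrib, Finset.sum_const, card_rest hab,
    nsmul_eq_mul] at hR
  have hn' := norm_terms hab y
  have hd' := six_terms hab v y
  rw [hn] at hn'
  rw [hd, hv.2.1, hv.2.2.1, show y b = -y a by omega] at hd'
  rw [show y b = -y a by omega] at hn'
  push_cast at hR
  have hoa := hy.1 a
  have h1 := odd_excess hy {a, b}
  rw [Finset.sum_pair hab, show y b = -y a by omega, hn] at h1
  have ha2 : -2 ≤ y a ∧ y a ≤ 2 := by constructor <;> nlinarith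
  have hya : y a = 1 := by
    rcases (by omega : y a = 1 ∨ y a = -1) with e | e
    · exact e
    · rw [e] at hn' hd'; linarith
  rw [hya] at hn' hd'
  obtain ⟨m, hm, hm3⟩ : ∃ m ∈ univ \ {a, b}, y m ≠ 1 ∧ y m ≠ -1 := by
    by_contra hall
    push Not at hall
    rw [Finset.sum_congr rfl (g := fun _ => (1 : ℤ)) fun k hk => by
      by_cases q : y k = 1
      · rw [q]; norm_num
      · rw [hall k hk q]; norm_num, Finset.sum_const, card_rest hab] at hn'
    norm_num at hn'
  obtain ⟨hma, hmb⟩ := mem_rest.1 hm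
  have hm9 : y m = 3 ∨ y m = -3 := by
    have h9 := odd_excess hy {m}
    rw [Finset.sum_singleton, hn] at h9
    have := hy.1 m
    have : -3 ≤ y m ∧ y m ≤ 3 := by constructor <;> nlinarith
    omega
  have hunit : ∀ k, k ≠ m → y k = 1 ∨ y k = -1 := fun k hk =>
    odd_unit hy (Ne.symm hk) (by rw [hn]; rcases hm9 with e | e <;> rw [e] <;> norm_num)
  set D := symmDiff (res 1 v) (res 1 y) with hD
  have hDc : IsCode D := hv.1.2.1.symmDiff hy.2.1
  have hDa : a ∉ D := by simp only [hD, Finset.mem_symmDiff, mem_res, hv.2.1, hya]; omega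
  have hDb : b ∉ D := by
    simp only [hD, Finset.mem_symmDiff, mem_res, hv.2.2.1, show y b = -1 by omega]; omega
  have hval : ∀ k ∈ univ \ {a, b}, v k * y k =
      (1 - 2 * (if k ∈ D then 1 else 0)) +
        (if k = m then (if m ∈ D then 4 else -4) else 0) := by
    intro k hk
    obtain ⟨hka, hkb⟩ := mem_rest.1 hk
    by_cases hkm : k = m
    · subst hkm
      simp only [hD, Finset.mem_symmDiff, mem_res, if_true]
      rcases hv.2.2.2 k hka with e | e <;> rcases hm9 with q | q <;> rw [e, q] <;> simp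
    · rw [if_neg hkm]
      simp only [hD, Finset.mem_symmDiff, mem_res]
      rcases hv.2.2.2 k hka with e | e <;> rcases hunit k hkm with q | q <;> rw [e, q] <;> simp
  have hDsub : (univ \ {a, b}).filter (· ∈ D) = D := by
    ext k
    simp only [Finset.mem_filter, mem_rest]
    exact ⟨fun h => h.2, fun h => ⟨⟨fun e => hDa (e ▸ h), fun e => hDb (e ▸ h)⟩, h⟩⟩
  rw [Finset.sum_congr rfl hval, Finset.sum_add_distrib, Finset.sum_sub_distrib, Finset.sum_const,
    card_rest hab, ← Finset.mul_sum, Finset.sum_boole, hDsub, Finset.sum_ite_eq', if_pos hm,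
    nsmul_eq_mul] at hd'
  push_cast at hd'
  have hw := hDc.weights
  have hmD : m ∉ D := fun h => by rw [if_pos h] at hd'; omega
  rw [if_neg hmD] at hd'
  have hD0 : D = ∅ := Finset.card_eq_zero.1 (by omega)
  refine ⟨hya, by omega, m, hma, hmb, fun k hka hkb => ?_⟩
  have h := hval k (mem_rest.2 ⟨hka, hkb⟩)
  rw [hD0] at h
  simp only [Finset.notMem_empty, if_false] at h
  rcases hv.2.2.2 k hka with e | e <;> rw [e] at h ⊢ <;> split_ifs at h ⊢ <;> omega

/-- An even member is the vector itself or lives on an octad. -/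
theorem classify_even (hab : a ≠ b) {v y : GolayPt → ℤ} (hv : Std a b v) (hy : EvenVec y)
    (hn : sqNorm y = 32) (h0 : y a + y b = 0) (hd : dotInt v y = 24) :
    (y a = 4 ∧ y b = -4 ∧ ∀ k, k ≠ a → k ≠ b → y k = 0) ∨
      (y a = 2 ∧ y b = -2 ∧ (res 2 y).card = 8 ∧
        ∀ k, k ≠ a → k ≠ b → y k = if k ∈ res 2 y then 2 * v k else 0) := by
  have hle : ∀ k ∈ univ \ {a, b}, 2 * (v k * y k) ≤ y k ^ 2 := by
    intro k hk
    obtain ⟨hka, -⟩ := mem_rest.1 hk
    have h1 := hy.1 k
    rcases hv.2.2.2 k hka with e | e <;> rw [e] <;>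
      rcases (by omega : y k = 0 ∨ 2 ≤ y k ∨ y k ≤ -2) with q | q | q <;> nlinarith
  have hR := Finset.sum_le_sum hle
  rw [← Finset.mul_sum] at hR
  have hn' := norm_terms hab y
  have hd' := six_terms hab v y
  rw [hn, show y b = -y a by omega] at hn'
  rw [hd, hv.2.1, hv.2.2.1, show y b = -y a by omega] at hd'
  have hea := hy.1 a
  have h6 : y a = 2 ∨ y a = 4 := by
    have h24 : 2 ≤ y a ∧ y a ≤ 4 := by constructor <;> nlinarith
    omega
  have hzero : ∀ k ∈ univ \ {a, b}, y k ^ 2 - 2 * (v k * y k) = 0 := by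
    refine (Finset.sum_eq_zero_iff_of_nonneg fun k hk => by have := hle k hk; omega).1 ?_
    rw [Finset.sum_sub_distrib, ← Finset.mul_sum]
    rcases h6 with e | e <;> rw [e] at hn' hd' <;> omega
  rcases h6 with e | e
  · right
    have har : a ∈ res 2 y := mem_res.2 (by omega)
    obtain ⟨h8, htwo, hout⟩ := even32_shape hy hn har
    refine ⟨e, by omega, h8, fun k hka hkb => ?_⟩
    split_ifs with hk
    · have hz := hzero k (mem_rest.2 ⟨hka, hkb⟩)
      rcases hv.2.2.2 k hka with q | q <;> rcases htwo k hk with q' | q' <;>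
        rw [q, q'] at hz ⊢ <;> omega
    · exact hout k hk
  · left
    refine ⟨e, by omega, fun k hka hkb => ?_⟩
    rw [e] at hn'
    have h := Finset.single_le_sum (f := fun i => y i ^ 2) (fun i _ => sq_nonneg _)
      (mem_rest.2 ⟨hka, hkb⟩)
    have h' : y k ^ 2 ≤ 0 := by omega
    exact pow_eq_zero_iff two_ne_zero |>.mp (le_antisymm h' (sq_nonneg _))

/-- An octad through two points is moved to any other such octad fixing the two points. -/
theorem exists_octad_move (hab : a ≠ b) {o o' : Finset GolayPt} (ho : o ∈ octads)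
    (ho' : o' ∈ octads) (ha : a ∈ o) (hb : b ∈ o) (ha' : a ∈ o') (hb' : b ∈ o') :
    ∃ σ ∈ M24, σ a = a ∧ σ b = b ∧ o.map σ.toEmbedding = o' := by
  have key : ∀ s ∈ octads, a ∈ s → b ∈ s →
      ∃ e : Fin 5 ↪ GolayPt, e 0 = a ∧ e 1 = b ∧ ∀ i, e i ∈ s := by
    intro s hs h1 h2
    have h6 : 3 ≤ (s \ {a, b}).card := by
      rw [Finset.card_sdiff_of_subset (by simp [Finset.insert_subset_iff, h1, h2]),
        Finset.card_pair hab, hs.2]
      norm_num
    obtain ⟨T, hT, hT3⟩ := Finset.exists_subset_card_eq h6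
    obtain ⟨p, q, r, hpq, hpr, hqr, rfl⟩ := Finset.card_eq_three.1 hT3
    simp only [Finset.insert_subset_iff, Finset.singleton_subset_iff, Finset.mem_sdiff,
      Finset.mem_insert, Finset.mem_singleton, not_or] at hT
    obtain ⟨⟨hp, hpa, hpb⟩, ⟨hq, hqa, hqb⟩, hr, hra, hrb⟩ := hT
    refine ⟨⟨![a, b, p, q, r], fun i j h => ?_⟩, rfl, rfl, fun i => ?_⟩
    · fin_cases i <;> fin_cases j <;> simp_all
    · show ![a, b, p, q, r] i ∈ s
      fin_cases i <;> simp_all
  obtain ⟨e, e0, e1, he⟩ := key o ho ha hb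
  obtain ⟨e', e0', e1', he'⟩ := key o' ho' ha' hb'
  obtain ⟨σ, hσ, h⟩ := Golay.exists_map_five e e'
  refine ⟨σ, hσ, by rw [← e0, h, e0', e0], by rw [← e1, h, e1', e1], ?_⟩
  refine OctadSystem.eq_of_five (mem_octads.2 ⟨(mem_octads.1 ho).1.map hσ, ?_⟩) ho' ?_
  · rw [Finset.card_map]; exact (mem_octads.1 ho).2
  · refine le_trans (le_of_eq ?_) (Finset.card_le_card (s := Finset.univ.map e') ?_)
    · simp
    · intro k hk
      obtain ⟨i, -, rfl⟩ := Finset.mem_map.1 hk
      refine Finset.mem_inter.2 ⟨?_, he' i⟩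
      rw [← h i]
      exact Finset.mem_map_of_mem _ (he i)

/-- The vector with `-3` at a given point. -/
theorem exists_odd_member (hab : a ≠ b) {v : leechLattice} (hn : sqNorm (vec v) = 48)
    (hv : Std a b (vec v)) {m : GolayPt} (hma : m ≠ a) (hmb : m ≠ b) :
    ∃ y : leechLattice, sqNorm (vec y) = 32 ∧ dotInt (vec (pp a b)) (vec y) = 0 ∧
      dotInt (vec v) (vec y) = 24 ∧ vec y a = 1 ∧ vec y m = -3 * vec v m := by
  set s : ℤ := if vec v m = 1 then 1 else -1 with hs
  have hs1 : s = 1 ∨ s = -1 := by rw [hs]; split_ifs <;> simp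
  have hvm : vec v m = s := by rw [hs]; rcases hv.2.2.2 m hma with e | e <;> rw [e] <;> simp
  set z : leechLattice := ⟨_, pair_mem a m (Or.inl rfl) hs1⟩ with hz
  have hzk : ∀ k, vec z k = (if k = a then 4 else 0) + (if k = m then 4 * s else 0) := fun k => by
    simp [hz, vec, Pi.single_apply]
  have hvz : dotInt (vec v) (vec z) = 24 := by
    rw [dot_comm]
    show dotInt (Pi.single a (4 * 1) + Pi.single m (4 * s)) (vec v) = 24
    rw [dot_pair, hv.2.1, hvm]
    rcases hs1 with e | e <;> rw [e] <;> norm_num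
  have hzn : sqNorm (vec z) = 32 := by
    show sqNorm (Pi.single a (4 * 1) + Pi.single m (4 * s) : GolayPt → ℤ) = 32
    rw [norm_pair (Ne.symm hma)]
    rcases hs1 with e | e <;> rw [e] <;> norm_num
  have hyk : ∀ k, vec (v - z) k = vec v k - vec z k := fun k => rfl
  refine ⟨v - z, ?_, ?_, ?_, ?_, ?_⟩
  · show sqNorm (vec v - vec z) = 32
    rw [sqNorm_sub, hn, hvz, hzn]; norm_num
  · rw [dot_pp, hyk, hyk, hzk, hzk, hv.2.1, hv.2.2.1]
    simp [Ne.symm hab, Ne.symm hma, Ne.symm hmb]
  · show dotInt (vec v) (vec v - vec z) = 24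
    rw [dot_sub_right, dot_self, hn, hvz]; norm_num
  · rw [hyk, hzk, hv.2.1]; simp [Ne.symm hma]
  · rw [hyk, hzk, hvm]; simp [hma]; ring

theorem member_ext (hab : a ≠ b) {y y' : leechLattice} (ha : vec y a = vec y' a)
    (hb : vec y b = vec y' b) (h : ∀ k, k ≠ a → k ≠ b → vec y k = vec y' k) : y = y' := by
  refine Subtype.ext (funext fun k => ?_)
  by_cases h1 : k = a
  · subst h1; exact ha
  by_cases h2 : k = b
  · subst h2; exact hb
  exact h k h1 h2

theorem dot_pn_member {y : leechLattice} (h : dotInt (vec (pp a b)) (vec y) = 0) :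
    vec y b = -vec y a ∧ dotInt (vec (pn a b)) (vec y) = 8 * vec y a := by
  rw [dot_pp] at h
  refine ⟨by omega, ?_⟩
  rw [dot_pn]; omega

theorem card22 (hab : a ≠ b) {v : leechLattice} (hn : sqNorm (vec v) = 48)
    (hv : Std a b (vec v)) :
    ((shell 32).filter fun y => dotInt (vec (pp a b)) (vec y) = 0 ∧
      dotInt (vec v) (vec y) = 24 ∧ dotInt (vec (pn a b)) (vec y) = 8).card = 22 := by
  classical
  refine Eq.trans ?_ (card_rest hab)
  symm
  refine Finset.card_bij (fun m hm =>
    Classical.choose (exists_odd_member hab hn hv (mem_rest.1 hm).1 (mem_rest.1 hm).2)) ?_ ?_ ?_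
  · intro m hm
    obtain ⟨h1, h2, h3, h4, -⟩ := Classical.choose_spec
      (exists_odd_member hab hn hv (mem_rest.1 hm).1 (mem_rest.1 hm).2)
    rw [Finset.mem_filter, mem_shell]
    exact ⟨h1, h2, h3, by rw [(dot_pn_member h2).2, h4]; norm_num⟩
  · intro m hm m' hm' he
    obtain ⟨h1, h2, h3, h4, h5⟩ := Classical.choose_spec
      (exists_odd_member hab hn hv (mem_rest.1 hm).1 (mem_rest.1 hm).2)
    obtain ⟨-, -, -, -, h5'⟩ := Classical.choose_spec
      (exists_odd_member hab hn hv (mem_rest.1 hm').1 (mem_rest.1 hm').2)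
    rw [← he] at h5'
    generalize Classical.choose
      (exists_odd_member hab hn hv (mem_rest.1 hm).1 (mem_rest.1 hm).2) = y at h1 h2 h3 h4 h5 h5'
    have ho : OddVec (vec y) := (mem_leech_iff.1 (show vec y ∈ leechLattice from y.2)).resolve_left fun he => by
      have := he.1 a; simp only [vec] at *; omega
    obtain ⟨-, -, p, hpa, hpb, hk⟩ := classify_odd hab hv ho h1
      (by have := (dot_pn_member h2).1; omega) h3
    have q1 := hk m (mem_rest.1 hm).1 (mem_rest.1 hm).2
    have q2 := hk m' (mem_rest.1 hm').1 (mem_rest.1 hm').2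
    rw [h5] at q1
    rw [h5'] at q2
    have e1 : m = p := by
      by_contra hne; rw [if_neg hne] at q1
      rcases hv.2.2.2 m (mem_rest.1 hm).1 with e | e <;> rw [e] at q1 <;> omega
    have e2 : m' = p := by
      by_contra hne; rw [if_neg hne] at q2
      rcases hv.2.2.2 m' (mem_rest.1 hm').1 with e | e <;> rw [e] at q2 <;> omega
    rw [e1, e2]
  · intro y hy
    rw [Finset.mem_filter, mem_shell] at hy
    obtain ⟨h1, h2, h3, h4⟩ := hy
    rw [(dot_pn_member h2).2] at h4
    have hya : vec y a = 1 := by omega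
    have ho : OddVec (vec y) := (mem_leech_iff.1 (show vec y ∈ leechLattice from y.2)).resolve_left fun he => by
      have := he.1 a; simp only [vec] at *; omega
    obtain ⟨-, hyb, p, hpa, hpb, hk⟩ := classify_odd hab hv ho h1
      (by have := (dot_pn_member h2).1; omega) h3
    refine ⟨p, mem_rest.2 ⟨hpa, hpb⟩, ?_⟩
    obtain ⟨g1, g2, g3, g4, g5⟩ := Classical.choose_spec
      (exists_odd_member hab hn hv hpa hpb)
    generalize Classical.choose (exists_odd_member hab hn hv hpa hpb) = z at g1 g2 g3 g4 g5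
    have hoz : OddVec (vec z) := (mem_leech_iff.1 (show vec z ∈ leechLattice from z.2)).resolve_left fun he => by
      have := he.1 a; simp only [vec] at *; omega
    obtain ⟨-, hzb, p', -, -, hk'⟩ := classify_odd hab hv hoz g1
      (by have := (dot_pn_member g2).1; omega) g3
    have hpp' : p = p' := by
      by_contra hne
      have q := hk' p hpa hpb
      rw [if_neg hne, g5] at q
      rcases hv.2.2.2 p hpa with e | e <;> rw [e] at q <;> omega
    refine member_ext hab (by rw [g4, hya]) (by rw [hzb, hyb]) fun k k1 k2 => ?_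
    rw [hk k k1 k2, hk' k k1 k2, hpp']

/-- Members with the same inner product with `pn a b` are conjugate. -/
theorem move_member (hab : a ≠ b) {v y y' : leechLattice} (hv : Std a b (vec v))
    (hy : sqNorm (vec y) = 32) (hy0 : dotInt (vec (pp a b)) (vec y) = 0)
    (hyv : dotInt (vec v) (vec y) = 24) (hy' : sqNorm (vec y') = 32)
    (hy0' : dotInt (vec (pp a b)) (vec y') = 0) (hyv' : dotInt (vec v) (vec y') = 24)
    (hne : y ≠ pn a b) (hne' : y' ≠ pn a b)
    (h8 : dotInt (vec (pn a b)) (vec y) = 8 ↔ dotInt (vec (pn a b)) (vec y') = 8) :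
    ∃ g : Co0, g • v = v ∧ g • pp a b = pp a b ∧ g • pn a b = pn a b ∧ g • y = y' := by
  obtain ⟨hyb, hyd⟩ := dot_pn_member hy0
  obtain ⟨hyb', hyd'⟩ := dot_pn_member hy0'
  rw [hyd, hyd'] at h8
  suffices h : ∃ σ, ∃ hσ : σ ∈ M24, σ a = a ∧ σ b = b ∧
      ∀ z : leechLattice, sqNorm (vec z) = 32 → dotInt (vec v) (vec z) = 24 →
        vec z a = vec y a → vec z b = vec y b →
        (∀ k, k ≠ a → k ≠ b → |vec z k| = |vec y (σ.symm k)|) → z = y' by
    obtain ⟨σ, hσ, s1, s2, h⟩ := h
    obtain ⟨s, hs, hsa, hsb, e⟩ := exists_move hσ s1 s2 hv hv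
    refine ⟨monomial σ hσ s hs, e, monomial_pp hσ hs s1 s2 hsa hsb,
      monomial_pn hσ hs s1 s2 hsa hsb, h _ (by rw [norm_smul', hy]) ?_ ?_ ?_ ?_⟩
    · nth_rewrite 1 [← e]
      rw [dot_smul, hyv]
    · rw [monomial_smul, signedPerm, if_neg hsa, (Equiv.symm_apply_eq σ).2 s1.symm]
    · rw [monomial_smul, signedPerm, if_neg hsb, (Equiv.symm_apply_eq σ).2 s2.symm]
    · intro k _ _
      rw [monomial_smul, signedPerm]
      split_ifs <;> simp
  rcases mem_leech_iff.1 (show vec y ∈ leechLattice from y.2) with he | ho <;> rcases mem_leech_iff.1 (show vec y' ∈ leechLattice from y'.2) with he' | ho'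
  · obtain ⟨q1, q2, q3⟩ | ⟨q1, q2, q8, q3⟩ := classify_even hab hv he hy (by simp only [vec] at *; omega) hyv
    · exact absurd (member_ext hab (by rw [pn_apply]; simpa [hab] using q1)
        (by rw [pn_apply]; simpa [Ne.symm hab] using q2)
        fun k k1 k2 => by rw [pn_apply]; simpa [k1, k2] using q3 k k1 k2) hne
    obtain ⟨r1, r2, r3⟩ | ⟨r1, r2, r8, r3⟩ :=
      classify_even hab hv he' hy' (by simp only [vec] at *; omega) hyv'
    · exact absurd (member_ext hab (by rw [pn_apply]; simpa [hab] using r1)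
        (by rw [pn_apply]; simpa [Ne.symm hab] using r2)
        fun k k1 k2 => by rw [pn_apply]; simpa [k1, k2] using r3 k k1 k2) hne'
    have ma : a ∈ res 2 (vec y) := mem_res.2 (by simp only [vec] at *; omega)
    have mb : b ∈ res 2 (vec y) := mem_res.2 (by simp only [vec] at *; omega)
    have ma' : a ∈ res 2 (vec y') := mem_res.2 (by simp only [vec] at *; omega)
    have mb' : b ∈ res 2 (vec y') := mem_res.2 (by simp only [vec] at *; omega)
    obtain ⟨σ, hσ, s1, s2, hmap⟩ := exists_octad_move hab (mem_octads.2 ⟨he.2.1, q8⟩)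
      (mem_octads.2 ⟨he'.2.1, r8⟩) ma mb ma' mb'
    refine ⟨σ, hσ, s1, s2, fun z hz hzv hza hzb hzk => ?_⟩
    have hez : EvenVec (vec z) := (mem_leech_iff.1 (show vec z ∈ leechLattice from z.2)).resolve_right fun h => by
      have := h.1 a; simp only [vec] at *; omega
    obtain ⟨t1, -, -⟩ | ⟨-, -, -, t3⟩ :=
      classify_even hab hv hez hz (by simp only [vec] at *; omega) hzv
    · exfalso; simp only [vec] at *; omega
    refine member_ext hab (by simp only [vec] at *; omega) (by simp only [vec] at *; omega)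
      fun k k1 k2 => ?_
    have n1 : σ.symm k ≠ a := fun e => k1 (by rw [← s1, ← e, Equiv.apply_symm_apply])
    have n2 : σ.symm k ≠ b := fun e => k2 (by rw [← s2, ← e, Equiv.apply_symm_apply])
    have hz' := hzk k k1 k2
    have hmem : k ∈ res 2 (vec y') ↔ σ.symm k ∈ res 2 (vec y) := by
      rw [← hmap, Finset.mem_map_equiv]
    rw [t3 k k1 k2, q3 _ n1 n2] at hz'
    rw [t3 k k1 k2, r3 k k1 k2]
    rcases hv.2.2.2 k k1 with e | e <;> rcases hv.2.2.2 _ n1 with e' | e' <;>
      by_cases i1 : k ∈ res 2 (vec z) <;> by_cases i2 : σ.symm k ∈ res 2 (vec y) <;>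
      simp [i1, i2, e, e', hmem] at hz' ⊢
  · exfalso
    obtain ⟨q1, -, -⟩ := classify_odd hab hv ho' hy' (by simp only [vec] at *; omega) hyv'
    have := he.1 a
    simp only [vec] at *
    omega
  · exfalso
    obtain ⟨q1, -, -⟩ := classify_odd hab hv ho hy (by simp only [vec] at *; omega) hyv
    have := he'.1 a
    simp only [vec] at *
    omega
  · obtain ⟨q1, q2, p, hpa, hpb, q3⟩ :=
      classify_odd hab hv ho hy (by simp only [vec] at *; omega) hyv
    obtain ⟨r1, r2, p', hpa', hpb', r3⟩ :=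
      classify_odd hab hv ho' hy' (by simp only [vec] at *; omega) hyv'
    obtain ⟨σ, hσ, s1, s2, s3⟩ := Golay.exists_map_three hab (Ne.symm hpa) (Ne.symm hpb)
      hab (Ne.symm hpa') (Ne.symm hpb')
    refine ⟨σ, hσ, s1, s2, fun z hz hzv hza hzb hzk => ?_⟩
    have hoz : OddVec (vec z) := (mem_leech_iff.1 (show vec z ∈ leechLattice from z.2)).resolve_left fun h => by
      have := h.1 a; simp only [vec] at *; omega
    obtain ⟨-, -, m, hma, hmb, t3⟩ :=
      classify_odd hab hv hoz hz (by simp only [vec] at *; omega) hzv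
    have hmp : m = p' := by
      have hz' := hzk p' hpa' hpb'
      rw [show σ.symm p' = p from (Equiv.symm_apply_eq σ).2 s3.symm, q3 p hpa hpb, if_pos rfl,
        t3 p' hpa' hpb'] at hz'
      by_contra hne
      rw [if_neg (Ne.symm hne)] at hz'
      rcases hv.2.2.2 p hpa with e | e <;> rcases hv.2.2.2 p' hpa' with e' | e' <;>
        rw [e, e'] at hz' <;> norm_num at hz'
    refine member_ext hab (by simp only [vec] at *; omega) (by simp only [vec] at *; omega)
      fun k k1 k2 => ?_
    rw [t3 k k1 k2, r3 k k1 k2, hmp]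

end Cfsg.Agent.Lib.SporStruct.LeechHS
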