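import Cfsg.Agent.Lib.SporStruct.LeechCounts

/-!
Triples `u, v, x` with `u` of norm 48 and `v, x`, `u - v`, `u - x`, `v - x` minimal.
-/

set_option autoImplicit false

namespace Cfsg.Agent.Lib.SporStruct.LeechTriples

open Cfsg Finset Leech LeechPairs

variable {a b c : GolayPt}

theorem pn_apply (a b k : GolayPt) :
    vec (pn a b) k = (if k = a then 4 else 0) + (if k = b then -4 else 0) := by
  simp [pn, vec, Pi.single_apply]

/-- A code flip avoiding three points fixes the standard pair. -/
theorem flip_fix {s : Finset GolayPt} (hs : IsCode s) (ha : a ∉ s) (hb : b ∉ s) (hc : c ∉ s) :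
    Leech.flip s hs • pp a b = pp a b ∧ Leech.flip s hs • pn b c = pn b c := by
  refine ⟨monomial_pp _ _ rfl rfl ha hb, Subtype.ext (funext fun k => ?_)⟩
  show vec (Leech.flip s hs • pn b c) k = vec (pn b c) k
  rw [flip_smul]
  split_ifs with h
  · have k1 : k ≠ b := fun e => hb (e ▸ h)
    have k2 : k ≠ c := fun e => hc (e ▸ h)
    rw [pn_apply, if_neg k1, if_neg k2]; rfl
  · rfl

/-- An even vector of norm `48` with a coordinate `4` has `±2` on an octad. -/
theorem even48_twos {u : GolayPt → ℤ} (he : EvenVec u) (hn : sqNorm u = 48) {b i : GolayPt}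
    (hb : u b = 4) (hi : i ∈ res 2 u) : 8 ≤ (res 2 u).card ∧ ∀ k ∈ res 2 u, u k = 2 ∨ u k = -2 := by
  have h8 := res_two_card he hi
  refine ⟨h8, fun k hk => ?_⟩
  by_contra hne
  push Not at hne
  have hbr : b ∉ res 2 u := fun h => by have := mem_res.1 h; omega
  have h := sub_pair_le u (insert b (res 2 u))
  rw [Finset.sum_insert hbr, hb, ← Finset.add_sum_erase _ _ hk] at h
  have h2 : 4 * (((res 2 u).erase k).card : ℤ) ≤ ∑ i ∈ (res 2 u).erase k, u i ^ 2 := by
    have := Finset.card_nsmul_le_sum ((res 2 u).erase k) (fun i => u i ^ 2) (4 : ℤ) fun i hi' => by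
      rw [← sq_abs]; have := even_two he (Finset.mem_of_mem_erase hi'); nlinarith
    rw [nsmul_eq_mul] at this
    linarith
  rw [Finset.card_erase_of_mem hk] at h2
  have : 36 ≤ u k ^ 2 := by
    have := mem_res.1 hk
    rcases (by omega : 6 ≤ u k ∨ u k ≤ -6) with e | e <;> nlinarith
  omega

/-- A minimal vector reducing a triple to the shape with a coordinate `5`. -/
theorem exists_witness275 (hab : a ≠ b) (hca : c ≠ a) (hcb : c ≠ b) {u : GolayPt → ℤ}
    (hu : u ∈ leechLattice) (hn : sqNorm u = 48) (h1 : u a + u b = 6) (h2 : u b - u c = 6) :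
    ∃ z : leechLattice, sqNorm (vec z) = 32 ∧ dotInt (vec (pp a b)) (vec z) = 0 ∧
      dotInt (vec (pn b c)) (vec z) = 16 ∧ dotInt (vec z) u = 16 := by
  have hsub := sub_pair_le u {a, b, c}
  rw [Finset.sum_insert (by simp [hab, Ne.symm hca]), Finset.sum_pair (Ne.symm hcb), hn] at hsub
  have hb6 : 0 ≤ u b ∧ u b ≤ 6 := by constructor <;> nlinarith
  have hmk : ∀ d, d ≠ a → d ≠ b → d ≠ c → -4 * u c + 4 * |u d| = 16 →
      ∃ z : leechLattice, sqNorm (vec z) = 32 ∧ dotInt (vec (pp a b)) (vec z) = 0 ∧
        dotInt (vec (pn b c)) (vec z) = 16 ∧ dotInt (vec z) u = 16 := by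
    intro d hda hdb hdc hval
    set t : ℤ := if 0 ≤ u d then 1 else -1 with ht
    have ht1 : t = 1 ∨ t = -1 := by rw [ht]; split_ifs <;> simp
    refine ⟨⟨_, pair_mem c d (Or.inr rfl) ht1⟩, ?_, ?_, ?_, ?_⟩
    · show sqNorm (Pi.single c (4 * -1) + Pi.single d (4 * t) : GolayPt → ℤ) = 32
      rw [norm_pair (Ne.symm hdc)]
      rcases ht1 with e | e <;> rw [e] <;> norm_num
    · rw [dot_pp]
      simp [vec, Pi.single_apply, Ne.symm hca, Ne.symm hcb, Ne.symm hda, Ne.symm hdb]
    · rw [dot_pn]
      simp [vec, Pi.single_apply, Ne.symm hcb, Ne.symm hdb, Ne.symm hdc]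
    · show dotInt (Pi.single c (4 * -1) + Pi.single d (4 * t)) u = 16
      rw [dot_pair, ht]
      simp only [Int.abs_eq_natAbs] at hval
      split_ifs <;> omega
  rcases mem_leech_iff.1 hu with he | ho
  · have hb4 : u b = 4 ∧ u a = 2 ∧ u c = -2 := by
      have := he.1 b
      rcases (by omega : u b = 0 ∨ u b = 2 ∨ u b = 4 ∨ u b = 6) with e | e | e | e
      · exfalso
        rw [e, show u a = 6 by omega, show u c = -6 by omega] at hsub
        norm_num at hsub
      · exfalso
        have hbr : b ∈ res 2 u := mem_res.2 (by omega)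
        have h8 := res_two_card he hbr
        have har : a ∉ res 2 u := fun h => by have := mem_res.1 h; omega
        have hcr : c ∉ res 2 u := fun h => by have := mem_res.1 h; omega
        have h := sub_pair_le u (insert a (insert c (res 2 u)))
        rw [Finset.sum_insert (by simp [Ne.symm hca, har]), Finset.sum_insert hcr,
          show u a = 4 by omega, show u c = -4 by omega, hn] at h
        have h4 := Finset.card_nsmul_le_sum (res 2 u) (fun i => u i ^ 2) (4 : ℤ) fun i hi' => by
          rw [← sq_abs]; have := even_two he hi'; nlinarith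
        rw [nsmul_eq_mul] at h4
        omega
      · omega
      · exfalso
        have hbr : b ∈ res 2 u := mem_res.2 (by omega)
        have h8 := res_two_card he hbr
        have h := sub_pair_le u (res 2 u)
        rw [← Finset.add_sum_erase _ _ hbr, e, hn] at h
        have h4 := Finset.card_nsmul_le_sum ((res 2 u).erase b) (fun i => u i ^ 2) (4 : ℤ)
          fun i hi' => by
            rw [← sq_abs]; have := even_two he (Finset.mem_of_mem_erase hi'); nlinarith
        rw [nsmul_eq_mul, Finset.card_erase_of_mem hbr] at h4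
        omega
    have har : a ∈ res 2 u := mem_res.2 (by omega)
    obtain ⟨h8, htwo⟩ := even48_twos he hn hb4.1 har
    obtain ⟨d, hd, d', -, -, hda, hdc, -, -⟩ :=
      exists_two_outside (a := a) (b := c) (S := res 2 u) (by omega)
    refine hmk d hda (fun e => ?_) hdc ?_
    · have := mem_res.1 hd
      rw [e] at this
      omega
    · rcases htwo d hd with e | e <;> rw [e, hb4.2.2] <;> norm_num
  · have hb := ho.1 b
    rcases (by omega : u b = 1 ∨ u b = 3 ∨ u b = 5) with e | e | e
    · exfalso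
      have h := odd_excess ho {a, c}
      rw [Finset.sum_pair (Ne.symm hca), show u a = 5 by omega, show u c = -5 by omega, hn] at h
      norm_num at h
    · have hea : u a = 3 := by omega
      have hec : u c = -3 := by omega
      obtain ⟨d, hd⟩ : ∃ d : GolayPt, d ∈ ({a, b, c} : Finset GolayPt)ᶜ :=
        Finset.card_pos.1 (by
          rw [Finset.card_compl, card_pt]
          have := Finset.card_le_three (a := a) (b := b) (c := c)
          omega)
      simp only [Finset.mem_compl, Finset.mem_insert, Finset.mem_singleton, not_or] at hd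
      refine hmk d hd.1 hd.2.1 hd.2.2 ?_
      have h := odd_excess ho {a, b, c, d}
      rw [Finset.sum_insert (by simp [hab, Ne.symm hca, Ne.symm hd.1]),
        Finset.sum_insert (by simp [Ne.symm hcb, Ne.symm hd.2.1]),
        Finset.sum_pair (Ne.symm hd.2.2), hea, e, hec, hn] at h
      have h1 : u d = 1 ∨ u d = -1 := by
        have := ho.1 d
        by_contra hne
        push Not at hne
        rcases (by omega : 3 ≤ u d ∨ u d ≤ -3) with q | q <;> nlinarith
      rcases h1 with q | q <;> rw [q, hec] <;> norm_num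
    · refine ⟨pn b a, norm_pn (Ne.symm hab), ?_, ?_, ?_⟩
      · simp [dot_pp, pn_apply, hab, Ne.symm hab]
      · simp [dot_pn, pn_apply, hab, hca, hcb, Ne.symm hab, Ne.symm hcb]
      · rw [dot_pn]; omega

/-- A witness takes a triple to standard position and is itself moved to `-(pn a b)`. -/
theorem std_witness (hab : a ≠ b) (hca : c ≠ a) (hcb : c ≠ b) {u z : leechLattice}
    (hu : sqNorm (vec u) = 48) (h1 : dotInt (vec (pp a b)) (vec u) = 24)
    (h2 : dotInt (vec (pn b c)) (vec u) = 24) (hzn : sqNorm (vec z) = 32)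
    (hzv : dotInt (vec (pp a b)) (vec z) = 0) (hzx : dotInt (vec (pn b c)) (vec z) = 16)
    (hzu : dotInt (vec z) (vec u) = 16) :
    ∃ g : Co0, g • pp a b = pp a b ∧ g • pn b c = pn b c ∧ g • z = -pn a b ∧
      OddVec (vec (g • u)) ∧ vec (g • u) a = 1 ∧ vec (g • u) b = 5 ∧ vec (g • u) c = -1 ∧
      ∀ k, k ≠ b → (vec (g • u) k = 1 ∨ vec (g • u) k = -1) := by
  obtain ⟨h, hh1, hh2⟩ := orth_std hab (w := -z) (norm_pp hab) (by simpa [vec, sqNorm_neg] using hzn)
    (by simp only [vec, AddSubgroup.coe_neg] at *; rw [dot_neg_right, hzv, neg_zero])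
  have hzval : h • z = -pn a b := by rw [← hh2, smul_neg', neg_neg]
  have e1 : dotInt (vec (pp a b)) (vec (h • pn b c)) = 16 := by
    rw [← hh1, dot_smul, dot_pp, pn_apply, pn_apply]
    simp [hab, Ne.symm hca, Ne.symm hcb]
  have e2 : dotInt (vec (pn a b)) (vec (h • pn b c)) = -16 := by
    rw [← hh2, dot_smul]
    simp only [vec, AddSubgroup.coe_neg] at *
    rw [dot_comm, dot_neg_right, hzx]
  have e3 : dotInt (vec (pp a b)) (vec (h • u)) = 24 := by
    rw [← hh1, dot_smul, h1]
  have e4 : dotInt (vec (pn a b)) (vec (h • u)) = -16 := by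
    rw [← hh2, dot_smul]
    simp only [vec, AddSubgroup.coe_neg] at *
    rw [dot_comm, dot_neg_right, dot_comm, hzu]
  rw [dot_pp] at e1 e3
  rw [dot_pn] at e2 e4
  have hxn : sqNorm (vec (-(h • pn b c))) = 32 := by
    simp only [vec, AddSubgroup.coe_neg, sqNorm_neg]
    rw [show sqNorm ((h • pn b c : leechLattice) : GolayPt → ℤ) = _ from norm_smul' h _]
    exact norm_pn (Ne.symm hcb)
  obtain ⟨σ, hσ, s, hs, s1, s2, hsa, hsb, e⟩ := move16 hab hca hcb (-(h • pn b c)).2 hxn
    (by simp only [vec, AddSubgroup.coe_neg, Pi.neg_apply] at *; omega)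
    (by simp only [vec, AddSubgroup.coe_neg, Pi.neg_apply] at *; omega)
  set m := monomial σ hσ s hs with hm
  have hmx : m • h • pn b c = pn b c := by
    apply Subtype.ext
    funext k
    have q := congrFun e k
    rw [show (⟨((-(h • pn b c) : leechLattice) : GolayPt → ℤ), (-(h • pn b c)).2⟩ : leechLattice) =
      -(h • pn b c) from rfl, smul_neg'] at q
    show vec (m • h • pn b c) k = vec (pn b c) k
    simp only [vec, AddSubgroup.coe_neg, Pi.neg_apply] at q ⊢
    rw [show ((pn b c : leechLattice) : GolayPt → ℤ) k = _ from pn_apply b c k]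
    by_cases hk : k = b
    · subst hk; simp [Ne.symm hcb] at q ⊢; omega
    · by_cases hk' : k = c
      · subst hk'; simp [hk] at q ⊢; omega
      · simp [hk, hk'] at q ⊢; omega
  have hua : vec (h • u) a = 1 := by omega
  have hub : vec (h • u) b = 5 := by omega
  have hma : vec (m • h • u) a = 1 := by
    rw [hm, monomial_smul, signedPerm, if_neg hsa,
      show σ.symm a = a by rw [Equiv.symm_apply_eq, s1], hua]
  have hmb : vec (m • h • u) b = 5 := by
    rw [hm, monomial_smul, signedPerm, if_neg hsb,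
      show σ.symm b = b by rw [Equiv.symm_apply_eq, s2], hub]
  have hn : sqNorm (vec (m • h • u)) = 48 := by rw [norm_smul', norm_smul', hu]
  have hmc : 4 * (vec (m • h • u) b - vec (m • h • u) c) = 24 := by
    rw [← dot_pn, ← hmx, dot_smul, dot_smul, h2]
  have hmz : m • h • z = -pn a b := by
    rw [hzval, smul_neg']
    congr 1
    apply Subtype.ext
    funext k
    show signedPerm σ s (vec (pn a b)) k = vec (pn a b) k
    have q1 : σ.symm k = a ↔ k = a := by rw [Equiv.symm_apply_eq, s1]
    have q2 : σ.symm k = b ↔ k = b := by rw [Equiv.symm_apply_eq, s2]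
    simp only [signedPerm, pn_apply, q1, q2]
    by_cases hk : k ∈ s
    · have k1 : k ≠ a := fun e => hsa (e ▸ hk)
      have k2 : k ≠ b := fun e => hsb (e ▸ hk)
      simp [hk, k1, k2]
    · simp [hk]
  refine ⟨m * h, ?_, by rw [mul_smul, hmx], by rw [mul_smul, hmz], ?_⟩
  · rw [mul_smul, hh1, hm, monomial_pp hσ hs s1 s2 hsa hsb]
  simp only [mul_smul]
  have hmem := (m • h • u).2
  generalize hy : vec (m • h • u) = y at hma hmb hn hmc ⊢
  simp only [vec] at hy
  rw [hy] at hmem
  have ho : OddVec y := (mem_leech_iff.1 hmem).resolve_left fun he => by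
    have := he.1 a; omega
  exact ⟨ho, hma, hmb, by omega, fun k hk => odd_unit ho (Ne.symm hk) (by rw [hn, hmb]; norm_num)⟩

/-- A triple in standard position. -/
theorem std275 (hab : a ≠ b) (hca : c ≠ a) (hcb : c ≠ b) {u v x : leechLattice}
    (hu : sqNorm (vec u) = 48) (hv : sqNorm (vec v) = 32) (hx : sqNorm (vec x) = 32)
    (huv : dotInt (vec u) (vec v) = 24) (hux : dotInt (vec u) (vec x) = 24)
    (hvx : dotInt (vec v) (vec x) = 16) :
    ∃ g : Co0, g • v = pp a b ∧ g • x = pn b c ∧ OddVec (vec (g • u)) ∧ vec (g • u) a = 1 ∧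
      vec (g • u) b = 5 ∧ vec (g • u) c = -1 ∧
      ∀ k, k ≠ b → (vec (g • u) k = 1 ∨ vec (g • u) k = -1) := by
  obtain ⟨g₁, hg1, hg2⟩ := std16 (w := -x) hab hca hcb hv
    (by simpa [vec, sqNorm_neg] using hx)
    (by simp only [vec, AddSubgroup.coe_neg] at *; rw [dot_neg_right, hvx])
  have hx1 : g₁ • x = pn b c := by
    apply Subtype.ext
    funext k
    have h := congrFun hg2 k
    rw [smul_neg'] at h
    show vec (g₁ • x) k = vec (pn b c) k
    simp only [vec, AddSubgroup.coe_neg, Pi.neg_apply] at h ⊢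
    rw [show ((pn b c : leechLattice) : GolayPt → ℤ) k = _ from pn_apply b c k]
    by_cases hk : k = b
    · subst hk; simp [Ne.symm hcb] at h ⊢; omega
    · by_cases hk' : k = c
      · subst hk'; simp [hk] at h ⊢; omega
      · simp [hk, hk'] at h ⊢; omega
  have h1 : dotInt (vec (pp a b)) (vec (g₁ • u)) = 24 := by rw [← hg1, dot_smul, dot_comm, huv]
  have h2 : dotInt (vec (pn b c)) (vec (g₁ • u)) = 24 := by rw [← hx1, dot_smul, dot_comm, hux]
  have h1' := h1
  have h2' := h2
  rw [dot_pp] at h1'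
  rw [dot_pn] at h2'
  obtain ⟨z, hzn, hzv, hzx, hzu⟩ := exists_witness275 hab hca hcb (u := vec (g₁ • u)) (g₁ • u).2
    (by rw [norm_smul', hu]) (by omega) (by omega)
  obtain ⟨h, w1, w2, -, w3⟩ := std_witness hab hca hcb (u := g₁ • u)
    (by rw [norm_smul', hu]) h1 h2 hzn hzv hzx hzu
  refine ⟨h * g₁, by rw [mul_smul, hg1, w1], by rw [mul_smul, hx1, w2], ?_⟩
  rw [mul_smul]
  exact w3

/-- Transitivity on triples. -/
theorem transitive275 {u v x u' v' x' : leechLattice}
    (hu : sqNorm (vec u) = 48) (hv : sqNorm (vec v) = 32) (hx : sqNorm (vec x) = 32)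
    (huv : dotInt (vec u) (vec v) = 24) (hux : dotInt (vec u) (vec x) = 24)
    (hvx : dotInt (vec v) (vec x) = 16)
    (hu' : sqNorm (vec u') = 48) (hv' : sqNorm (vec v') = 32) (hx' : sqNorm (vec x') = 32)
    (huv' : dotInt (vec u') (vec v') = 24) (hux' : dotInt (vec u') (vec x') = 24)
    (hvx' : dotInt (vec v') (vec x') = 16) :
    ∃ g : Co0, g • u = u' ∧ g • v = v' ∧ g • x = x' := by
  have hab : (none : GolayPt) ≠ some 0 := by simp
  have hca : (some 1 : GolayPt) ≠ none := by simp
  have hcb : (some 1 : GolayPt) ≠ some 0 := by decide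
  obtain ⟨g, p1, p2, po, pa, pb, pc, pr⟩ := std275 hab hca hcb hu hv hx huv hux hvx
  obtain ⟨g', q1, q2, qo, qa, qb, qc, qr⟩ := std275 hab hca hcb hu' hv' hx' huv' hux' hvx'
  have hs := po.2.1.symmDiff qo.2.1
  set S := symmDiff (res 1 (vec (g • u))) (res 1 (vec (g' • u'))) with hS
  have h1 : (none : GolayPt) ∉ S := by simp only [hS, Finset.mem_symmDiff, mem_res, pa, qa]; omega
  have h2 : (some 0 : GolayPt) ∉ S := by simp only [hS, Finset.mem_symmDiff, mem_res, pb, qb]; omega
  have h3 : (some 1 : GolayPt) ∉ S := by simp only [hS, Finset.mem_symmDiff, mem_res, pc, qc]; omega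
  obtain ⟨f1, f2⟩ := flip_fix hs h1 h2 h3
  refine ⟨g'⁻¹ * Leech.flip S hs * g, ?_, ?_, ?_⟩ <;> rw [mul_smul, mul_smul, inv_smul_eq_iff]
  · apply Subtype.ext
    funext k
    show vec (Leech.flip S hs • (g • u)) k = vec (g' • u') k
    rw [flip_smul]
    simp only [hS, Finset.mem_symmDiff, mem_res]
    by_cases hk : k = some 0
    · subst hk; rw [pb, qb]; simp
    · rcases pr k hk with e | e <;> rcases qr k hk with e' | e' <;> rw [e, e'] <;> simp
  · rw [p1, q1, f1]
  · rw [p2, q2, f2]

open LeechCounts in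
/-- For a vector of norm 48 and a summand, exactly 275 further summands have inner product 16. -/
theorem count275 {u v : leechLattice} (hu : sqNorm (vec u) = 48) (hv : sqNorm (vec v) = 32)
    (huv : dotInt (vec u) (vec v) = 24) :
    ((shell 32).filter fun x =>
      dotInt (vec u) (vec x) = 24 ∧ dotInt (vec v) (vec x) = 16).card = 275 := by
  classical
  set A := (shell 32).filter fun x => dotInt (vec u) (vec x) = 24 with hA
  have hAcard : A.card = 552 := N24 hu
  set P := A.filter fun x => dotInt (vec v) (vec x) = 16 with hP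
  set M := A.filter fun x => dotInt (vec v) (vec x) = 8 with hM
  have hPP : ((shell 32).filter fun x =>
      dotInt (vec u) (vec x) = 24 ∧ dotInt (vec v) (vec x) = 16) = P := by
    rw [hP, hA, Finset.filter_filter]
  rw [hPP]
  have hinv : P.card = M.card := by
    refine Finset.card_nbij' (fun x => u - x) (fun x => u - x) ?_ ?_
      (fun x _ => sub_sub_cancel u x) (fun x _ => sub_sub_cancel u x)
    all_goals
      intro x hx
      simp only [hP, hM, hA, Finset.mem_coe, Finset.mem_filter, mem_shell, vec,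
        AddSubgroup.coe_sub] at hx ⊢
      simp only [vec] at hu huv
      refine ⟨⟨by rw [sqNorm_sub, hu, hx.1.2, hx.1.1]; norm_num,
        by rw [dot_sub_right, dot_self, hu, hx.1.2]; norm_num⟩, ?_⟩
      rw [dot_sub_right, dot_comm (v : GolayPt → ℤ) u, huv, hx.2]
      norm_num
  have hcover : A = insert v (insert (u - v) (P ∪ M)) := by
    ext x
    simp only [Finset.mem_insert, Finset.mem_union, hP, hM, Finset.mem_filter, hA, mem_shell]
    constructor
    · rintro ⟨hxn, hux⟩
      simp only [vec] at hu hv huv hxn hux ⊢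
      have hy : sqNorm ((u : GolayPt → ℤ) - (x : GolayPt → ℤ)) = 32 := by rw [sqNorm_sub, hu, hux, hxn]; norm_num
      have d1 := dot_cases v.2 x.2 hv hxn
      have d2 := dot_cases v.2 (leechLattice.sub_mem u.2 x.2) hv hy
      rw [dot_sub_right, dot_comm (v : GolayPt → ℤ) u, huv] at d2
      rcases (by omega : dotInt (v : GolayPt → ℤ) x = 32 ∨ dotInt (v : GolayPt → ℤ) x = -8 ∨
        dotInt (v : GolayPt → ℤ) x = 16 ∨ dotInt (v : GolayPt → ℤ) x = 8) with e | e | e | e
      · refine Or.inl (Subtype.ext (sub_eq_zero.1 (sqNorm_eq_zero.1 ?_)).symm)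
        rw [sqNorm_sub, hv, hxn, e]; norm_num
      · have h0 : (v : GolayPt → ℤ) + (x : GolayPt → ℤ) - (u : GolayPt → ℤ) = 0 := by
          refine sqNorm_eq_zero.1 ?_
          rw [sqNorm_sub, sqNorm_add, hv, e, hxn, hu, dot_comm, dot_add_right, huv, hux]
          norm_num
        refine Or.inr (Or.inl (Subtype.ext ?_))
        rw [AddSubgroup.coe_sub, ← sub_eq_zero, ← h0]
        abel
      · exact Or.inr (Or.inr (Or.inl ⟨⟨hxn, hux⟩, e⟩))
      · exact Or.inr (Or.inr (Or.inr ⟨⟨hxn, hux⟩, e⟩))
    · rintro (rfl | rfl | ⟨h, -⟩ | ⟨h, -⟩)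
      · exact ⟨hv, huv⟩
      · simp only [vec, AddSubgroup.coe_sub] at *
        exact ⟨by rw [sqNorm_sub, hu, huv, hv]; norm_num,
          by rw [dot_sub_right, dot_self, hu, huv]; norm_num⟩
      · exact h
      · exact h
  have hvv : dotInt (vec v) (vec v) = 32 := by rw [dot_self, hv]
  have hvw : dotInt (vec v) (vec (u - v)) = -8 := by
    simp only [vec, AddSubgroup.coe_sub] at *
    rw [dot_sub_right, hvv, dot_comm, huv]; norm_num
  have h1 : v ∉ insert (u - v) (P ∪ M) := by
    simp only [Finset.mem_insert, Finset.mem_union, hP, hM, Finset.mem_filter]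
    rintro (e | ⟨-, e⟩ | ⟨-, e⟩)
    · rw [← e, hvv] at hvw; norm_num at hvw
    all_goals omega
  have h2 : u - v ∉ P ∪ M := by
    simp only [Finset.mem_union, hP, hM, Finset.mem_filter]
    rintro (⟨-, e⟩ | ⟨-, e⟩) <;> omega
  have hd : Disjoint P M := by
    rw [Finset.disjoint_left]
    intro x hx hx'
    simp only [hP, hM, Finset.mem_filter] at hx hx'
    omega
  have h := congrArg Finset.card hcover
  rw [hAcard, Finset.card_insert_of_notMem h1, Finset.card_insert_of_notMem h2,
    Finset.card_union_of_disjoint hd] at h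
  omega

end Cfsg.Agent.Lib.SporStruct.LeechTriples
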