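import Mathlib

/-! Short vectors of an even rootless lattice modulo twice the lattice.

Abstract setting: an additive commutative group with a symmetric bi-additive integer form,
positive definite, even, without vectors of norm 2. -/

set_option autoImplicit false

namespace Cfsg.Agent.Lib.SporStruct.LatticeClasses

variable {V : Type*} [AddCommGroup V]

/-- An even positive definite form without roots. -/
structure EvenRootless (ip : V → V → ℤ) : Prop where
  symm : ∀ x y, ip x y = ip y x
  add_left : ∀ x y z, ip (x + y) z = ip x z + ip y z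
  pos : ∀ x, x ≠ 0 → 0 < ip x x
  even : ∀ x, (2 : ℤ) ∣ ip x x
  ne_two : ∀ x, ip x x ≠ 2

namespace EvenRootless

variable {ip : V → V → ℤ} (h : EvenRootless ip)

include h

theorem zero_left (z : V) : ip 0 z = 0 := by
  have := h.add_left 0 0 z
  simp at this
  omega

theorem neg_left (x z : V) : ip (-x) z = -ip x z := by
  have := h.add_left (-x) x z
  rw [neg_add_cancel, h.zero_left] at this
  omega

theorem sub_left (x y z : V) : ip (x - y) z = ip x z - ip y z := by
  rw [sub_eq_add_neg, h.add_left, h.neg_left]; ring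

theorem add_right (x y z : V) : ip x (y + z) = ip x y + ip x z := by
  rw [h.symm, h.add_left, h.symm y, h.symm z]

theorem sub_right (x y z : V) : ip x (y - z) = ip x y - ip x z := by
  rw [h.symm, h.sub_left, h.symm y, h.symm z]

theorem neg_neg_ip (x : V) : ip (-x) (-x) = ip x x := by
  rw [h.neg_left, h.symm, h.neg_left]; ring

theorem four_le {x : V} (hx : x ≠ 0) : 4 ≤ ip x x := by
  have h1 := h.pos x hx
  have h2 := h.ne_two x
  obtain ⟨k, hk⟩ := h.even x
  omega

/-- Two vectors congruent modulo twice the lattice are equal, opposite, or the half norms of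
their sum and difference are at least 4. -/
theorem cong_cases {x y : V} (hc : ∃ z, x - y = z + z) :
    x = y ∨ x = -y ∨ (16 ≤ ip x x + ip y y ∧ (ip x x + ip y y = 16 → ip x y = 0)) := by
  obtain ⟨z, hz⟩ := hc
  by_cases hz0 : z = 0
  · left
    subst hz0
    rw [add_zero, sub_eq_zero] at hz
    exact hz
  have hw : x + y = (x - z) + (x - z) := by
    rw [sub_add_sub_comm, ← hz]
    abel
  by_cases hw0 : x - z = 0
  · right; left
    rw [hw0, add_zero] at hw
    exact eq_neg_of_add_eq_zero_left hw
  right; right
  have e1 : ip (x - y) (x - y) = 4 * ip z z := by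
    rw [hz, h.add_left, h.add_right]; ring
  have e2 : ip (x + y) (x + y) = 4 * ip (x - z) (x - z) := by
    rw [hw, h.add_left, h.add_right]; ring
  have e3 : ip (x - y) (x - y) = ip x x + ip y y - 2 * ip x y := by
    rw [h.sub_left, h.sub_right, h.sub_right, h.symm y x]; ring
  have e4 : ip (x + y) (x + y) = ip x x + ip y y + 2 * ip x y := by
    rw [h.add_left, h.add_right, h.add_right, h.symm y x]; ring
  have := h.four_le hz0
  have := h.four_le hw0
  refine ⟨by omega, fun h16 => by omega⟩

theorem norm8_trichotomy {x y : V} (hx : ip x x = 8) (hy : ip y y = 8)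
    (hc : ∃ z, x - y = z + z) : x = y ∨ x = -y ∨ ip x y = 0 := by
  rcases h.cong_cases hc with h1 | h1 | h1
  · exact Or.inl h1
  · exact Or.inr (Or.inl h1)
  · exact Or.inr (Or.inr (h1.2 (by omega)))

theorem exists_orth_half [DecidableEq V] (T : Finset V)
    (hT : ∀ x ∈ T, ∀ y ∈ T, x = y ∨ x = -y ∨ ip x y = 0) :
    ∃ U ⊆ T, (∀ x ∈ U, ∀ y ∈ U, x ≠ y → ip x y = 0) ∧ T.card ≤ 2 * U.card := by
  induction T using Finset.strongInduction with
  | _ T ih =>
    rcases T.eq_empty_or_nonempty with rfl | ⟨x, hx⟩
    · exact ⟨∅, by simp, by simp, by simp⟩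
    obtain ⟨U, hU, hUo, hUc⟩ := ih ((T.erase x).erase (-x))
      (lt_of_le_of_lt (Finset.erase_subset _ _) (Finset.erase_ssubset hx))
      (fun a ha b hb => hT a (by simp at ha; exact ha.2.2) b (by simp at hb; exact hb.2.2))
    have hxU : ∀ a ∈ U, a ≠ x ∧ a ≠ -x ∧ a ∈ T := by
      intro a ha
      have := hU ha
      simp at this
      exact ⟨this.2.1, this.1, this.2.2⟩
    refine ⟨insert x U, ?_, ?_, ?_⟩
    · intro a ha
      rcases Finset.mem_insert.1 ha with rfl | ha
      · exact hx
      · exact (hxU a ha).2.2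
    · have key : ∀ b ∈ U, ip x b = 0 := by
        intro b hb
        rcases hT b (hxU b hb).2.2 x hx with h1 | h1 | h1
        · exact absurd h1 (hxU b hb).1
        · exact absurd h1 (hxU b hb).2.1
        · rw [h.symm]; exact h1
      intro a ha b hb hab
      rcases Finset.mem_insert.1 ha with ha | ha <;> rcases Finset.mem_insert.1 hb with hb | hb
      · exact absurd (ha.trans hb.symm) hab
      · rw [ha]; exact key b hb
      · rw [hb, h.symm]; exact key a ha
      · exact hUo a ha b hb hab
    · rw [Finset.card_insert_of_notMem (fun hh => (hxU x hh).1 rfl)]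
      have h1 := Finset.card_erase_add_one hx
      have h2 := Finset.pred_card_le_card_erase (a := -x) (s := T.erase x)
      omega

end EvenRootless

/-- Counting classes: with the shell numbers of the rank-24 lattice, there are exactly
`48` vectors of norm `8` in each class meeting the third shell, and every class meets a shell. -/
theorem class_count {K : Type*} [Finite K] (hK : Nat.card K = 2 ^ 24)
    {ip : V → V → ℤ} (h : EvenRootless ip) (π : V → K)
    (hπ : ∀ x y, π x = π y ↔ ∃ z, x - y = z + z)
    (hrank : ∀ U : Finset V, (∀ x ∈ U, x ≠ 0) →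
      (∀ x ∈ U, ∀ y ∈ U, x ≠ y → ip x y = 0) → U.card ≤ 24)
    (h4 : {x : V | ip x x = 4}.ncard = 196560)
    (h6 : {x : V | ip x x = 6}.ncard = 16773120)
    (h8 : {x : V | ip x x = 8}.ncard = 398034000) :
    (∀ x, ip x x = 8 → {y : V | ip y y = 8 ∧ ∃ z, x - y = z + z}.ncard = 48) ∧
      ∀ v : V, ∃ y : V, ip y y ≤ 8 ∧ ∃ z, v - y = z + z := by
  classical
  have f4 : {x : V | ip x x = 4}.Finite :=
    Set.finite_of_ncard_ne_zero (by rw [h4]; exact Nat.succ_ne_zero _)
  have f6 : {x : V | ip x x = 6}.Finite :=
    Set.finite_of_ncard_ne_zero (by rw [h6]; exact Nat.succ_ne_zero _)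
  have f8 : {x : V | ip x x = 8}.Finite :=
    Set.finite_of_ncard_ne_zero (by rw [h8]; exact Nat.succ_ne_zero _)
  rw [Set.ncard_eq_toFinset_card _ f4] at h4
  rw [Set.ncard_eq_toFinset_card _ f6] at h6
  rw [Set.ncard_eq_toFinset_card _ f8] at h8
  have := Fintype.ofFinite K
  rw [Nat.card_eq_fintype_card] at hK
  generalize hS4 : f4.toFinset = S4 at h4
  generalize hS6 : f6.toFinset = S6 at h6
  generalize hS8 : f8.toFinset = S8 at h8
  have m4 : ∀ x, x ∈ S4 ↔ ip x x = 4 := fun x => by rw [← hS4]; simp
  have m6 : ∀ x, x ∈ S6 ↔ ip x x = 6 := fun x => by rw [← hS6]; simp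
  have m8 : ∀ x, x ∈ S8 ↔ ip x x = 8 := fun x => by rw [← hS8]; simp
  have two : ∀ (S : Finset V) (n : ℤ), (∀ x, x ∈ S ↔ ip x x = n) → n < 8 → n ≠ 0 →
      S.card = 2 * (S.image π).card := by
    intro S n mS hn hn0
    have e : ∀ c ∈ S.image π, (S.filter fun a => π a = c).card = 2 := by
      intro c hc
      obtain ⟨x, hx, rfl⟩ := Finset.mem_image.1 hc
      have hxn := (mS x).1 hx
      have hne : x ≠ -x := by
        intro he
        have := h.add_left x x x
        have e2 : x + x = 0 := by rw [← eq_neg_iff_add_eq_zero]; exact he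
        rw [e2, h.zero_left] at this
        omega
      rw [show (S.filter fun a => π a = π x) = {x, -x} from ?_, Finset.card_pair hne]
      ext a
      simp only [Finset.mem_filter, Finset.mem_insert, Finset.mem_singleton, mS, hπ]
      constructor
      · rintro ⟨ha, hc⟩
        rcases h.cong_cases hc with h1 | h1 | h1
        · exact Or.inl h1
        · exact Or.inr h1
        · omega
      · rintro (rfl | rfl)
        · exact ⟨hxn, 0, by simp⟩
        · exact ⟨by rw [h.neg_neg_ip]; exact hxn, -x, by abel⟩
    rw [Finset.card_eq_sum_card_image π S, Finset.sum_congr rfl e, Finset.sum_const]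
    simp [mul_comm]
  have d4 := two S4 4 m4 (by norm_num) (by norm_num)
  have d6 := two S6 6 m6 (by norm_num) (by norm_num)
  have le48 : ∀ c, (S8.filter fun a => π a = c).card ≤ 48 := by
    intro c
    obtain ⟨U, hU, hUo, hUc⟩ := h.exists_orth_half (S8.filter fun a => π a = c) (by
      intro a ha b hb
      simp only [Finset.mem_filter, m8] at ha hb
      exact h.norm8_trichotomy ha.1 hb.1 ((hπ a b).1 (ha.2.trans hb.2.symm)))
    have := hrank U (fun a ha h0 => by
      have := hU ha
      simp only [Finset.mem_filter, m8] at this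
      rw [h0, h.zero_left] at this
      omega) hUo
    omega
  -- the four families of classes are disjoint
  have disj : ∀ (a b : ℤ) (A B : Finset V), (∀ x ∈ A, ip x x = a) → (∀ x ∈ B, ip x x = b) →
      a ≠ b → a + b < 16 → Disjoint (A.image π) (B.image π) := by
    intro a b A B hA hB hab hlt
    rw [Finset.disjoint_left]
    intro c hc hc'
    obtain ⟨x, hx, rfl⟩ := Finset.mem_image.1 hc
    obtain ⟨y, hy, he⟩ := Finset.mem_image.1 hc'
    have ha := hA x hx
    have hb := hB y hy
    rcases h.cong_cases ((hπ y x).1 he) with h1 | h1 | h1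
    · subst h1; omega
    · subst h1; rw [h.neg_neg_ip] at hb; omega
    · omega
  have h0 : ∀ x ∈ ({0} : Finset V), ip x x = 0 := by
    intro x hx; rw [Finset.mem_singleton] at hx; subst hx; exact h.zero_left _
  let A := ((({0} : Finset V).image π ∪ S4.image π) ∪ S6.image π)
  have hA : A.card = 1 + (S4.image π).card + (S6.image π).card := by
    show ((_ ∪ _) ∪ _ : Finset K).card = _
    rw [Finset.card_union_of_disjoint, Finset.card_union_of_disjoint]
    · simp
    · exact disj 0 4 _ _ h0 (fun x hx => (m4 x).1 hx) (by norm_num) (by norm_num)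
    · rw [Finset.disjoint_union_left]
      exact ⟨disj 0 6 _ _ h0 (fun x hx => (m6 x).1 hx) (by norm_num) (by norm_num),
        disj 4 6 _ _ (fun x hx => (m4 x).1 hx) (fun x hx => (m6 x).1 hx) (by norm_num) (by norm_num)⟩
  have hAd : Disjoint A (S8.image π) := by
    rw [Finset.disjoint_union_left, Finset.disjoint_union_left]
    exact ⟨⟨disj 0 8 _ _ h0 (fun x hx => (m8 x).1 hx) (by norm_num) (by norm_num),
      disj 4 8 _ _ (fun x hx => (m4 x).1 hx) (fun x hx => (m8 x).1 hx) (by norm_num) (by norm_num)⟩,
      disj 6 8 _ _ (fun x hx => (m6 x).1 hx) (fun x hx => (m8 x).1 hx) (by norm_num) (by norm_num)⟩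
  have htot : (A ∪ S8.image π).card ≤ 16777216 := by
    refine (Finset.card_le_univ _).trans ?_
    rw [hK]; norm_num
  rw [Finset.card_union_of_disjoint hAd, hA] at htot
  have hsum : S8.card = ∑ c ∈ S8.image π, (S8.filter fun a => π a = c).card :=
    Finset.card_eq_sum_card_image π S8
  have hsum_le : S8.card ≤ (S8.image π).card * 48 := by
    rw [hsum]
    refine (Finset.sum_le_sum fun c _ => le48 c).trans ?_
    simp
  have heq : (S8.image π).card = 8292375 := by omega
  constructor
  · intro x hx
    have hxS : π x ∈ S8.image π := Finset.mem_image_of_mem π ((m8 x).2 hx)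
    have e : {y : V | ip y y = 8 ∧ ∃ z, x - y = z + z} =
        ↑(S8.filter fun a => π a = π x) := by
      ext y
      simp only [Set.mem_setOf_eq, Finset.coe_filter, m8]
      rw [← hπ, eq_comm (a := π x)]
    rw [e, Set.ncard_coe_finset]
    by_contra hne
    have hlt : (S8.filter fun a => π a = π x).card < 48 := lt_of_le_of_ne (le48 _) hne
    have := Finset.sum_lt_sum (fun c _ => le48 c) ⟨π x, hxS, hlt⟩
    rw [← hsum] at this
    simp only [Finset.sum_const, smul_eq_mul] at this
    omega
  · intro v
    have hu : A ∪ S8.image π = Finset.univ := by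
      apply Finset.eq_univ_of_card
      rw [Finset.card_union_of_disjoint hAd, hA, hK]
      have : (2 : ℕ) ^ 24 = 16777216 := by norm_num
      omega
    have hv := Finset.mem_univ (π v)
    rw [← hu] at hv
    simp only [A, Finset.mem_union, Finset.mem_image, Finset.mem_singleton] at hv
    rcases hv with ((⟨y, hy, e⟩ | ⟨y, hy, e⟩) | ⟨y, hy, e⟩) | ⟨y, hy, e⟩
    · subst hy; exact ⟨0, by rw [h.zero_left]; norm_num, (hπ v 0).1 e.symm⟩
    · exact ⟨y, by rw [(m4 y).1 hy]; norm_num, (hπ v y).1 e.symm⟩
    · exact ⟨y, by rw [(m6 y).1 hy]; norm_num, (hπ v y).1 e.symm⟩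
    · exact ⟨y, by rw [(m8 y).1 hy], (hπ v y).1 e.symm⟩

/-- A family of pairwise orthogonal vectors of positive norm for a bilinear form has at most
`finrank` many members. -/
theorem orth_card_le {M : Type*} [AddCommGroup M] [Module.Finite ℤ M] [Module.Free ℤ M]
    (b : M →ₗ[ℤ] M →ₗ[ℤ] ℤ) (U : Finset M) (hpos : ∀ x ∈ U, b x x ≠ 0)
    (ho : ∀ x ∈ U, ∀ y ∈ U, x ≠ y → b x y = 0) : U.card ≤ Module.finrank ℤ M := by
  classical
  have hli : LinearIndependent ℤ (fun u : U => (u : M)) := by
    rw [Fintype.linearIndependent_iff]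
    intro g hg i
    have := congrArg (fun v => b v (i : M)) hg
    simp only [map_sum, map_smul, LinearMap.sum_apply, LinearMap.smul_apply, map_zero,
      LinearMap.zero_apply, smul_eq_mul] at this
    rw [Finset.sum_eq_single i (fun j _ hji => by
      rw [ho _ j.2 _ i.2 (fun e => hji (Subtype.ext e)), mul_zero]) (by simp)] at this
    rcases mul_eq_zero.1 this with h | h
    · exact h
    · exact absurd h (hpos _ i.2)
  simpa using hli.fintype_card_le_finrank

end Cfsg.Agent.Lib.SporStruct.LatticeClasses
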