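import Mathlib

/-! Transport of stabiliser transitivity along an orbit, and maximality of point stabilisers
from the sizes of their orbits. -/

set_option autoImplicit false

namespace Cfsg.Agent.Lib.SporStruct.BlockMax

variable {G X : Type*} [Group G] [MulAction G X]

/-- Transitivity of the stabiliser on the classes of an invariant `κ`, transported from `x₀`. -/
theorem transport {L : Type*} {Ω : Set X} {κ : X → X → L} {x₀ : X}
    (hinv : ∀ g : G, ∀ a b, a ∈ Ω → b ∈ Ω → κ (g • a) (g • b) = κ a b)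
    (hΩ : ∀ g : G, ∀ a, a ∈ Ω → g • a ∈ Ω)
    (htrans : ∀ x ∈ Ω, ∃ g : G, g • x₀ = x) (hx₀ : x₀ ∈ Ω)
    (hstd : ∀ y ∈ Ω, ∀ z ∈ Ω, κ x₀ y = κ x₀ z → ∃ g : G, g • x₀ = x₀ ∧ g • y = z)
    {x y z : X} (hx : x ∈ Ω) (hy : y ∈ Ω) (hz : z ∈ Ω) (h : κ x y = κ x z) :
    ∃ g : G, g • x = x ∧ g • y = z := by
  obtain ⟨a, rfl⟩ := htrans x hx
  have key : ∀ w ∈ Ω, κ x₀ (a⁻¹ • w) = κ (a • x₀) w := fun w hw => by
    rw [← hinv a x₀ (a⁻¹ • w) hx₀ (hΩ _ w hw), smul_inv_smul]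
  obtain ⟨g, hg, hgy⟩ := hstd _ (hΩ a⁻¹ y hy) _ (hΩ a⁻¹ z hz) (by rw [key y hy, key z hz, h])
  refine ⟨a * g * a⁻¹, ?_, ?_⟩
  · rw [mul_smul, mul_smul, inv_smul_smul, hg]
  · rw [mul_smul, mul_smul, hgy, smul_inv_smul]

/-- The number of points of a class, transported from `x₀`. -/
theorem transport_ncard {L : Type*} {Ω : Set X} {κ : X → X → L} {x₀ : X}
    (hinv : ∀ g : G, ∀ a b, a ∈ Ω → b ∈ Ω → κ (g • a) (g • b) = κ a b)
    (hΩ : ∀ g : G, ∀ a, a ∈ Ω → g • a ∈ Ω)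
    (htrans : ∀ x ∈ Ω, ∃ g : G, g • x₀ = x) (hx₀ : x₀ ∈ Ω)
    {x : X} (hx : x ∈ Ω) (l : L) :
    {y | y ∈ Ω ∧ κ x y = l}.ncard = {y | y ∈ Ω ∧ κ x₀ y = l}.ncard := by
  obtain ⟨a, rfl⟩ := htrans x hx
  rw [← Set.ncard_image_of_injective {y | y ∈ Ω ∧ κ x₀ y = l} (MulAction.injective a)]
  congr 1
  ext y
  constructor
  · rintro ⟨hy, hk⟩
    refine ⟨a⁻¹ • y, ⟨hΩ _ y hy, ?_⟩, smul_inv_smul a y⟩
    rw [← hinv a x₀ (a⁻¹ • y) hx₀ (hΩ _ y hy), smul_inv_smul]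
    exact hk
  · rintro ⟨w, ⟨hw, hk⟩, rfl⟩
    exact ⟨hΩ a w hw, by rw [hinv a x₀ w hx₀ hw]; exact hk⟩

/-- Classes of `H = stabilizer G x` on `Ω` such that no proper union of them containing
`{x}` has a size dividing `|Ω|`: then `H` is maximal. -/
theorem isCoatom_stabilizer {x : X} {Ω : Set X} (hfin : Ω.Finite)
    (hΩ : MulAction.orbit G x = Ω) {r : ℕ} (f : X → Fin (r + 1)) (hr : r ≠ 0)
    (hf0 : ∀ y ∈ Ω, (f y = 0 ↔ y = x))
    (htr : ∀ y ∈ Ω, ∀ z ∈ Ω, f y = f z → ∃ g : G, g • x = x ∧ g • y = z)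
    (n : Fin (r + 1) → ℕ) (hn : ∀ i, {y | y ∈ Ω ∧ f y = i}.ncard = n i) (hn1 : ∀ i, n i ≠ 0)
    (N : ℕ) (hN : Ω.ncard = N)
    (hdiv : ∀ T : Finset (Fin (r + 1)), 0 ∈ T → (∑ i ∈ T, n i) ∣ N → T = {0} ∨ T = Finset.univ) :
    IsCoatom (MulAction.stabilizer G x) := by
  classical
  have hxΩ : x ∈ Ω := hΩ ▸ MulAction.mem_orbit_self x
  have hne : MulAction.stabilizer G x ≠ ⊤ := by
    intro htop
    have hall : ∀ y ∈ Ω, y = x := by
      intro y hy
      rw [← hΩ] at hy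
      obtain ⟨g, rfl⟩ := hy
      exact MulAction.mem_stabilizer_iff.1 (htop ▸ Subgroup.mem_top g)
    have h1 : (⟨1, by omega⟩ : Fin (r + 1)) ≠ 0 := by simp [Fin.ext_iff]
    apply hn1 ⟨1, by omega⟩
    rw [← hn, Set.ncard_eq_zero (hfin.subset fun y hy => hy.1), Set.eq_empty_iff_forall_notMem]
    rintro y ⟨hy, hfy⟩
    exact h1 (hfy.symm.trans ((hf0 y hy).2 (hall y hy)))
  refine ⟨hne, fun K hK => ?_⟩
  have hle := le_of_lt hK
  let B : Set X := MulAction.orbit K x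
  have hBΩ : B ⊆ Ω := by
    rintro _ ⟨k, rfl⟩
    rw [← hΩ]
    exact ⟨(k : G), rfl⟩
  have hBinv : ∀ g : G, g • x = x → ∀ y ∈ B, g • y ∈ B := by
    rintro g hg _ ⟨k, rfl⟩
    refine ⟨⟨g * k, K.mul_mem (hle (MulAction.mem_stabilizer_iff.2 hg)) k.2⟩, ?_⟩
    exact mul_smul g (k : G) x
  let T : Finset (Fin (r + 1)) := Finset.univ.filter fun i => ∃ y ∈ B, f y = i
  have hBT : B = {y | y ∈ Ω ∧ f y ∈ T} := by
    ext y
    constructor
    · exact fun hy => ⟨hBΩ hy, Finset.mem_filter.2 ⟨Finset.mem_univ _, y, hy, rfl⟩⟩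
    · rintro ⟨hy, hfy⟩
      obtain ⟨w, hw, hwy⟩ := (Finset.mem_filter.1 hfy).2
      obtain ⟨g, hg, rfl⟩ := htr w (hBΩ hw) y hy hwy
      exact hBinv g hg w hw
  have hcard : B.ncard = ∑ i ∈ T, n i := by
    let F : Finset X := hfin.toFinset.filter fun y => f y ∈ T
    have : B = (F : Set X) := by ext y; rw [hBT]; simp [F]
    rw [this, Set.ncard_coe_finset, Finset.card_eq_sum_card_fiberwise (f := f) (t := T)
      (fun y hy => Finset.mem_coe.2 (Finset.mem_filter.1 (Finset.mem_coe.1 hy)).2)]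
    refine Finset.sum_congr rfl fun i hi => ?_
    rw [← hn i, ← Set.ncard_coe_finset]
    congr 1
    ext y
    simp only [F, Finset.coe_filter, Set.Finite.mem_toFinset, Set.mem_ofPred_eq, Finset.mem_filter]
    exact ⟨fun h => ⟨h.1.1, h.2⟩, fun h => ⟨⟨h.1, h.2 ▸ hi⟩, h.2⟩⟩
  have hstab : MulAction.stabilizer K x = (MulAction.stabilizer G x).subgroupOf K := by
    ext k; simp [Subgroup.mem_subgroupOf, Subgroup.smul_def]
  have hrel : (MulAction.stabilizer G x).relIndex K = B.ncard := by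
    rw [Subgroup.relIndex, ← hstab, MulAction.index_stabilizer]
  have hindex : (MulAction.stabilizer G x).index = N := by
    rw [MulAction.index_stabilizer, hΩ, hN]
  have hdvd : B.ncard ∣ N := ⟨K.index, by rw [← hrel, ← hindex, Subgroup.relIndex_mul_index hle]⟩
  have h0T : (0 : Fin (r + 1)) ∈ T :=
    Finset.mem_filter.2 ⟨Finset.mem_univ _, x, MulAction.mem_orbit_self x, (hf0 x hxΩ).2 rfl⟩
  rcases hdiv T h0T (hcard ▸ hdvd) with hT | hT
  · exfalso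
    refine not_le_of_gt hK fun k hk => ?_
    have hmem : k • x ∈ B := ⟨⟨k, hk⟩, rfl⟩
    rw [hBT, hT] at hmem
    exact MulAction.mem_stabilizer_iff.2 ((hf0 _ hmem.1).1 (Finset.mem_singleton.1 hmem.2))
  · rw [eq_top_iff]
    intro g _
    have hmem : g • x ∈ B := by
      rw [hBT, hT]; exact ⟨hΩ ▸ ⟨g, rfl⟩, Finset.mem_univ _⟩
    obtain ⟨k, hk⟩ := hmem
    have : (k : G)⁻¹ * g ∈ K := hle (MulAction.mem_stabilizer_iff.2 (by
      rw [mul_smul, ← hk]; exact inv_smul_smul (k : G) x))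
    have h2 := K.mul_mem k.2 this
    rwa [mul_inv_cancel_left] at h2

/-- Maximality is shared by the stabilisers of the points of an orbit. -/
theorem isCoatom_smul {x : X} (g : G) (h : IsCoatom (MulAction.stabilizer G x)) :
    IsCoatom (MulAction.stabilizer G (g • x)) := by
  rw [MulAction.stabilizer_smul_eq_stabilizer_map_conj]
  exact ((MulAut.conj g).mapSubgroup.isCoatom_iff _).2 h

end Cfsg.Agent.Lib.SporStruct.BlockMax
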