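import Cfsg.Agent.Lib.SporStruct.OrbitTree

/-! From orbit-tree certificates on coded objects to statements about a group action. -/

set_option autoImplicit false

namespace Cfsg.Agent.Lib.SporStruct.CodedOrbit

open OrbitTree

variable {G X : Type*} [Group G] [MulAction G X] {Ω : Set X} {E : X → ℕ}

/-- The universe of codes: if the listed codes are codes of members and are as many as the members,
they are all of them. -/
theorem mem_universe (hinj : Set.InjOn E Ω) (hfin : Ω.Finite) {U : List ℕ}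
    (hnd : U.Nodup) (hsub : ∀ m ∈ U, ∃ x ∈ Ω, E x = m) (hcard : Ω.ncard = U.length)
    {x : X} (hx : x ∈ Ω) : E x ∈ U := by
  classical
  have h1 : (E '' Ω).ncard = U.length := by rw [hinj.ncard_image, hcard]
  have h2 : (↑U.toFinset : Set ℕ) ⊆ E '' Ω := fun m hm => hsub m (List.mem_toFinset.1 hm)
  have h3 : (↑U.toFinset : Set ℕ) = E '' Ω := Set.eq_of_subset_of_ncard_le h2
    (by rw [h1, Set.ncard_coe_finset, List.toFinset_card_of_nodup hnd]) (hfin.image E)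
  have h4 : E x ∈ E '' Ω := ⟨x, hx, rfl⟩
  rw [← h3] at h4
  exact List.mem_toFinset.1 h4

/-- Points of a certified tree are in the orbit of the root. -/
theorem reach (H : Subgroup G) {act : ℕ → ℕ → ℕ} {gens : List ℕ}
    (hΩ : ∀ g ∈ H, ∀ x ∈ Ω, g • x ∈ Ω)
    (hg : ∀ c ∈ gens, ∃ g ∈ H, ∀ x ∈ Ω, E (g • x) = act c (E x))
    {r₀ : X} (hr₀ : r₀ ∈ Ω) {t : MTree} (ht : t.check act gens (E r₀) = true)
    (hinj : Set.InjOn E Ω) {y : X} (hy : y ∈ Ω) (hk : E y ∈ t.keys) :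
    ∃ g ∈ H, g • r₀ = y := by
  obtain ⟨g, hgH, hgy⟩ := MTree.check_sound ht (fun m => ∃ g ∈ H, E (g • r₀) = m)
    ⟨1, H.one_mem, by rw [one_smul]⟩ (by
      rintro c hc m ⟨g, hgH, rfl⟩
      obtain ⟨a, ha, hact⟩ := hg c hc
      exact ⟨a * g, H.mul_mem ha hgH, by rw [mul_smul, hact _ (hΩ g hgH r₀ hr₀)]⟩) _ hk
  exact ⟨g, hgH, hinj (hΩ g hgH r₀ hr₀) hy hgy⟩

/-- The certificate of the classes: label, root and tree of each. -/
def classesOk (act : ℕ → ℕ → ℕ) (gens U : List ℕ) (kf : ℕ → ℕ)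
    (classes : List (ℕ × ℕ × MTree)) : Bool :=
  (classes.all fun e => U.any (fun m => Nat.beq m e.2.1) && e.2.2.check act gens e.2.1 &&
      incList e.2.2.keys && e.2.2.keys.all fun m => Nat.beq (kf m) e.1) &&
    incList (sortLabels (classes.map Prod.fst)) &&
    Nat.beq (classes.map fun e => e.2.2.keys.length).sum U.length
where
  /-- The labels in increasing order. -/
  sortLabels (l : List ℕ) : List ℕ := l.insertionSort (· ≤ ·)

/-- `H` is transitive on every certified class, and a class consists of all codes with its label. -/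
theorem class_spec (H : Subgroup G) {act : ℕ → ℕ → ℕ} {gens U : List ℕ} {kf : ℕ → ℕ}
    {classes : List (ℕ × ℕ × MTree)} (hc : classesOk act gens U kf classes = true)
    (hΩ : ∀ g ∈ H, ∀ x ∈ Ω, g • x ∈ Ω)
    (hg : ∀ c ∈ gens, ∃ g ∈ H, ∀ x ∈ Ω, E (g • x) = act c (E x))
    (hnd : U.Nodup) (hU : ∀ m, m ∈ U ↔ ∃ x ∈ Ω, E x = m) :
    ∀ m ∈ U, ∃ e ∈ classes, kf m = e.1 ∧ ∀ m' ∈ U, (kf m' = e.1 ↔ m' ∈ e.2.2.keys) := by
  simp only [classesOk, Bool.and_eq_true, List.all_eq_true, List.any_eq_true, Nat.beq_eq] at hc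
  obtain ⟨⟨hcl, hlab⟩, hlen⟩ := hc
  have hlnd : (classes.map Prod.fst).Nodup :=
    (List.perm_insertionSort _ _).nodup_iff.1 (incList_nodup hlab)
  have hinU : ∀ e ∈ classes, ∀ m ∈ e.2.2.keys, m ∈ U := by
    intro e he
    obtain ⟨⟨⟨⟨r, hr, hre⟩, htree⟩, -⟩, -⟩ := hcl e he
    obtain ⟨r₀, hr₀, rfl⟩ := (hU r).1 hr
    rw [← hre] at htree
    intro m hm
    refine (hU m).2 (MTree.check_sound htree (fun k => ∃ x ∈ Ω, E x = k) ⟨r₀, hr₀, rfl⟩ ?_ m hm)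
    rintro c hc k ⟨x, hx, rfl⟩
    obtain ⟨a, ha, hact⟩ := hg c hc
    exact ⟨a • x, hΩ a ha x hx, hact x hx⟩
  have hall : (classes.flatMap fun e => e.2.2.keys).Nodup := by
    rw [List.nodup_flatMap]
    refine ⟨fun e he => incList_nodup (hcl e he).1.2, ?_⟩
    rw [List.Nodup, List.pairwise_map] at hlnd
    refine List.Pairwise.imp_of_mem ?_ hlnd
    intro e f he hf hne m hm hm'
    exact hne (((hcl e he).2 m hm).symm.trans ((hcl f hf).2 m hm'))
  have hperm : (classes.flatMap fun e => e.2.2.keys).Perm U := by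
    refine (hall.subperm fun m hm => ?_).perm_of_length_le ?_
    · obtain ⟨e, he, hm⟩ := List.mem_flatMap.1 hm
      exact hinU e he m hm
    · rw [List.length_flatMap]
      exact le_of_eq hlen.symm
  intro m hm
  obtain ⟨e, he, hme⟩ := List.mem_flatMap.1 (hperm.mem_iff.2 hm)
  refine ⟨e, he, (hcl e he).2 m hme, fun m' hm' => ⟨fun hk => ?_, fun hk => (hcl e he).2 m' hk⟩⟩
  obtain ⟨f, hf, hmf⟩ := List.mem_flatMap.1 (hperm.mem_iff.2 hm')
  have : f = e := List.inj_on_of_nodup_map hlnd hf he (((hcl f hf).2 m' hmf).symm.trans hk)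
  exact this ▸ hmf

/-- `H` is transitive on every certified class. -/
theorem class_trans (H : Subgroup G) {act : ℕ → ℕ → ℕ} {gens U : List ℕ} {kf : ℕ → ℕ}
    {classes : List (ℕ × ℕ × MTree)} (hc : classesOk act gens U kf classes = true)
    (hΩ : ∀ g ∈ H, ∀ x ∈ Ω, g • x ∈ Ω)
    (hg : ∀ c ∈ gens, ∃ g ∈ H, ∀ x ∈ Ω, E (g • x) = act c (E x))
    (hinj : Set.InjOn E Ω) (hnd : U.Nodup) (hU : ∀ m, m ∈ U ↔ ∃ x ∈ Ω, E x = m)
    {y z : X} (hy : y ∈ Ω) (hz : z ∈ Ω) (h : kf (E y) = kf (E z)) :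
    ∃ g ∈ H, g • y = z := by
  have hy' := (hU _).2 ⟨y, hy, rfl⟩
  have hz' := (hU _).2 ⟨z, hz, rfl⟩
  obtain ⟨e, he, hev, hiff⟩ := class_spec H hc hΩ hg hnd hU _ hy'
  simp only [classesOk, Bool.and_eq_true, List.all_eq_true, List.any_eq_true, Nat.beq_eq] at hc
  obtain ⟨⟨⟨⟨r, hr, hre⟩, htree⟩, -⟩, -⟩ := hc.1.1 e he
  obtain ⟨r₀, hr₀, rfl⟩ := (hU r).1 hr
  rw [← hre] at htree
  obtain ⟨a, ha, hay⟩ := reach H hΩ hg hr₀ htree hinj hy ((hiff _ hy').1 hev)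
  obtain ⟨b, hb, hbz⟩ := reach H hΩ hg hr₀ htree hinj hz ((hiff _ hz').1 (h ▸ hev))
  exact ⟨b * a⁻¹, H.mul_mem hb (H.inv_mem ha), by rw [mul_smul, ← hay, inv_smul_smul, hbz]⟩

/-- A certified class has as many points as its tree has keys. -/
theorem class_count (H : Subgroup G) {act : ℕ → ℕ → ℕ} {gens U : List ℕ} {kf : ℕ → ℕ}
    {classes : List (ℕ × ℕ × MTree)} (hc : classesOk act gens U kf classes = true)
    (hΩ : ∀ g ∈ H, ∀ x ∈ Ω, g • x ∈ Ω)
    (hg : ∀ c ∈ gens, ∃ g ∈ H, ∀ x ∈ Ω, E (g • x) = act c (E x))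
    (hnd : U.Nodup) (hU : ∀ m, m ∈ U ↔ ∃ x ∈ Ω, E x = m)
    {e : ℕ × ℕ × MTree} (he : e ∈ classes) :
    (U.countP fun m => Nat.beq (kf m) e.1) = e.2.2.keys.length := by
  have hc' := hc
  simp only [classesOk, Bool.and_eq_true, List.all_eq_true, List.any_eq_true, Nat.beq_eq] at hc'
  obtain ⟨⟨⟨⟨r, hr, hre⟩, htree⟩, hinc⟩, hkeys⟩ := hc'.1.1 e he
  have hlnd : (classes.map Prod.fst).Nodup :=
    (List.perm_insertionSort _ _).nodup_iff.1 (incList_nodup hc'.1.2)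
  obtain ⟨r₀, hr₀, rfl⟩ := (hU r).1 hr
  rw [← hre] at htree
  have hsub : ∀ m ∈ e.2.2.keys, m ∈ U := fun m hm =>
    (hU m).2 (MTree.check_sound htree (fun k => ∃ x ∈ Ω, E x = k) ⟨r₀, hr₀, rfl⟩ (by
      rintro c hc'' k ⟨x, hx, rfl⟩
      obtain ⟨a, ha, hact⟩ := hg c hc''
      exact ⟨a • x, hΩ a ha x hx, hact x hx⟩) m hm)
  rw [List.countP_eq_length_filter]
  refine List.Perm.length_eq ((List.perm_ext_iff_of_nodup (hnd.filter _) (incList_nodup hinc)).2 ?_)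
  intro m
  simp only [List.mem_filter, Nat.beq_eq]
  refine ⟨fun ⟨hm, hk⟩ => ?_, fun hm => ⟨hsub m hm, hkeys m hm⟩⟩
  obtain ⟨f, hf, hkf, hiff⟩ := class_spec H hc hΩ hg hnd hU m hm
  have : f = e := List.inj_on_of_nodup_map hlnd hf he (hkf.symm.trans hk)
  exact this ▸ (hiff m hm).1 hkf

/-- Size of a class. -/
theorem class_ncard (hinj : Set.InjOn E Ω) {U : List ℕ} (hnd : U.Nodup)
    (hU : ∀ m, m ∈ U ↔ ∃ x ∈ Ω, E x = m) (p : ℕ → Bool) :
    {y | y ∈ Ω ∧ p (E y) = true}.ncard = U.countP p := by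
  classical
  rw [← (hinj.mono fun y hy => hy.1).ncard_image, List.countP_eq_length_filter,
    ← List.toFinset_card_of_nodup (hnd.filter _), ← Set.ncard_coe_finset]
  congr 1
  ext m
  simp only [Set.mem_image, Set.mem_ofPred_eq, List.coe_toFinset, List.mem_filter, hU]
  constructor
  · rintro ⟨y, ⟨hy, hp⟩, rfl⟩; exact ⟨⟨y, hy, rfl⟩, hp⟩
  · rintro ⟨⟨y, hy, rfl⟩, hp⟩; exact ⟨y, ⟨hy, hp⟩, rfl⟩

end Cfsg.Agent.Lib.SporStruct.CodedOrbit
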