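import Cfsg.Agent.Lib.SporStruct.FamilyCode
import Cfsg.Agent.Lib.SporStruct.CodedOrbit
import Cfsg.Agent.Lib.SporStruct.BlockMax
import Cfsg.Agent.Lib.SporStruct.SextetData
import Cfsg.Prelude.Def_SporadicCombinatorics
import Cfsg.Agent.S1550

/-! Orbits of `M24` and of a stabiliser on the sextets. -/

set_option autoImplicit false

namespace Cfsg.Agent.Lib.SporStruct.SextetOrbits

open Cfsg Cfsg.Agent.Lib.Golay Masks PermCodes OrbitTree CodedOrbit FamilyCode
open scoped Pointwise

/-- The universe of codes. -/
noncomputable def univCodes : List ℕ := SextetData.tree.keys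

/-- The test for a code of one of the sextets. -/
def memTest (x : ℕ) : Bool :=
  wellFormed 6 x && (unpack 6 x).all fun a => Nat.beq (pc24 a) 4 &&
    (unpack 6 x).all fun b => Nat.ble b a || isWord 8 (a ||| b)

theorem cert_tree : (SextetData.tree.check (act 6) SextetData.gens SextetData.root &&
    incList univCodes && univCodes.all memTest && memTest SextetData.root &&
    Nat.beq univCodes.length 1771 && SextetData.gens.all isM24Code) = true := by
  decide +kernel

theorem cert_classes : (classesOk (act 6) SextetData.stabGens univCodes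
    (kappaCode 6 (unpack 6 SextetData.root)) SextetData.classes &&
    SextetData.stabGens.all isM24Code &&
    SextetData.stabGens.all (fun c => Nat.beq (act 6 c SextetData.root) SextetData.root)) = true := by
  decide +kernel

theorem of_memTest {x : ℕ} (h : memTest x = true) :
    family 6 x ∈ sextets ∧ code (family 6 x) = x := by
  simp only [memTest, Bool.and_eq_true, List.all_eq_true, Bool.or_eq_true, Nat.beq_eq, Nat.ble_eq] at h
  obtain ⟨hc, hcode, hm⟩ := family_spec h.1
  refine ⟨⟨hc, fun t ht => ?_, fun t ht u hu hne => ?_⟩, hcode⟩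
  · have := (h.2 _ (hm t ht)).1
    rw [card_eq_pc24]; exact this
  · have key : ∀ t ∈ family 6 x, ∀ u ∈ family 6 x, maskOfSet t < maskOfSet u → t ∪ u ∈ octads := by
      intro t ht u hu hlt
      have e := ((h.2 _ (hm t ht)).2 _ (hm u hu)).resolve_left (not_le.2 hlt)
      rw [mem_octads_mask, maskOfSet_union]; exact e
    rcases lt_trichotomy (maskOfSet t) (maskOfSet u) with hlt | heq | hlt
    · exact key t ht u hu hlt
    · exact absurd (maskOfSet_injective heq) hne
    · rw [Finset.union_comm]; exact key u hu t ht (by omega)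

/-- The standard object. -/
noncomputable def std : Finset (Finset GolayPt) := family 6 SextetData.root

theorem std_mem : std ∈ sextets := by
  have h := cert_tree
  simp only [Bool.and_eq_true] at h
  exact (of_memTest h.1.1.2).1

theorem code_std : code std = SextetData.root := by
  have h := cert_tree
  simp only [Bool.and_eq_true] at h
  exact (of_memTest h.1.1.2).2

theorem univ_nodup : univCodes.Nodup := by
  have h := cert_tree
  simp only [Bool.and_eq_true] at h
  exact incList_nodup h.1.1.1.1.2

theorem code_injOn_set : Set.InjOn code sextets :=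
  (code_injOn 6).mono fun _ hS => hS.1

theorem mem_univCodes (m : ℕ) : m ∈ univCodes ↔ ∃ S ∈ sextets, code S = m := by
  have h := cert_tree
  simp only [Bool.and_eq_true, List.all_eq_true, Nat.beq_eq] at h
  have hsub : ∀ x ∈ univCodes, ∃ S ∈ sextets, code S = x := fun x hx =>
    ⟨_, of_memTest (h.1.1.1.2 x hx)⟩
  refine ⟨hsub m, ?_⟩
  rintro ⟨S, hS, rfl⟩
  exact mem_universe code_injOn_set (Set.toFinite _) univ_nodup hsub
    (by rw [(Cfsg.Agent.S1550.result).2, h.1.2]) hS

theorem smul_mem (g : ↥M24) {S : Finset (Finset GolayPt)} (hS : S ∈ sextets) : g • S ∈ sextets := by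
  obtain ⟨h1, h2, h3⟩ := hS
  refine ⟨by rw [Finset.card_smul_finset]; exact h1, ?_, ?_⟩
  · intro t ht
    obtain ⟨a, ha, rfl⟩ := Finset.mem_smul_finset.1 ht
    rw [Finset.card_smul_finset]; exact h2 a ha
  · intro t ht u hu hne
    obtain ⟨a, ha, rfl⟩ := Finset.mem_smul_finset.1 ht
    obtain ⟨b, hb, rfl⟩ := Finset.mem_smul_finset.1 hu
    have hab := h3 a ha b hb (fun e => hne (by rw [e]))
    rw [← Finset.smul_finset_union]; exact smul_octads g.2 hab

theorem code_elt {c : ℕ} (hc : isM24Code c = true) {S : Finset (Finset GolayPt)}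
    (hS : S ∈ sextets) : code (elt c hc • S) = act 6 c (code S) :=
  code_smul (okCode_of_isM24Code hc) S hS.1

/-- `M24` is transitive on the sextets. -/
theorem exists_smul_std {S : Finset (Finset GolayPt)} (hS : S ∈ sextets) :
    ∃ g : ↥M24, g • std = S := by
  have h := cert_tree
  simp only [Bool.and_eq_true, List.all_eq_true] at h
  obtain ⟨g, -, hg⟩ := reach (⊤ : Subgroup ↥M24) (Ω := sextets) (E := code)
    (fun g _ x hx => smul_mem g hx)
    (fun c hc => ⟨elt c (h.2 c hc), Subgroup.mem_top _, fun x hx => code_elt _ hx⟩)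
    std_mem (by rw [code_std]; exact h.1.1.1.1.1) code_injOn_set hS
    ((mem_univCodes _).2 ⟨S, hS, rfl⟩)
  exact ⟨g, hg⟩

theorem kappa_std {S : Finset (Finset GolayPt)} (hS : S ∈ sextets) :
    kappa std S = kappaCode 6 (unpack 6 SextetData.root) (code S) :=
  kappa_eq std S hS.1 (by rw [← code_std]; exact perm_unpack std std_mem.1)

theorem std_classes {Y Z : Finset (Finset GolayPt)} (hY : Y ∈ sextets) (hZ : Z ∈ sextets)
    (h : kappa std Y = kappa std Z) : ∃ g : ↥M24, g • std = std ∧ g • Y = Z := by
  have hc := cert_classes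
  simp only [Bool.and_eq_true, List.all_eq_true, Nat.beq_eq] at hc
  obtain ⟨g, hg, hgy⟩ := class_trans (MulAction.stabilizer ↥M24 std) (Ω := sextets) (E := code)
    hc.1.1 (fun g _ x hx => smul_mem g hx)
    (fun c hcm => ⟨elt c (hc.1.2 c hcm), MulAction.mem_stabilizer_iff.2 (code_injOn_set
      (smul_mem _ std_mem) std_mem (by rw [code_elt _ std_mem, code_std, hc.2 c hcm])),
      fun x hx => code_elt _ hx⟩)
    code_injOn_set univ_nodup mem_univCodes hY hZ (by rw [← kappa_std hY, h, kappa_std hZ])
  exact ⟨g, MulAction.mem_stabilizer_iff.1 hg, hgy⟩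

/-- The stabiliser of one of the sextets is transitive on each class of the invariant. -/
theorem classes_trans {X Y Z : Finset (Finset GolayPt)} (hX : X ∈ sextets) (hY : Y ∈ sextets)
    (hZ : Z ∈ sextets) (h : kappa X Y = kappa X Z) : ∃ g : ↥M24, g • X = X ∧ g • Y = Z :=
  BlockMax.transport (G := ↥M24) (κ := kappa) (Ω := sextets)
    (fun g a b _ _ => kappa_smul g a b) (fun g _ ha => smul_mem g ha)
    (fun _ hw => exists_smul_std hw) std_mem (fun _ ha _ hb hab => std_classes ha hb hab)
    hX hY hZ h

/-- The size of a class of the invariant. -/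
theorem ncard_class {X : Finset (Finset GolayPt)} (hX : X ∈ sextets) (i : ℕ) :
    {Y | Y ∈ sextets ∧ kappa X Y = i}.ncard =
      univCodes.countP fun x => Nat.beq (kappaCode 6 (unpack 6 SextetData.root) x) i := by
  rw [BlockMax.transport_ncard (G := ↥M24) (κ := kappa) (Ω := sextets)
    (fun g a b _ _ => kappa_smul g a b) (fun g _ ha => smul_mem g ha)
    (fun _ hw => exists_smul_std hw) std_mem hX i]
  rw [← class_ncard (Ω := sextets) (E := code) code_injOn_set univ_nodup mem_univCodes]
  congr 1
  ext Y
  simp only [Set.mem_ofPred_eq, Nat.beq_eq]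
  exact ⟨fun h => ⟨h.1, (kappa_std h.1).symm.trans h.2⟩, fun h => ⟨h.1, (kappa_std h.1).trans h.2⟩⟩

theorem countP_class {e : ℕ × ℕ × MTree} (he : e ∈ SextetData.classes) :
    (univCodes.countP fun x => Nat.beq (kappaCode 6 (unpack 6 SextetData.root) x) e.1) =
      e.2.2.keys.length := by
  have hc := cert_classes
  simp only [Bool.and_eq_true, List.all_eq_true, Nat.beq_eq] at hc
  exact class_count (MulAction.stabilizer ↥M24 std) (Ω := sextets) (E := code) hc.1.1
    (fun g _ x hx => smul_mem g hx)
    (fun c hcm => ⟨elt c (hc.1.2 c hcm), MulAction.mem_stabilizer_iff.2 (code_injOn_set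
      (smul_mem _ std_mem) std_mem (by rw [code_elt _ std_mem, code_std, hc.2 c hcm])),
      fun x hx => code_elt _ hx⟩)
    univ_nodup mem_univCodes he

/-- Every value of the invariant is the label of a class. -/
theorem kappa_value {X Y : Finset (Finset GolayPt)} (hX : X ∈ sextets) (hY : Y ∈ sextets) :
    ∃ e ∈ SextetData.classes, kappa X Y = e.1 := by
  obtain ⟨a, rfl⟩ := exists_smul_std hX
  have hc := cert_classes
  simp only [Bool.and_eq_true, List.all_eq_true, Nat.beq_eq] at hc
  have hY' := smul_mem a⁻¹ hY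
  obtain ⟨e, he, hv, -⟩ := class_spec (MulAction.stabilizer ↥M24 std) (Ω := sextets) (E := code) hc.1.1
    (fun g _ x hx => smul_mem g hx)
    (fun c hcm => ⟨elt c (hc.1.2 c hcm), MulAction.mem_stabilizer_iff.2 (code_injOn_set
      (smul_mem _ std_mem) std_mem (by rw [code_elt _ std_mem, code_std, hc.2 c hcm])),
      fun x hx => code_elt _ hx⟩)
    univ_nodup mem_univCodes _ ((mem_univCodes _).2 ⟨_, hY', rfl⟩)
  exact ⟨e, he, by rw [← smul_inv_smul a Y, kappa_smul, kappa_std hY', hv]⟩

theorem orbit_eq {X : Finset (Finset GolayPt)} (hX : X ∈ sextets) :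
    MulAction.orbit ↥M24 X = sextets := by
  obtain ⟨a, rfl⟩ := exists_smul_std hX
  rw [MulAction.orbit_eq_iff.2 (MulAction.mem_orbit _ a)]
  ext s
  exact ⟨fun ⟨g, hg⟩ => hg ▸ smul_mem g std_mem, fun hs => exists_smul_std hs⟩

end Cfsg.Agent.Lib.SporStruct.SextetOrbits
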