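import Cfsg.Agent.Lib.SporStruct.PermCodes
import Cfsg.Agent.Lib.SporStruct.CodedOrbit
import Cfsg.Agent.Lib.SporStruct.BlockMax
import Cfsg.Agent.Lib.SporStruct.DodecadData

/-! Orbits of `M24` and of a stabiliser on the dodecads. -/

set_option autoImplicit false

namespace Cfsg.Agent.Lib.SporStruct.DodecadOrbits

open Cfsg Cfsg.Agent.Lib.Golay Masks PermCodes OrbitTree CodedOrbit
open scoped Pointwise

/-- The universe of masks. -/
noncomputable def univMasks : List ℕ := DodecadData.tree.keys

theorem cert_tree : (DodecadData.tree.check imgMask DodecadData.gens DodecadData.root &&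
    incList univMasks && univMasks.all (isWord 12) && Nat.beq univMasks.length 2576 &&
    DodecadData.gens.all isM24Code && isWord 12 DodecadData.root) = true := by
  decide +kernel

theorem cert_classes : (classesOk imgMask DodecadData.stabGens univMasks
    (fun m => pc24 (DodecadData.root &&& m)) DodecadData.classes &&
    DodecadData.stabGens.all isM24Code &&
    DodecadData.stabGens.all (fun c => Nat.beq (imgMask c DodecadData.root) DodecadData.root)) = true := by
  decide +kernel

theorem univ_nodup : univMasks.Nodup := by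
  have h := cert_tree
  simp only [Bool.and_eq_true] at h
  exact incList_nodup h.1.1.1.1.2

theorem isWord_lt {m : ℕ} (h : isWord 12 m = true) : m < 2 ^ 24 := by
  simp only [isWord_iff, inCode, Bool.and_eq_true, Nat.blt_eq] at h
  exact h.1.1

/-- The standard object. -/
noncomputable def std : Finset GolayPt := setOfMask DodecadData.root

theorem std_mem : std ∈ dodecads := by
  have h := cert_tree
  simp only [Bool.and_eq_true] at h
  rw [mem_dodecads_mask, std, maskOfSet_setOfMask (isWord_lt h.2)]
  exact h.2

theorem maskOfSet_std : maskOfSet std = DodecadData.root := by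
  have h := cert_tree
  simp only [Bool.and_eq_true] at h
  exact maskOfSet_setOfMask (isWord_lt h.2)

theorem mem_univMasks (m : ℕ) : m ∈ univMasks ↔ ∃ s ∈ dodecads, maskOfSet s = m := by
  have h := cert_tree
  simp only [Bool.and_eq_true, List.all_eq_true, Nat.beq_eq] at h
  have hsub : ∀ k ∈ univMasks, ∃ s ∈ dodecads, maskOfSet s = k := fun k hk =>
    ⟨setOfMask k, by rw [mem_dodecads_mask, maskOfSet_setOfMask (isWord_lt (h.1.1.1.2 k hk))]; exact h.1.1.1.2 k hk,
      maskOfSet_setOfMask (isWord_lt (h.1.1.1.2 k hk))⟩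
  refine ⟨hsub m, ?_⟩
  rintro ⟨s, hs, rfl⟩
  exact mem_universe maskOfSet_injective.injOn (Set.toFinite _) univ_nodup hsub
    (by rw [ncard_dodecads, h.1.1.2]) hs

theorem smul_mem (g : ↥M24) {s : Finset GolayPt} (hs : s ∈ dodecads) : g • s ∈ dodecads :=
  smul_dodecads g.2 hs

theorem code_elt {c : ℕ} (hc : isM24Code c = true) (s : Finset GolayPt) :
    maskOfSet (elt c hc • s) = imgMask c (maskOfSet s) :=
  maskOfSet_smul (okCode_of_isM24Code hc) s

/-- `M24` is transitive on the dodecads. -/
theorem exists_smul_std {s : Finset GolayPt} (hs : s ∈ dodecads) : ∃ g : ↥M24, g • std = s := by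
  have h := cert_tree
  simp only [Bool.and_eq_true, List.all_eq_true] at h
  obtain ⟨g, -, hg⟩ := reach (⊤ : Subgroup ↥M24) (Ω := dodecads) (E := maskOfSet)
    (fun g _ x hx => smul_mem g hx)
    (fun c hc => ⟨elt c (h.1.2 c hc), Subgroup.mem_top _, fun x _ => code_elt _ x⟩)
    std_mem (by rw [maskOfSet_std]; exact h.1.1.1.1.1) maskOfSet_injective.injOn hs
    ((mem_univMasks _).2 ⟨s, hs, rfl⟩)
  exact ⟨g, hg⟩

theorem card_inter_std (s : Finset GolayPt) :
    (std ∩ s).card = pc24 (DodecadData.root &&& maskOfSet s) := by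
  rw [card_inter_eq, maskOfSet_std]

theorem std_classes {y z : Finset GolayPt} (hy : y ∈ dodecads) (hz : z ∈ dodecads)
    (h : (std ∩ y).card = (std ∩ z).card) : ∃ g : ↥M24, g • std = std ∧ g • y = z := by
  have hc := cert_classes
  simp only [Bool.and_eq_true, List.all_eq_true, Nat.beq_eq] at hc
  obtain ⟨g, hg, hgy⟩ := class_trans (MulAction.stabilizer ↥M24 std) (Ω := dodecads) (E := maskOfSet)
    hc.1.1 (fun g _ x hx => smul_mem g hx)
    (fun c hcm => ⟨elt c (hc.1.2 c hcm), MulAction.mem_stabilizer_iff.2 (maskOfSet_injective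
      (by rw [code_elt, maskOfSet_std, hc.2 c hcm])), fun x _ => code_elt _ x⟩)
    maskOfSet_injective.injOn univ_nodup mem_univMasks hy hz (by rw [← card_inter_std, h, card_inter_std])
  exact ⟨g, MulAction.mem_stabilizer_iff.1 hg, hgy⟩

theorem card_inter_smul (g : ↥M24) (a b : Finset GolayPt) :
    (g • a ∩ g • b).card = (a ∩ b).card := by
  rw [← Finset.smul_finset_inter, Finset.card_smul_finset]

/-- The stabiliser of one of the dodecads is transitive on those meeting it in equally many points. -/
theorem classes_trans {x y z : Finset GolayPt} (hx : x ∈ dodecads) (hy : y ∈ dodecads)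
    (hz : z ∈ dodecads) (h : (x ∩ y).card = (x ∩ z).card) :
    ∃ g : ↥M24, g • x = x ∧ g • y = z :=
  BlockMax.transport (G := ↥M24) (κ := fun a b : Finset GolayPt => (a ∩ b).card) (Ω := dodecads)
    (fun g a b _ _ => card_inter_smul g a b) (fun g _ ha => smul_mem g ha)
    (fun _ hw => exists_smul_std hw) std_mem (fun _ ha _ hb hab => std_classes ha hb hab)
    hx hy hz h

/-- The number of dodecads meeting a given one in `i` points. -/
theorem ncard_class {x : Finset GolayPt} (hx : x ∈ dodecads) (i : ℕ) :
    {y | y ∈ dodecads ∧ (x ∩ y).card = i}.ncard =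
      univMasks.countP fun m => Nat.beq (pc24 (DodecadData.root &&& m)) i := by
  rw [BlockMax.transport_ncard (G := ↥M24) (κ := fun a b : Finset GolayPt => (a ∩ b).card)
    (Ω := dodecads) (fun g a b _ _ => card_inter_smul g a b) (fun g _ ha => smul_mem g ha)
    (fun _ hw => exists_smul_std hw) std_mem hx i]
  rw [← class_ncard (Ω := dodecads) (E := maskOfSet) maskOfSet_injective.injOn univ_nodup mem_univMasks]
  congr 1
  ext y
  simp [card_inter_std]

theorem orbit_eq {x : Finset GolayPt} (hx : x ∈ dodecads) :
    MulAction.orbit ↥M24 x = dodecads := by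
  obtain ⟨a, rfl⟩ := exists_smul_std hx
  rw [MulAction.orbit_eq_iff.2 (MulAction.mem_orbit _ a)]
  ext s
  exact ⟨fun ⟨g, hg⟩ => hg ▸ smul_mem g std_mem, fun hs => exists_smul_std hs⟩

end Cfsg.Agent.Lib.SporStruct.DodecadOrbits
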