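import Cfsg.Agent.Lib.SporStruct.OrbitTree

/-! Certificates for the orbits on pairs of points. -/

set_option autoImplicit false
set_option maxRecDepth 100000

namespace Cfsg.Agent.Lib.SporStruct.PairData

open OrbitTree

/-- Generators of the whole group. -/
def gens : List ℕ := [956302485175575353788796878166559809, 1795248432537898728475572672376535, 974380510768821363662145534143076928]

/-- The standard object. -/
def root : ℕ := 3

/-- Elements fixing the standard object. -/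
def stabGens : List ℕ := [677850459626915854307474464617085953, 146292169892562542966736137203895328]

/-- Schreier tree of all objects. -/
noncomputable def tree : MTree :=
  (.node (.node (.node (.node (.node (.node (.node (.node (.node .leaf 3 3 0 0 .leaf) 5 17 2 3 .leaf) 6 3 0 1 (.node .leaf 9 8421376 1 4 .leaf)) 10 72 2 4 (.node (.node .leaf 12 6 0 2 .leaf) 17 262145 2 2 (.node .leaf 18 262208 2 3 .leaf))) 20 10 0 5 (.node (.node (.node (.node .leaf 24 12 0 3 .leaf) 33 129 2 5 .leaf) 34 17 0 3 (.node .leaf 36 18 0 4 .leaf)) 40 20 0 6 (.node (.node .leaf 48 24 0 4 .leaf) 65 5 2 4 (.node .leaf 66 68 2 5 .leaf)))) 68 34 0 4 (.node (.node (.node (.node (.node .leaf 72 12 2 3 .leaf) 80 262148 2 5 .leaf) 96 48 0 5 (.node .leaf 129 4194368 0 4 .leaf)) 130 1088 2 5 (.node (.node .leaf 132 66 0 6 .leaf) 136 68 0 5 (.node .leaf 144 72 0 4 .leaf))) 160 80 0 6 (.node (.node (.node .leaf 192 96 0 6 .leaf) 257 4097 2 4 (.node .leaf 258 129 0 5 .leaf)) 260 130 0 6 (.node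 (.node .leaf 264 1081344 1 5 .leaf) 272 136 0 6 (.node .leaf 288 144 0 5 .leaf))))) 320 160 0 7 (.node (.node (.node (.node (.node (.node .leaf 384 192 0 7 .leaf) 513 8193 2 7 .leaf) 514 257 0 5 (.node .leaf 516 258 0 6 .leaf)) 520 32800 1 6 (.node (.node .leaf 528 264 0 6 .leaf) 544 8320 2 7 (.node .leaf 576 288 0 6 .leaf))) 640 9216 2 7 (.node (.node (.node (.node .leaf 768 384 0 8 .leaf) 1025 8454144 1 5 .leaf) 1026 1048640 2 7 (.node .leaf 1028 514 0 6 .leaf)) 1032 1048584 2 6 (.node (.node .leaf 1040 520 0 7 .leaf) 1056 1048704 2 7 (.node .leaf 1088 1048580 2 4 .leaf)))) 1152 576 0 7 (.node (.node (.node (.node (.node .leaf 1280 1114112 1 6 .leaf) 1536 1056768 2 7 .leaf) 2049 8388612 1 5 (.node .leaf 2050 1025 0 6 .leaf)) 2052 1026 0 8 (.node (.node .leaf 2056 32772 1 6 .leaf) 2064 393216 2 6 (.node .leaf 2080 516 1 7 .leaf))) 2112 131076 2 6 (.node (.node (.node .leaf 2176 1088 0 5 .leaf) 2304 1048580 1 4 (.node .leaf 2560 36 1 5 .leaf)) 3072 1179648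 2 7 (.node (.node .leaf 4097 4196352 0 3 .leaf) 4098 2049 0 6 (.node .leaf 4100 528 2 7 .leaf)))))) 4104 520 2 7 (.node (.node (.node (.node (.node (.node (.node .leaf 4112 262656 2 6 .leaf) 4128 2097664 1 6 .leaf) 4160 516 2 7 (.node .leaf 4224 2112 0 7 .leaf)) 4352 4608 2 6 (.node (.node .leaf 4608 2304 0 5 .leaf) 5120 2162688 1 6 (.node .leaf 6144 131584 2 6 .leaf))) 8193 65537 2 6 (.node (.node (.node (.node .leaf 8194 4097 0 4 .leaf) 8196 2176 1 6 .leaf) 8200 65544 2 7 (.node .leaf 8208 327680 2 6 .leaf)) 8224 4112 0 7 (.node (.node .leaf 8256 524416 1 4 .leaf) 8320 66560 2 6 (.node .leaf 8448 69632 2 5 .leaf)))) 8704 160 1 7 (.node (.node (.node (.node (.node .leaf 9216 1114112 2 6 .leaf) 10240 5120 0 7 .leaf) 12288 6144 0 7 (.node .leaf 16385 4194305 2 5 .leaf)) 16386 4194368 2 4 (.node (.node .leaf 16388 8194 0 5 .leaf) 16392 4194312 2 7 (.node .leaf 16400 4456448 2 4 .leaf))) 16416 4194432 2 6 (.node (.node (.node .leaf 16448 786432 1 7 .leaf) 16512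 8256 0 5 (.node .leaf 16640 8320 0 7 .leaf)) 16896 8448 0 6 (.node (.node .leaf 17408 327680 1 6 .leaf) 18432 4325376 2 5 (.node .leaf 20480 4194816 2 5 .leaf))))) 24576 12288 0 8 (.node (.node (.node (.node (.node (.node .leaf 32769 8388616 1 6 .leaf) 32770 16385 0 6 .leaf) 32772 16386 0 5 (.node .leaf 32776 16388 0 6 .leaf)) 32784 16392 0 8 (.node (.node .leaf 32800 16400 0 5 .leaf) 32832 524296 1 6 (.node .leaf 32896 33792 2 6 .leaf))) 33024 16512 0 6 (.node (.node (.node .leaf 33280 40 1 7 .leaf) 33792 1081344 2 5 (.node .leaf 34816 12 1 3 .leaf)) 36864 2097160 1 5 (.node (.node .leaf 40960 136 1 6 .leaf) 49152 4227072 2 6 (.node .leaf 65537 257 2 5 .leaf)))) 65538 4195328 1 7 (.node (.node (.node (.node (.node .leaf 65540 32770 0 7 .leaf) 65544 264 2 6 .leaf) 65552 32776 0 7 (.node .leaf 65568 384 2 8 .leaf)) 65600 32800 0 6 (.node (.node .leaf 65664 1280 2 7 .leaf) 65792 32896 0 7 (.node .leaf 66048 8448 2 6 .leaf))) 66560 1048832 2 5 (.node (.node (.node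 .leaf 67584 33792 0 6 .leaf) 69632 34816 0 4 (.node .leaf 73728 36864 0 6 .leaf)) 81920 263168 1 7 (.node (.node .leaf 98304 49152 0 7 .leaf) 131073 16385 2 6 (.node .leaf 131074 65537 0 6 .leaf))))))) 131076 16400 2 5 (.node (.node (.node (.node (.node (.node (.node (.node .leaf 131080 16392 2 8 .leaf) 131088 278528 2 7 .leaf) 131104 16512 2 6 (.node .leaf 131136 16388 2 6 .leaf)) 131200 17408 2 7 (.node (.node .leaf 131328 20480 2 6 .leaf) 131584 48 1 5 (.node .leaf 132096 66048 0 7 .leaf))) 133120 20 1 6 (.node (.node (.node (.node .leaf 135168 16896 2 7 .leaf) 139264 69632 0 5 .leaf) 147456 73728 0 7 (.node .leaf 163840 24 1 4 .leaf)) 196608 98304 0 8 (.node (.node .leaf 262145 3 2 1 .leaf) 262146 66 2 6 (.node .leaf 262148 18 2 4 .leaf)))) 262152 10 2 5 (.node (.node (.node (.node (.node .leaf 262160 262146 2 7 .leaf) 262176 130 2 6 .leaf) 262208 6 2 2 (.node .leaf 262272 131136 0 7 .leaf)) 262400 4098 2 7 (.node (.node .leaf 262656 8194 2 5 .leaf) 263168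 131584 0 6 (.node .leaf 264192 16388 1 6 .leaf))) 266240 514 2 6 (.node (.node (.node .leaf 270336 16512 1 6 .leaf) 278528 139264 0 6 (.node .leaf 294912 32770 2 7 .leaf)) 327680 163840 0 5 (.node (.node .leaf 393216 16386 2 5 .leaf) 524289 4456448 0 4 (.node .leaf 524290 262145 0 2 .leaf))))) 524292 2064 2 7 (.node (.node (.node (.node (.node (.node .leaf 524296 262148 0 5 .leaf) 524304 262152 0 6 .leaf) 524320 2176 2 6 (.node .leaf 524352 262176 0 7 .leaf)) 524416 262208 0 3 (.node (.node .leaf 524544 6144 2 7 .leaf) 524800 96 1 6 (.node .leaf 525312 262656 0 6 .leaf))) 526336 68 1 5 (.node (.node (.node .leaf 528384 2560 2 6 .leaf) 532480 192 1 7 (.node .leaf 540672 4196352 2 3 .leaf)) 557056 34816 2 4 (.node (.node .leaf 589824 2304 2 5 .leaf) 655360 327680 0 6 (.node .leaf 786432 393216 0 6 .leaf)))) 1048577 4718592 0 6 (.node (.node (.node (.node (.node .leaf 1048578 524289 0 5 .leaf) 1048580 524290 0 3 .leaf) 1048584 2097160 2 5 (.node .leaf 1048592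 2359296 2 5 .leaf)) 1048608 524304 0 7 (.node (.node .leaf 1048640 2097156 2 6 .leaf) 1048704 2098176 2 6 (.node .leaf 1048832 524416 0 4 .leaf))) 1049088 288 1 6 (.node (.node (.node .leaf 1049600 524800 0 7 .leaf) 1050624 2228224 2 7 (.node .leaf 1052672 2097664 2 6 .leaf)) 1056768 2162688 2 6 (.node (.node .leaf 1064960 532480 0 8 .leaf) 1081344 540672 0 4 (.node .leaf 1114112 557056 0 5 .leaf)))))) 1179648 2113536 2 6 (.node (.node (.node (.node (.node (.node (.node .leaf 1310720 2097154 2 7 .leaf) 1572864 786432 0 7 .leaf) 2097153 8392704 1 6 (.node .leaf 2097154 96 2 6 .leaf)) 2097156 48 2 5 (.node (.node .leaf 2097160 1048580 0 4 .leaf) 2097168 1048584 0 6 (.node .leaf 2097184 4608 1 6 .leaf))) 2097216 36 2 5 (.node (.node (.node (.node .leaf 2097280 1048640 0 7 .leaf) 2097408 1048704 0 7 .leaf) 2097664 1048832 0 5 (.node .leaf 2098176 69632 1 5 .leaf)) 2099200 131104 2 7 (.node (.node .leaf 2101248 1050624 0 8 .leaf) 2105344 1052672 0 7 (.node .leaf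 2113536 4194336 2 5 .leaf)))) 2129920 32800 2 6 (.node (.node (.node (.node (.node .leaf 2162688 1081344 0 5 .leaf) 2228224 1114112 0 6 .leaf) 2359296 34 2 4 (.node .leaf 2621440 1310720 0 8 .leaf)) 3145728 2097184 2 7 (.node (.node .leaf 4194305 8388610 1 4 .leaf) 4194306 2097153 0 7 (.node .leaf 4194308 2097154 0 7 .leaf))) 4194312 2097156 0 6 (.node (.node (.node .leaf 4194320 2097160 0 5 .leaf) 4194336 524416 2 4 (.node .leaf 4194368 524290 1 3 .leaf)) 4194432 8194 1 5 (.node (.node .leaf 4194560 1048578 1 6 .leaf) 4194816 34 1 4 (.node .leaf 4195328 2097664 0 6 .leaf))))) 4196352 6 1 2 (.node (.node (.node (.node (.node (.node .leaf 4198400 524800 2 7 .leaf) 4202496 589824 2 6 .leaf) 4210688 4718592 2 6 (.node .leaf 4227072 557056 2 5 .leaf)) 4259840 2129920 0 7 (.node (.node .leaf 4325376 540672 2 4 .leaf) 4456448 524290 2 3 (.node .leaf 4718592 2359296 0 5 .leaf))) 5242880 258 1 6 (.node (.node (.node .leaf 6291456 4098 1 7 .leaf) 8388609 12582912 0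 2 (.node .leaf 8388610 8388609 0 3 .leaf)) 8388612 8388610 0 4 (.node (.node .leaf 8388616 8388612 0 5 .leaf) 8388624 8650752 2 5 (.node .leaf 8388640 8388624 0 6 .leaf)))) 8388672 8388612 2 5 (.node (.node (.node (.node (.node .leaf 8388736 8388672 0 6 .leaf) 8388864 8392704 2 6 .leaf) 8389120 8396800 2 6 (.node .leaf 8389632 9437184 2 6 .leaf)) 8390656 8519680 2 4 (.node (.node .leaf 8392704 8390656 0 5 .leaf) 8396800 8454144 2 5 (.node .leaf 8404992 12582912 2 2 .leaf))) 8421376 8404992 0 3 (.node (.node (.node .leaf 8454144 8421376 0 4 .leaf) 8519680 8404992 2 3 (.node .leaf 8650752 8388610 2 4 .leaf)) 8912896 8650752 0 5 (.node (.node .leaf 9437184 10485760 2 5 .leaf) 10485760 4097 1 4 (.node .leaf 12582912 3 1 1 .leaf))))))))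

/-- Schreier tree of a class. -/
noncomputable def class0 : MTree :=
  (.node .leaf 3 3 0 0 .leaf)

/-- Schreier tree of a class. -/
noncomputable def class1 : MTree :=
  (.node (.node (.node (.node (.node (.node .leaf 5 5 0 0 .leaf) 6 4097 0 4 .leaf) 9 8388609 1 4 (.node (.node .leaf 10 8388610 1 3 .leaf) 17 34 0 6 .leaf)) 18 16386 1 3 (.node (.node (.node .leaf 33 524289 1 2 .leaf) 34 513 0 5 .leaf) 65 513 1 5 (.node (.node .leaf 66 2097153 0 6 .leaf) 129 18 0 4 .leaf))) 130 17 0 7 (.node (.node (.node (.node .leaf 257 262146 0 6 .leaf) 258 18 1 4 .leaf) 513 1048578 0 4 (.node (.node .leaf 514 1048577 0 6 .leaf) 1025 4097 1 4 .leaf)) 1026 4098 1 5 (.node (.node (.node .leaf 2049 33 1 3 .leaf) 2050 34 1 6 .leaf) 4097 16386 0 3 (.node .leaf 4098 1048578 1 4 .leaf)))) 8193 65538 0 5 (.node (.node (.node (.node (.node .leaf 8194 65537 0 4 .leaf) 16385 32769 1 5 .leaf) 16386 32770 1 2 (.node (.node .leaf 32769 65537 1 4 .leaf) 32770 5 0 1 .leaf)) 65537 8388610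 0 3 (.node (.node (.node .leaf 65538 8388609 0 4 .leaf) 131073 32770 0 2 .leaf) 131074 32769 0 5 (.node .leaf 262145 10 0 4 .leaf))) 262146 9 0 5 (.node (.node (.node (.node .leaf 524289 5 1 1 .leaf) 524290 6 1 5 .leaf) 1048577 9 1 5 (.node (.node .leaf 1048578 131073 0 3 .leaf) 2097153 8194 0 5 .leaf)) 2097154 258 1 5 (.node (.node (.node .leaf 4194305 1026 0 6 .leaf) 4194306 1025 0 5 .leaf) 8388609 131073 1 3 (.node .leaf 8388610 524289 0 2 .leaf)))))

/-- Schreier tree of a class. -/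
noncomputable def class2 : MTree :=
  (.node (.node (.node (.node (.node (.node (.node (.node .leaf 12 12 0 0 .leaf) 20 4128 0 3 (.node .leaf 24 2080 0 8 .leaf)) 36 4608 0 8 (.node (.node .leaf 40 8912896 1 6 .leaf) 48 540672 1 8 (.node .leaf 68 8704 1 7 .leaf))) 72 8389120 1 3 (.node (.node (.node .leaf 80 16896 1 6 .leaf) 96 2097664 0 6 (.node .leaf 132 4112 0 9 .leaf)) 136 2064 0 8 (.node (.node .leaf 144 16512 1 6 .leaf) 160 528 0 8 .leaf))) 192 2097168 0 8 (.node (.node (.node (.node .leaf 260 8208 1 5 .leaf) 264 8388624 1 4 (.node .leaf 272 262176 0 8 .leaf)) 288 262656 0 5 (.node (.node .leaf 320 528 1 8 .leaf) 384 144 1 7 .leaf)) 516 1052672 0 4 (.node (.node (.node .leaf 520 8390656 1 7 .leaf) 528 18432 1 7 (.node .leaf 544 526336 1 10 .leaf)) 576 3145728 0 6 (.node (.node .leaf 640 1048592 0 8 .leaf) 768 1310720 0 7 .leaf)))) 1028 4198400 0 7 (.node (.node (.node (.node (.node .leaf 1032 4196352 0 7 .leaf) 1040 20480 1 7 (.node .leaf 1056 4194816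 0 8 .leaf)) 1088 4608 1 8 (.node (.node .leaf 1152 4224 1 9 .leaf) 1280 4112 1 9 (.node .leaf 1536 5242880 0 8 .leaf))) 2052 8224 1 7 (.node (.node (.node .leaf 2056 8388640 1 10 .leaf) 2064 96 0 7 (.node .leaf 2080 576 0 7 .leaf)) 2112 2097216 0 9 (.node (.node .leaf 2176 80 0 7 .leaf) 2304 262208 0 8 .leaf))) 2560 1048640 0 8 (.node (.node (.node (.node .leaf 3072 4128 1 3 .leaf) 4100 1056768 1 5 (.node .leaf 4104 18432 0 7 .leaf)) 4112 16416 0 8 (.node (.node .leaf 4128 1572864 1 2 .leaf) 4160 1049088 1 10 .leaf)) 4224 1048704 1 8 (.node (.node (.node .leaf 4352 278528 0 8 .leaf) 4608 1050624 1 7 (.node .leaf 5120 1052672 1 4 .leaf)) 6144 16448 0 7 (.node (.node .leaf 8196 8256 1 8 .leaf) 8200 8388672 1 7 .leaf))))) 8208 65568 0 4 (.node (.node (.node (.node (.node (.node .leaf 8224 524352 1 6 .leaf) 8256 576 1 7 (.node .leaf 8320 192 1 9 .leaf)) 8448 80 1 7 (.node (.node .leaf 8704 1114112 0 6 .leaf) 9216 4259840 0 10 (.node .leaf 10240 65600 0 5 .leaf)))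 12288 1048640 1 8 (.node (.node (.node .leaf 16388 40960 1 6 .leaf) 16392 2176 0 8 (.node .leaf 16400 160 0 9 .leaf)) 16416 557056 1 7 (.node (.node .leaf 16448 2097280 0 6 .leaf) 16512 32896 1 5 .leaf))) 16640 262272 0 10 (.node (.node (.node (.node .leaf 16896 34816 1 5 .leaf) 17408 36864 1 7 (.node .leaf 18432 32800 1 6 .leaf)) 20480 16512 0 6 (.node (.node .leaf 24576 65664 0 5 .leaf) 32772 4100 0 6 .leaf)) 32776 8454144 1 7 (.node (.node (.node .leaf 32784 81920 1 9 .leaf) 32800 516 0 5 (.node .leaf 32832 66048 1 8 .leaf)) 32896 20 0 4 (.node (.node .leaf 33024 262148 0 9 .leaf) 33280 67584 1 8 .leaf)))) 33792 4194308 0 6 (.node (.node (.node (.node (.node .leaf 34816 65568 1 4 .leaf) 36864 1114112 1 6 (.node .leaf 40960 65600 1 5 .leaf)) 49152 132 0 10 (.node (.node .leaf 65540 4202496 1 9 .leaf) 65544 8390656 0 7 (.node .leaf 65552 8388640 0 10 .leaf))) 65568 8389120 0 3 (.node (.node (.node .leaf 65600 10485760 0 4 .leaf) 65664 8388624 0 4 (.node .leaf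 65792 4194320 1 10 .leaf)) 66048 9437184 0 7 (.node (.node .leaf 66560 4198400 1 7 .leaf) 67584 8388672 0 7 .leaf))) 69632 5242880 1 8 (.node (.node (.node (.node .leaf 73728 4194368 1 7 .leaf) 81920 8388736 0 8 (.node .leaf 98304 8388612 0 10 .leaf)) 131076 36864 0 7 (.node (.node .leaf 131080 34816 0 5 .leaf) 131088 32800 0 6 .leaf)) 131104 786432 1 6 (.node (.node (.node .leaf 131136 262656 1 5 .leaf) 131200 262272 1 10 (.node .leaf 131328 294912 0 2 .leaf)) 131584 264192 1 5 (.node (.node .leaf 132096 4227072 0 9 .leaf) 133120 262176 1 8 .leaf)))))) 135168 1310720 1 7 (.node (.node (.node (.node (.node (.node (.node .leaf 139264 262208 1 8 .leaf) 147456 294912 1 2 (.node .leaf 163840 32772 0 7 .leaf)) 196608 4456448 1 9 (.node (.node .leaf 262148 4104 0 8 .leaf) 262152 8389632 1 9 (.node .leaf 262160 40 0 7 .leaf))) 262176 525312 1 7 (.node (.node (.node .leaf 262208 2097160 0 7 .leaf) 262272 24 0 9 (.node .leaf 262400 1040 1 8 .leaf)) 262656 3072 1 4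 (.node (.node .leaf 263168 4194312 0 5 .leaf) 264192 72 0 4 .leaf))) 266240 1049600 1 9 (.node (.node (.node (.node .leaf 270336 65544 0 8 .leaf) 278528 33792 1 7 (.node .leaf 294912 12 0 1 .leaf)) 327680 4195328 1 8 (.node (.node .leaf 393216 263168 1 6 .leaf) 524292 4352 0 9 .leaf)) 524296 2304 0 9 (.node (.node (.node .leaf 524304 288 0 6 .leaf) 524320 768 0 8 (.node .leaf 524352 516 1 5 .leaf)) 524416 272 0 9 (.node (.node .leaf 524544 20 1 4 .leaf) 524800 1048832 0 8 .leaf)))) 525312 4100 1 6 (.node (.node (.node (.node (.node .leaf 526336 320 0 9 .leaf) 528384 1048580 1 9 (.node .leaf 532480 68 1 8 .leaf)) 540672 32772 1 7 (.node (.node .leaf 557056 260 0 6 .leaf) 589824 4194308 1 6 (.node .leaf 655360 262148 1 9 .leaf))) 786432 264 0 5 (.node (.node (.node .leaf 1048580 135168 0 8 .leaf) 1048584 8388616 1 9 (.node .leaf 1048592 131104 0 7 .leaf)) 1048608 131584 0 6 (.node (.node .leaf 1048640 2228224 0 7 .leaf) 1048704 131088 0 7 .leaf))) 1048832 393216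 0 7 (.node (.node (.node (.node .leaf 1049088 1179648 0 9 .leaf) 1049600 4104 1 8 (.node .leaf 1050624 131136 0 6 .leaf)) 1052672 147456 0 3 (.node (.node .leaf 1056768 72 1 4 .leaf) 1064960 32776 1 8 .leaf)) 1081344 131076 0 8 (.node (.node (.node .leaf 1114112 4194312 1 5 .leaf) 1179648 163840 0 8 (.node .leaf 1310720 131080 0 6 .leaf)) 1572864 12 1 1 (.node (.node .leaf 2097156 8448 1 8 .leaf) 2097160 10240 0 6 .leaf))))) 2097168 8224 0 7 (.node (.node (.node (.node (.node (.node .leaf 2097184 524544 1 5 .leaf) 2097216 768 1 8 (.node .leaf 2097280 8208 0 5 .leaf)) 2097408 270336 0 9 (.node (.node .leaf 2097664 1056768 0 5 .leaf) 2098176 4352 1 9 (.node .leaf 2099200 288 1 6 .leaf))) 2101248 24576 0 6 (.node (.node (.node .leaf 2105344 73728 0 8 .leaf) 2113536 33024 1 10 (.node .leaf 2129920 8196 0 9 .leaf)) 2162688 4194560 1 7 (.node (.node .leaf 2228224 40960 0 6 .leaf) 2359296 8200 0 8 .leaf))) 2621440 260 1 6 (.node (.node (.node (.node .leaf 3145728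 264 1 5 .leaf) 4194308 5120 0 5 (.node .leaf 4194312 10485760 1 4 .leaf)) 4194320 1056 0 9 (.node (.node .leaf 4194336 2621440 1 7 .leaf) 4194368 2097664 1 6 .leaf)) 4194432 2097280 1 6 (.node (.node (.node .leaf 4194560 263168 0 6 .leaf) 4194816 2099200 1 7 (.node .leaf 4195328 2101248 1 7 .leaf)) 4196352 2097184 1 6 (.node (.node .leaf 4198400 3145728 1 6 .leaf) 4202496 66560 0 8 .leaf)))) 4210688 1152 0 10 (.node (.node (.node (.node (.node .leaf 4227072 2162688 1 8 .leaf) 4259840 8389632 0 9 (.node .leaf 4325376 33792 0 7 .leaf)) 4456448 1032 0 8 (.node (.node .leaf 4718592 2097156 1 9 .leaf) 5242880 2097160 1 7 (.node .leaf 6291456 2097408 1 10 .leaf))) 8388612 139264 1 9 (.node (.node (.node .leaf 8388616 8519680 1 8 .leaf) 8388624 147456 1 3 (.node .leaf 8388640 524800 0 9 .leaf)) 8388672 131584 1 6 (.node (.node .leaf 8388736 524304 0 7 .leaf) 8388864 786432 0 6 .leaf))) 8389120 1572864 0 2 (.node (.node (.node (.node .leaf 8389632 135168 1 8 .leaf)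 8390656 524352 0 6 (.node .leaf 8392704 540672 0 8 .leaf)) 8396800 131136 1 6 (.node (.node .leaf 8404992 163840 1 8 .leaf) 8421376 524292 0 10 .leaf)) 8454144 8912896 0 6 (.node (.node (.node .leaf 8519680 393216 1 7 .leaf) 8650752 524296 0 10 (.node .leaf 8912896 524544 0 5 .leaf)) 9437184 131080 1 6 (.node (.node .leaf 10485760 131328 1 3 .leaf) 12582912 2228224 1 7 .leaf)))))))

/-- The classes of the stabiliser. -/
noncomputable def classes : List (ℕ × ℕ × MTree) := [(2, 3, class0), (1, 5, class1), (0, 12, class2)]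

end Cfsg.Agent.Lib.SporStruct.PairData
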