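import Cfsg.Agent.Lib.SporStruct.PermCodes
import Cfsg.Agent.Lib.SporStruct.CodedOrbit
import Cfsg.Agent.Lib.SporStruct.BlockMax
import Cfsg.Agent.Lib.SporStruct.PairData

/-! Orbits of `M24` and of a stabiliser on the pairs of points. -/

set_option autoImplicit false

namespace Cfsg.Agent.Lib.SporStruct.PairOrbits

open Cfsg Cfsg.Agent.Lib.Golay Masks PermCodes OrbitTree CodedOrbit
open scoped Pointwise

/-- The sets of 2 points. -/
def ksets : Set (Finset GolayPt) := {s | s.card = 2}

/-- The universe of masks. -/
noncomputable def univMasks : List ℕ := PairData.tree.keys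

/-- The invariant of a pair relative to the standard one. -/
def kf (m : ℕ) : ℕ := pc24 (PairData.root &&& m)

theorem cert_tree : (PairData.tree.check imgMask PairData.gens PairData.root &&
    incList univMasks && univMasks.all (fun m => Nat.beq (pc24 m) 2 && Nat.blt m 16777216) &&
    Nat.beq univMasks.length 276 && PairData.gens.all isM24Code) = true := by
  decide +kernel

theorem cert_classes : (classesOk imgMask PairData.stabGens univMasks kf PairData.classes &&
    PairData.stabGens.all isM24Code &&
    PairData.stabGens.all (fun c => Nat.beq (imgMask c PairData.root) PairData.root)) = true := by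
  decide +kernel

theorem root_spec : pc24 PairData.root = 2 ∧ PairData.root < 2 ^ 24 := by decide +kernel

/-- The standard set. -/
noncomputable def std : Finset GolayPt := setOfMask PairData.root

theorem std_mem : std ∈ ksets := by
  show (setOfMask _).card = _
  rw [card_setOfMask]; exact root_spec.1

theorem maskOfSet_std : maskOfSet std = PairData.root := maskOfSet_setOfMask root_spec.2

theorem univ_nodup : univMasks.Nodup := by
  have h := cert_tree
  simp only [Bool.and_eq_true] at h
  exact incList_nodup h.1.1.1.2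

theorem ncard_ksets : ksets.ncard = 276 := by
  have e : ksets = ↑((Finset.univ : Finset GolayPt).powersetCard 2) := by
    ext s; simp [ksets, Finset.mem_powersetCard]
  rw [e, Set.ncard_coe_finset, Finset.card_powersetCard, Finset.card_univ, card_golayPt]
  decide

theorem mem_univMasks (m : ℕ) : m ∈ univMasks ↔ ∃ s ∈ ksets, maskOfSet s = m := by
  have h := cert_tree
  simp only [Bool.and_eq_true, List.all_eq_true, Nat.beq_eq, Nat.blt_eq] at h
  have hsub : ∀ k ∈ univMasks, ∃ s ∈ ksets, maskOfSet s = k := fun k hk =>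
    ⟨setOfMask k, by show (setOfMask k).card = _; rw [card_setOfMask]; exact (h.1.1.2 k hk).1,
      maskOfSet_setOfMask (h.1.1.2 k hk).2⟩
  refine ⟨hsub m, ?_⟩
  rintro ⟨s, hs, rfl⟩
  exact mem_universe maskOfSet_injective.injOn (Set.toFinite _) univ_nodup hsub
    (by rw [ncard_ksets, h.1.2]) hs

theorem smul_mem (g : ↥M24) {s : Finset GolayPt} (hs : s ∈ ksets) : g • s ∈ ksets := by
  show (g • s).card = _
  rw [Finset.card_smul_finset]; exact hs

theorem code_elt {c : ℕ} (hc : isM24Code c = true) (s : Finset GolayPt) :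
    maskOfSet (elt c hc • s) = imgMask c (maskOfSet s) :=
  maskOfSet_smul (okCode_of_isM24Code hc) s

/-- `M24` is transitive on the pairs. -/
theorem exists_smul_std {s : Finset GolayPt} (hs : s ∈ ksets) : ∃ g : ↥M24, g • std = s := by
  have h := cert_tree
  simp only [Bool.and_eq_true, List.all_eq_true] at h
  obtain ⟨g, -, hg⟩ := reach (⊤ : Subgroup ↥M24) (Ω := ksets) (E := maskOfSet)
    (fun g _ x hx => smul_mem g hx)
    (fun c hc => ⟨elt c (h.2 c hc), Subgroup.mem_top _, fun x _ => code_elt _ x⟩)
    std_mem (by rw [maskOfSet_std]; exact h.1.1.1.1) maskOfSet_injective.injOn hs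
    ((mem_univMasks _).2 ⟨s, hs, rfl⟩)
  exact ⟨g, hg⟩

theorem std_classes {y z : Finset GolayPt} (hy : y ∈ ksets) (hz : z ∈ ksets)
    (h : kf (maskOfSet y) = kf (maskOfSet z)) : ∃ g : ↥M24, g • std = std ∧ g • y = z := by
  have hc := cert_classes
  simp only [Bool.and_eq_true, List.all_eq_true, Nat.beq_eq] at hc
  obtain ⟨g, hg, hgy⟩ := class_trans (MulAction.stabilizer ↥M24 std) (Ω := ksets) (E := maskOfSet)
    hc.1.1 (fun g _ x hx => smul_mem g hx)
    (fun c hcm => ⟨elt c (hc.1.2 c hcm), MulAction.mem_stabilizer_iff.2 (maskOfSet_injective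
      (by rw [code_elt, maskOfSet_std, hc.2 c hcm])), fun x _ => code_elt _ x⟩)
    maskOfSet_injective.injOn univ_nodup mem_univMasks hy hz h
  exact ⟨g, MulAction.mem_stabilizer_iff.1 hg, hgy⟩

theorem orbit_eq {x : Finset GolayPt} (hx : x ∈ ksets) : MulAction.orbit ↥M24 x = ksets := by
  obtain ⟨a, rfl⟩ := exists_smul_std hx
  rw [MulAction.orbit_eq_iff.2 (MulAction.mem_orbit _ a)]
  ext s
  exact ⟨fun ⟨g, hg⟩ => hg ▸ smul_mem g std_mem, fun hs => exists_smul_std hs⟩

/-- The number of members of a class at the standard set. -/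
theorem ncard_std_class (i : ℕ) :
    {y | y ∈ ksets ∧ kf (maskOfSet y) = i}.ncard = univMasks.countP fun m => Nat.beq (kf m) i := by
  rw [← class_ncard (Ω := ksets) (E := maskOfSet) maskOfSet_injective.injOn univ_nodup mem_univMasks]
  congr 1
  ext y
  simp

theorem kf_mask (y : Finset GolayPt) : kf (maskOfSet y) = (std ∩ y).card := by
  rw [card_inter_eq, maskOfSet_std]; rfl

end Cfsg.Agent.Lib.SporStruct.PairOrbits
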