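import Cfsg.Agent.Lib.SporStruct.LeechTriples
import Cfsg.Agent.Lib.SporStruct.OctadSystem
import Cfsg.Agent.Lib.SporStruct.OctadStab

/-!
The 275 vectors attached to a norm 48 vector and a summand, seen from one of them.
-/

set_option autoImplicit false

namespace Cfsg.Agent.Lib.SporStruct.LeechMcL

open Cfsg Finset GolayUnique Leech LeechPairs LeechCounts LeechTriples
open scoped Pointwise

variable {a b c : GolayPt}

/-- The shape of the norm 48 vector in standard position. -/
def Std3 (a b c : GolayPt) (u : GolayPt → ℤ) : Prop :=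
  OddVec u ∧ u a = 1 ∧ u b = 5 ∧ u c = -1 ∧ ∀ k, k ≠ b → u k = 1 ∨ u k = -1

theorem six_terms (hab : a ≠ b) (v y : GolayPt → ℤ) :
    dotInt v y = v a * y a + v b * y b + ∑ k ∈ univ \ {a, b}, v k * y k := by
  rw [dotInt, ← Finset.sum_sdiff (Finset.subset_univ ({a, b} : Finset GolayPt)),
    Finset.sum_pair hab]
  ring

theorem norm_terms (hab : a ≠ b) (y : GolayPt → ℤ) :
    sqNorm y = y a ^ 2 + y b ^ 2 + ∑ k ∈ univ \ {a, b}, y k ^ 2 := by
  rw [sqNorm, ← Finset.sum_sdiff (Finset.subset_univ ({a, b} : Finset GolayPt)),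
    Finset.sum_pair hab]
  ring

theorem card_rest (hab : a ≠ b) : ((univ : Finset GolayPt) \ {a, b}).card = 22 := by
  rw [Finset.card_sdiff_of_subset (Finset.subset_univ _), Finset.card_univ, card_pt,
    Finset.card_pair hab]

theorem mem_rest {k : GolayPt} : k ∈ (univ : Finset GolayPt) \ {a, b} ↔ k ≠ a ∧ k ≠ b := by
  simp [not_or]

/-- The members have three shapes. -/
theorem classify (hab : a ≠ b) {u : GolayPt → ℤ} (hu : Std3 a b c u) {y : GolayPt → ℤ}
    (hy : y ∈ leechLattice) (hn : sqNorm y = 32) (hv : y a + y b = 4) (hd : dotInt u y = 24) :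
    (y a = 0 ∧ y b = 4 ∧ ∃ k, k ≠ a ∧ k ≠ b ∧
      ∀ i, i ≠ a → i ≠ b → y i = if i = k then 4 * u i else 0) ∨
    (y a = 2 ∧ y b = 2 ∧ ∃ o ∈ octads, a ∈ o ∧ b ∈ o ∧
      ∀ i, i ≠ a → i ≠ b → y i = if i ∈ o then 2 * u i else 0) ∨
    (y a = 1 ∧ y b = 3 ∧ ∃ o ∈ octads, a ∉ o ∧ b ∈ o ∧
      ∀ i, i ≠ a → i ≠ b → y i = if i ∈ o then -u i else u i) := by
  have hn' := norm_terms hab y
  have hd' := six_terms hab u y
  rw [hn] at hn'
  rw [hd, hu.2.1, hu.2.2.1] at hd'
  rcases mem_leech_iff.1 hy with he | ho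
  · have hle : ∀ k ∈ univ \ {a, b}, 2 * (u k * y k) ≤ y k ^ 2 := by
      intro k hk
      obtain ⟨-, hkb⟩ := mem_rest.1 hk
      have h1 := he.1 k
      rcases hu.2.2.2.2 k hkb with e | e <;> rw [e] <;>
        rcases (by omega : y k = 0 ∨ 2 ≤ y k ∨ y k ≤ -2) with q | q | q <;> nlinarith
    have hR := Finset.sum_le_sum hle
    rw [← Finset.mul_sum] at hR
    have hb2 : y b = 2 ∨ y b = 4 := by
      have hea := he.1 b
      have h26 : 2 ≤ y b ∧ y b ≤ 6 := by
        rw [show y a = 4 - y b by omega] at hn' hd'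
        constructor <;> nlinarith
      rcases (by omega : y b = 2 ∨ y b = 4 ∨ y b = 6) with e | e | e
      · exact Or.inl e
      · exact Or.inr e
      · exfalso
        have h := sub_pair_le y {b}
        rw [Finset.sum_singleton, e, hn] at h
        norm_num at h
    rcases hb2 with e | e
    · right; left
      have hea : y a = 2 := by omega
      have har : a ∈ res 2 y := mem_res.2 (by omega)
      obtain ⟨h8, htwo, hout⟩ := even32_shape he hn har
      have hzero : ∀ k ∈ univ \ {a, b}, y k ^ 2 - 2 * (u k * y k) = 0 := by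
        refine (Finset.sum_eq_zero_iff_of_nonneg fun k hk => by have := hle k hk; omega).1 ?_
        rw [Finset.sum_sub_distrib, ← Finset.mul_sum]
        rw [hea, e] at hn' hd'
        omega
      refine ⟨hea, e, res 2 y, mem_octads.2 ⟨he.2.1, h8⟩, har, mem_res.2 (by omega),
        fun k hka hkb => ?_⟩
      split_ifs with hk
      · have hz := hzero k (mem_rest.2 ⟨hka, hkb⟩)
        rcases hu.2.2.2.2 k hkb with q | q <;> rcases htwo k hk with q' | q' <;>
          rw [q, q'] at hz ⊢ <;> omega
      · exact hout k hk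
    · left
      have hea : y a = 0 := by omega
      rw [hea, e] at hn' hd'
      have hno : res 2 y = ∅ := by
        rw [Finset.eq_empty_iff_forall_notMem]
        intro i hi
        obtain ⟨-, htwo, hout⟩ := even32_shape he hn hi
        by_cases hb : b ∈ res 2 y
        · have := htwo b hb; omega
        · have := hout b hb; omega
      have h4 : ∀ i, y i = 0 ∨ y i = 4 ∨ y i = -4 := fun i => by
        have hi : i ∉ res 2 y := by rw [hno]; simp
        rw [mem_res] at hi
        have := he.1 i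
        have := coord_le_five hn i
        omega
      obtain ⟨k, hk, hk0⟩ : ∃ k ∈ univ \ {a, b}, y k ≠ 0 := by
        by_contra hall
        push Not at hall
        rw [Finset.sum_congr rfl (g := fun _ => (0 : ℤ)) fun k hk => by rw [hall k hk]; rfl,
          Finset.sum_const_zero] at hn'
        omega
      obtain ⟨hka, hkb⟩ := mem_rest.1 hk
      have hk16 : y k ^ 2 = 16 := by
        rcases h4 k with q | q | q
        · exact absurd q hk0
        · rw [q]; norm_num
        · rw [q]; norm_num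
      rw [← Finset.add_sum_erase _ _ hk, hk16] at hn'
      have hrest : ∀ i ∈ (univ \ {a, b}).erase k, y i = 0 := by
        intro i hi
        have h := (Finset.sum_eq_zero_iff_of_nonneg (s := (univ \ {a, b}).erase k)
          (f := fun i => y i ^ 2) (fun i _ => sq_nonneg _)).1 (by omega) i hi
        exact pow_eq_zero_iff two_ne_zero |>.mp h
      rw [← Finset.add_sum_erase _ _ hk,
        Finset.sum_congr rfl (g := fun _ => (0 : ℤ)) fun i hi => by rw [hrest i hi]; ring,
        Finset.sum_const_zero] at hd'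
      refine ⟨hea, e, k, hka, hkb, fun i hia hib => ?_⟩
      split_ifs with hik
      · subst hik
        rcases hu.2.2.2.2 i hib with q | q <;> rw [q] at hd' ⊢ <;> omega
      · exact hrest i (Finset.mem_erase.2 ⟨hik, mem_rest.2 ⟨hia, hib⟩⟩)
  · right; right
    have h9 := odd_excess ho {a, b}
    rw [Finset.sum_pair hab, hn, show y a = 4 - y b by omega] at h9
    have hob := ho.1 b
    have hb13 : 0 ≤ y b ∧ y b ≤ 4 := by constructor <;> nlinarith
    have h3 : ∀ i, i ≠ a → i ≠ b → y i = 1 ∨ y i = -1 := by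
      intro i hia hib
      rcases (by omega : y b = 3 ∨ y a = 3) with q | q
      · exact odd_unit ho (Ne.symm hib) (by rw [hn, q]; norm_num)
      · exact odd_unit ho (Ne.symm hia) (by rw [hn, q]; norm_num)
    set D := symmDiff (res 1 u) (res 1 y) with hD
    have hDc : IsCode D := hu.1.2.1.symmDiff ho.2.1
    have hval : ∀ k ∈ univ \ {a, b}, u k * y k = 1 - 2 * (if k ∈ D then 1 else 0) := by
      intro k hk
      obtain ⟨hka, hkb⟩ := mem_rest.1 hk
      simp only [hD, Finset.mem_symmDiff, mem_res]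
      rcases hu.2.2.2.2 k hkb with e | e <;> rcases h3 k hka hkb with q | q <;> rw [e, q] <;> simp
    have hDsub : (univ \ {a, b}).filter (· ∈ D) = (D.erase a).erase b := by
      ext k
      simp only [Finset.mem_filter, mem_rest, Finset.mem_erase]
      tauto
    rw [Finset.sum_congr rfl hval, Finset.sum_sub_distrib, Finset.sum_const, card_rest hab,
      ← Finset.mul_sum, Finset.sum_boole, hDsub, nsmul_eq_mul] at hd'
    push_cast at hd'
    have hw := hDc.weights
    have hb3 : y b = 3 := by
      by_contra hne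
      have hb1 : y b = 1 := by omega
      have haD : a ∈ D := by simp only [hD, Finset.mem_symmDiff, mem_res, hu.2.1]; omega
      have hbD : b ∉ D.erase a := by
        simp only [Finset.mem_erase, hD, Finset.mem_symmDiff, mem_res, hu.2.2.1]; omega
      rw [Finset.erase_eq_of_notMem hbD, Finset.card_erase_of_mem haD] at hd'
      have := Finset.card_pos.2 ⟨a, haD⟩
      omega
    have haD : a ∉ D := by simp only [hD, Finset.mem_symmDiff, mem_res, hu.2.1]; omega
    have hbD : b ∈ D := by simp only [hD, Finset.mem_symmDiff, mem_res, hu.2.2.1]; omega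
    rw [Finset.erase_eq_of_notMem haD, Finset.card_erase_of_mem hbD] at hd'
    refine ⟨by omega, hb3, D, mem_octads.2 ⟨hDc, by omega⟩, haD, hbD, fun k hka hkb => ?_⟩
    have h := hval k (mem_rest.2 ⟨hka, hkb⟩)
    rcases hu.2.2.2.2 k hkb with e | e <;> rw [e] at h ⊢ <;> split_ifs at h ⊢ <;> omega

theorem dot_x {y : GolayPt → ℤ} : dotInt (vec (pn b c)) y = 4 * (y b - y c) := dot_pn y

/-- The values of the inner product with the base point. -/
theorem dot_x_cases (hab : a ≠ b) (hca : c ≠ a) (hcb : c ≠ b) {u y : leechLattice}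
    (hu : Std3 a b c (vec u)) (hn : sqNorm (vec y) = 32)
    (hv : vec y a + vec y b = 4) (hd : dotInt (vec u) (vec y) = 24) :
    y = pn b c ∨ dotInt (vec (pn b c)) (vec y) = 8 ∨ dotInt (vec (pn b c)) (vec y) = 16 := by
  rw [dot_x]
  rcases classify hab hu (show vec y ∈ leechLattice from y.2) hn hv hd with
    ⟨h1, h2, k, hka, hkb, h3⟩ | ⟨h1, h2, o, ho, -, -, h3⟩ | ⟨h1, h2, o, ho, -, -, h3⟩
  · rw [h2, h3 c hca hcb, hu.2.2.2.1]
    by_cases hck : c = k
    · subst hck
      refine Or.inl (Subtype.ext (funext fun i => ?_))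
      show vec y i = vec (pn b c) i
      rw [LeechTriples.pn_apply]
      by_cases hia : i = a
      · subst hia; rw [h1, if_neg hab, if_neg (Ne.symm hca)]; rfl
      by_cases hib : i = b
      · subst hib; rw [h2, if_pos rfl, if_neg (Ne.symm hcb)]; rfl
      rw [h3 i hia hib, if_neg hib]
      split_ifs with hic
      · subst hic; rw [hu.2.2.2.1]; rfl
      · rfl
    · rw [if_neg hck]; exact Or.inr (Or.inr (by norm_num))
  · rw [h2, h3 c hca hcb, hu.2.2.2.1]
    split_ifs <;> norm_num
  · rw [h2, h3 c hca hcb, hu.2.2.2.1]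
    split_ifs <;> norm_num

/-- An octad through `a`, `c` and `k` meeting a given octad through `c, k` in these two points. -/
theorem exists_meet_two {o : Finset GolayPt} {k : GolayPt} (ho : o ∈ octads) (hac : a ≠ c)
    (hao : a ∉ o) (hco : c ∈ o) (hko : k ∈ o) (hkc : k ≠ c) :
    ∃ P ∈ octads, a ∈ P ∧ c ∈ P ∧ k ∈ P ∧ (o ∩ P).card = 2 := by
  classical
  have hka : k ≠ a := fun e => hao (e ▸ hko)
  set T := Golay.Steiner.through octads {a, c, k} with hT
  have hmem : ∀ P, P ∈ T ↔ P ∈ octads ∧ a ∈ P ∧ c ∈ P ∧ k ∈ P := fun P => by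
    simp [hT, Golay.Steiner.through, Golay.Steiner.blocks, Finset.insert_subset_iff]
  have h21 : T.card = 21 := by
    have hcard : ({a, c, k} : Finset GolayPt).card = 3 := by
      rw [Finset.card_insert_of_notMem (by simp [hac, Ne.symm hka]),
        Finset.card_pair (Ne.symm hkc)]
    have h := OctadSystem.card_through ({a, c, k} : Finset GolayPt) (by omega)
    rw [hcard] at h
    norm_num [Nat.choose] at h
    rw [hT]; omega
  have hfive : ∀ l, l ≠ a → l ≠ c → l ≠ k → (T.filter fun P => l ∈ P).card = 5 := by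
    intro l hla hlc hlk
    have hcard : ({a, c, k, l} : Finset GolayPt).card = 4 :=
      Finset.card_eq_four.2 ⟨a, c, k, l, hac, Ne.symm hka, Ne.symm hla, Ne.symm hkc, Ne.symm hlc,
        Ne.symm hlk, rfl⟩
    have h := OctadSystem.card_through ({a, c, k, l} : Finset GolayPt) (by omega)
    rw [hcard] at h
    norm_num [Nat.choose] at h
    have e : (T.filter fun P => l ∈ P) = Golay.Steiner.through octads {a, c, k, l} := by
      ext P
      simp [hT, Golay.Steiner.through, Golay.Steiner.blocks, Finset.insert_subset_iff, and_assoc]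
    rw [e]
    omega
  by_contra hno
  push Not at hno
  have h4 : ∀ P ∈ T, (o ∩ P).card = 4 := by
    intro P hP
    obtain ⟨hP, haP, hcP, hkP⟩ := (hmem P).1 hP
    have hev := (mem_octads.1 ho).1.even_inter (mem_octads.1 hP).1
    have h0 : 0 < (o ∩ P).card := Finset.card_pos.2 ⟨c, Finset.mem_inter.2 ⟨hco, hcP⟩⟩
    have h5 : (o ∩ P).card < 5 := by
      by_contra h5
      exact hao (OctadSystem.eq_of_five ho hP (by omega) ▸ haP)
    have := hno P hP haP hcP hkP
    omega
  have hsum : ∑ l ∈ o, (T.filter fun P => l ∈ P).card = ∑ P ∈ T, (o ∩ P).card := by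
    simp only [Finset.card_filter]
    rw [Finset.sum_comm]
    refine Finset.sum_congr rfl fun P _ => ?_
    rw [← Finset.filter_mem_eq_inter, Finset.card_filter]
  have hck : ({c, k} : Finset GolayPt) ⊆ o := by simp [Finset.insert_subset_iff, hco, hko]
  rw [Finset.sum_congr rfl h4, ← Finset.sum_sdiff hck, Finset.sum_pair (Ne.symm hkc),
    Finset.filter_true_of_mem fun P hP => ((hmem P).1 hP).2.2.1,
    Finset.filter_true_of_mem fun P hP => ((hmem P).1 hP).2.2.2,
    Finset.sum_congr rfl (g := fun _ => 5) fun l hl => by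
      simp only [Finset.mem_sdiff, Finset.mem_insert, Finset.mem_singleton, not_or] at hl
      exact hfive l (fun e => hao (e ▸ hl.1)) hl.2.1 hl.2.2,
    Finset.sum_const, Finset.sum_const, Finset.card_sdiff_of_subset hck,
    Finset.card_pair (Ne.symm hkc), (mem_octads.1 ho).2, h21, smul_eq_mul, smul_eq_mul] at hsum
  omega

/-- An octad through two points disjoint from a given octad avoiding them. -/
theorem exists_disjoint {o : Finset GolayPt} (ho : o ∈ octads) (hac : a ≠ c) (hao : a ∉ o)
    (hco : c ∉ o) : ∃ P ∈ octads, a ∈ P ∧ c ∈ P ∧ o ∩ P = ∅ := by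
  classical
  set T := Golay.Steiner.through octads {a, c} with hT
  have hmem : ∀ P, P ∈ T ↔ P ∈ octads ∧ a ∈ P ∧ c ∈ P := fun P => by
    simp [hT, Golay.Steiner.through, Golay.Steiner.blocks, Finset.insert_subset_iff]
  have h77 : T.card = 77 := by
    have h := OctadSystem.card_through ({a, c} : Finset GolayPt) (by rw [Finset.card_pair hac]; omega)
    rw [Finset.card_pair hac] at h
    norm_num [Nat.choose] at h
    rw [hT]; omega
  have hfour : ∀ k ∈ o, ∀ l ∈ o,
      (T.filter fun P => k ∈ P ∧ l ∈ P).card = if k = l then 21 else 5 := by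
    intro k hk l hl
    have hka : k ≠ a := fun e => hao (e ▸ hk)
    have hkc : k ≠ c := fun e => hco (e ▸ hk)
    have hla : l ≠ a := fun e => hao (e ▸ hl)
    have hlc : l ≠ c := fun e => hco (e ▸ hl)
    have e : (T.filter fun P => k ∈ P ∧ l ∈ P) = Golay.Steiner.through octads {a, c, k, l} := by
      ext P
      simp [hT, Golay.Steiner.through, Golay.Steiner.blocks, Finset.insert_subset_iff, and_assoc]
    rw [e]
    split_ifs with hkl
    · subst hkl
      have hs : ({a, c, k, k} : Finset GolayPt) = {a, c, k} := by simp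
      rw [hs]
      have hcard : ({a, c, k} : Finset GolayPt).card = 3 := by
        rw [Finset.card_insert_of_notMem (by simp [hac, Ne.symm hka]),
          Finset.card_pair (Ne.symm hkc)]
      have h := OctadSystem.card_through ({a, c, k} : Finset GolayPt) (by omega)
      rw [hcard] at h
      norm_num [Nat.choose] at h
      omega
    · have hcard : ({a, c, k, l} : Finset GolayPt).card = 4 :=
        Finset.card_eq_four.2 ⟨a, c, k, l, hac, Ne.symm hka, Ne.symm hla, Ne.symm hkc, Ne.symm hlc,
          hkl, rfl⟩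
      have h := OctadSystem.card_through ({a, c, k, l} : Finset GolayPt) (by omega)
      rw [hcard] at h
      norm_num [Nat.choose] at h
      omega
  by_contra hno
  push Not at hno
  have h24 : ∀ P ∈ T, ((o ∩ P).card : ℤ) = 2 ∨ ((o ∩ P).card : ℤ) = 4 := by
    intro P hP
    obtain ⟨hP, haP, hcP⟩ := (hmem P).1 hP
    have hev := (mem_octads.1 ho).1.even_inter (mem_octads.1 hP).1
    have h0 : 0 < (o ∩ P).card :=
      Finset.card_pos.2 (hno P hP haP hcP)
    have h5 : (o ∩ P).card < 5 := by
      by_contra h5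
      exact hao (OctadSystem.eq_of_five ho hP (by omega) ▸ haP)
    omega
  have h1 : ∑ P ∈ T, ((o ∩ P).card : ℤ) = 168 := by
    have e : ∀ P : Finset GolayPt, ((o ∩ P).card : ℤ) = ∑ k ∈ o, if k ∈ P then 1 else 0 := fun P => by
      rw [Finset.sum_boole, Finset.filter_mem_eq_inter]
    simp only [e]
    rw [Finset.sum_comm, Finset.sum_congr rfl (g := fun _ => (21 : ℤ)) fun k hk => by
      rw [Finset.sum_boole]
      have h := hfour k hk k hk
      simp only [and_self, if_true] at h
      rw [h]; rfl, Finset.sum_const, (mem_octads.1 ho).2]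
    norm_num
  have h2 : ∑ P ∈ T, ((o ∩ P).card : ℤ) ^ 2 = 448 := by
    have e : ∀ P : Finset GolayPt, ((o ∩ P).card : ℤ) ^ 2 =
        ∑ k ∈ o, ∑ l ∈ o, if k ∈ P ∧ l ∈ P then 1 else 0 := fun P => by
      rw [sq, ← Finset.filter_mem_eq_inter, ← Finset.sum_boole, Finset.sum_mul_sum]
      refine Finset.sum_congr rfl fun k _ => Finset.sum_congr rfl fun l _ => ?_
      by_cases p : k ∈ P <;> by_cases q : l ∈ P <;> simp [p, q]
    simp only [e]
    rw [Finset.sum_comm, Finset.sum_congr rfl (g := fun _ => (56 : ℤ)) fun k hk => by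
      rw [Finset.sum_comm, Finset.sum_congr rfl (g := fun l => if k = l then (21 : ℤ) else 5)
        fun l hl => by rw [Finset.sum_boole, hfour k hk l hl]; split_ifs <;> rfl,
        ← Finset.add_sum_erase _ _ hk, if_pos rfl,
        Finset.sum_congr rfl (g := fun _ => (5 : ℤ)) fun l hl =>
          if_neg (Ne.symm (Finset.ne_of_mem_erase hl)),
        Finset.sum_const, Finset.card_erase_of_mem hk, (mem_octads.1 ho).2]
      norm_num, Finset.sum_const, (mem_octads.1 ho).2]
    norm_num
  have h3 : ∑ P ∈ T, (((o ∩ P).card : ℤ) ^ 2 - 6 * (o ∩ P).card + 8) = 0 :=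
    Finset.sum_eq_zero fun P hP => by rcases h24 P hP with e | e <;> rw [e] <;> norm_num
  rw [Finset.sum_add_distrib, Finset.sum_sub_distrib, ← Finset.mul_sum, h1, h2, Finset.sum_const,
    h77] at h3
  norm_num at h3

/-- An octad through three points avoiding a fourth. -/
theorem exists_three_avoid {p q r s : GolayPt} (hpq : p ≠ q) (hpr : p ≠ r) (hqr : q ≠ r)
    (hps : p ≠ s) (hqs : q ≠ s) (hrs : r ≠ s) :
    ∃ P ∈ octads, p ∈ P ∧ q ∈ P ∧ r ∈ P ∧ s ∉ P := by
  classical
  by_contra hno
  push Not at hno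
  have e : Golay.Steiner.through octads {p, q, r} = Golay.Steiner.through octads {p, q, r, s} := by
    ext P
    simp only [Golay.Steiner.through, Golay.Steiner.blocks, Finset.mem_filter, Finset.mem_univ, true_and,
      Finset.insert_subset_iff, Finset.singleton_subset_iff, Set.Finite.mem_toFinset]
    exact ⟨fun h => ⟨h.1, h.2.1, h.2.2.1, h.2.2.2, hno P h.1 h.2.1 h.2.2.1 h.2.2.2⟩,
      fun h => ⟨h.1, h.2.1, h.2.2.1, h.2.2.2.1⟩⟩
  have h3 : ({p, q, r} : Finset GolayPt).card = 3 := by
    rw [Finset.card_insert_of_notMem (by simp [hpq, hpr]), Finset.card_pair hqr]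
  have h4 : ({p, q, r, s} : Finset GolayPt).card = 4 :=
    Finset.card_eq_four.2 ⟨p, q, r, s, hpq, hpr, hps, hqr, hqs, hrs, rfl⟩
  have a3 := OctadSystem.card_through ({p, q, r} : Finset GolayPt) (by omega)
  have a4 := OctadSystem.card_through ({p, q, r, s} : Finset GolayPt) (by omega)
  rw [h3, e] at a3
  rw [h4] at a4
  norm_num [Nat.choose] at a3 a4
  omega

/-- The witness attached to an octad through `a, c` avoiding `b`. -/
theorem exists_witness_octad (hab : a ≠ b) (hca : c ≠ a) (hcb : c ≠ b) {u : leechLattice}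
    (hun : sqNorm (vec u) = 48) (hu : Std3 a b c (vec u)) {P : Finset GolayPt} (hP : P ∈ octads)
    (haP : a ∈ P) (hcP : c ∈ P) (hbP : b ∉ P) :
    ∃ z : leechLattice, sqNorm (vec z) = 32 ∧ dotInt (vec (pp a b)) (vec z) = 0 ∧
      dotInt (vec (pn b c)) (vec z) = 16 ∧ dotInt (vec z) (vec u) = 16 ∧
      ∀ y : GolayPt → ℤ, dotInt (vec z) y =
        dotInt (vec u) y - 2 * (∑ k ∈ P, vec u k * y k) - 4 * (y b + y c) := by
  set w := Leech.flip P (mem_octads.1 hP).1 • u with hw
  set q : leechLattice := ⟨_, pair_mem b c (Or.inl rfl) (Or.inl rfl)⟩ with hq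
  have hwk : ∀ k, vec w k = vec u k - 2 * (if k ∈ P then vec u k else 0) := fun k => by
    rw [hw, flip_smul]; split_ifs <;> ring
  have hdot : ∀ y : GolayPt → ℤ, dotInt (vec (w - q)) y =
      dotInt (vec u) y - 2 * (∑ k ∈ P, vec u k * y k) - 4 * (y b + y c) := by
    intro y
    show dotInt (vec w - vec q) y = _
    rw [dot_comm, dot_sub_right, dot_comm y (vec q)]
    have e1 : dotInt y (vec w) = dotInt (vec u) y - 2 * ∑ k ∈ P, vec u k * y k := by
      simp only [dotInt, hwk, mul_sub, Finset.sum_sub_distrib]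
      rw [← Finset.sum_filter_add_sum_filter_not univ (· ∈ P)
        (fun k => y k * (2 * if k ∈ P then vec u k else 0)),
        Finset.sum_eq_zero (s := univ.filter fun k => ¬k ∈ P)
          (fun k hk => by rw [if_neg (Finset.mem_filter.1 hk).2]; ring),
        Finset.filter_mem_eq_inter, Finset.univ_inter, add_zero, Finset.mul_sum]
      refine congrArg₂ (· - ·) (Finset.sum_congr rfl fun k _ => mul_comm _ _)
        (Finset.sum_congr rfl fun k hk => ?_)
      rw [if_pos hk]; ring
    have e2 : dotInt (vec q) y = 4 * (y b + y c) := by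
      show dotInt (Pi.single b (4 * 1) + Pi.single c (4 * 1)) y = _
      rw [dot_pair]; ring
    rw [e1, e2]
  have hwa : vec w a = -1 := by rw [hwk, if_pos haP, hu.2.1]; norm_num
  have hwb : vec w b = 5 := by rw [hwk, if_neg hbP, hu.2.2.1]; norm_num
  have hwc : vec w c = 1 := by rw [hwk, if_pos hcP, hu.2.2.2.1]; norm_num
  have hqk : ∀ k, vec q k = (if k = b then 4 else 0) + (if k = c then 4 else 0) := fun k => by
    simp [hq, vec, Pi.single_apply]
  refine ⟨w - q, ?_, ?_, ?_, ?_, hdot⟩
  · show sqNorm (vec w - vec q) = 32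
    have e1 : sqNorm (vec w) = 48 := by rw [hw, norm_smul', hun]
    have e2 : sqNorm (vec q) = 32 := by
      show sqNorm (Pi.single b (4 * 1) + Pi.single c (4 * 1) : GolayPt → ℤ) = 32
      rw [norm_pair (Ne.symm hcb)]; norm_num
    have e3 : dotInt (vec q) (vec w) = 24 := by
      show dotInt (Pi.single b (4 * 1) + Pi.single c (4 * 1)) (vec w) = 24
      rw [dot_pair, hwb, hwc]; norm_num
    rw [sqNorm_sub, e1, dot_comm, e3, e2]; norm_num
  · rw [dot_pp]
    show 4 * ((vec w a - vec q a) + (vec w b - vec q b)) = 0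
    rw [hwa, hwb, hqk, hqk]
    simp [hab, Ne.symm hab, Ne.symm hca, Ne.symm hcb]
  · rw [dot_pn]
    show 4 * ((vec w b - vec q b) - (vec w c - vec q c)) = 16
    rw [hwb, hwc, hqk, hqk]
    simp [hcb, Ne.symm hcb]
  · rw [hdot, dot_self, hun, hu.2.2.1, hu.2.2.2.1,
      Finset.sum_congr rfl (g := fun _ => (1 : ℤ)) fun k hk => by
        rcases hu.2.2.2.2 k (fun e => hbP (e ▸ hk)) with e | e <;> rw [e] <;> norm_num,
      Finset.sum_const, (mem_octads.1 hP).2]
    norm_num

/-- Some witness is orthogonal to any member other than the base point. -/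
theorem exists_witness_orth (hab : a ≠ b) (hca : c ≠ a) (hcb : c ≠ b) {u y : leechLattice}
    (hun : sqNorm (vec u) = 48) (hu : Std3 a b c (vec u)) (hn : sqNorm (vec y) = 32)
    (hv : vec y a + vec y b = 4) (hd : dotInt (vec u) (vec y) = 24) (hne : y ≠ pn b c) :
    ∃ z : leechLattice, sqNorm (vec z) = 32 ∧ dotInt (vec (pp a b)) (vec z) = 0 ∧
      dotInt (vec (pn b c)) (vec z) = 16 ∧ dotInt (vec z) (vec u) = 16 ∧
      dotInt (vec z) (vec y) = 0 := by
  rcases classify hab hu (show vec y ∈ leechLattice from y.2) hn hv hd with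
    ⟨h1, h2, k, hka, hkb, h3⟩ | ⟨h1, h2, o, ho, -, -, h3⟩ | ⟨h1, h2, o, ho, hao, hbo, h3⟩
  · have hkc : k ≠ c := by
      intro e
      subst e
      refine hne (Subtype.ext (funext fun i => ?_))
      show vec y i = vec (pn b k) i
      rw [LeechTriples.pn_apply]
      by_cases hia : i = a
      · subst hia; rw [h1, if_neg hab, if_neg (Ne.symm hka)]; rfl
      by_cases hib : i = b
      · subst hib; rw [h2, if_pos rfl, if_neg (Ne.symm hkb)]; rfl
      rw [h3 i hia hib, if_neg hib]
      split_ifs with hic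
      · subst hic; rw [hu.2.2.2.1]; rfl
      · rfl
    obtain ⟨P, hP, haP, hcP, hkP, hbP⟩ :=
      exists_three_avoid (Ne.symm hca) (Ne.symm hka) (Ne.symm hkc) hab hcb hkb
    obtain ⟨z, z1, z2, z3, z4, z5⟩ := exists_witness_octad hab hca hcb hun hu hP haP hcP hbP
    refine ⟨z, z1, z2, z3, z4, ?_⟩
    rw [z5, hd, h2, h3 c hca hcb, if_neg (Ne.symm hkc)]
    rw [Finset.sum_eq_single k (fun i hi hik => by
      by_cases hia : i = a
      · subst hia; rw [h1, mul_zero]
      · rw [h3 i hia (fun e => hbP (e ▸ hi)), if_neg hik, mul_zero])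
      (fun h => absurd hkP h), h3 k hka hkb, if_pos rfl]
    rcases hu.2.2.2.2 k hkb with e | e <;> rw [e] <;> norm_num
  · refine ⟨pn b a, norm_pn (Ne.symm hab), ?_, ?_, ?_, ?_⟩
    · simp [dot_pp, LeechTriples.pn_apply, hab, Ne.symm hab]
    · simp [dot_pn, LeechTriples.pn_apply, hca, hcb, Ne.symm hab]
    · rw [dot_pn, hu.2.1, hu.2.2.1]; norm_num
    · rw [dot_pn, h1, h2]; norm_num
  · obtain ⟨P, hP, haP, hcP, hbP, hcard⟩ : ∃ P ∈ octads, a ∈ P ∧ c ∈ P ∧ b ∉ P ∧
        (o ∩ P).card = if c ∈ o then 2 else 0 := by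
      by_cases hco : c ∈ o
      · obtain ⟨k, hk⟩ := Finset.card_pos.1 (show 0 < ((o.erase b).erase c).card by
          rw [Finset.card_erase_of_mem (Finset.mem_erase.2 ⟨hcb, hco⟩),
            Finset.card_erase_of_mem hbo, (mem_octads.1 ho).2]
          norm_num)
        simp only [Finset.mem_erase] at hk
        obtain ⟨P, hP, haP, hcP, hkP, h⟩ :=
          exists_meet_two ho (Ne.symm hca) hao hco hk.2.2 hk.1
        refine ⟨P, hP, haP, hcP, fun hbP => ?_, by rw [if_pos hco]; exact h⟩
        have hsub : ({b, c, k} : Finset GolayPt) ⊆ o ∩ P := by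
          simp [Finset.insert_subset_iff, hbo, hbP, hco, hcP, hk.2.2, hkP]
        have h' := Finset.card_le_card hsub
        rw [h, Finset.card_insert_of_notMem (by simp [Ne.symm hcb, Ne.symm hk.2.1]),
          Finset.card_pair (Ne.symm hk.1)] at h'
        omega
      · obtain ⟨P, hP, haP, hcP, h⟩ := exists_disjoint ho (Ne.symm hca) hao hco
        refine ⟨P, hP, haP, hcP, fun hbP => ?_, by rw [if_neg hco, h]; rfl⟩
        have : b ∈ o ∩ P := Finset.mem_inter.2 ⟨hbo, hbP⟩
        rw [h] at this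
        exact Finset.notMem_empty _ this
    obtain ⟨z, z1, z2, z3, z4, z5⟩ := exists_witness_octad hab hca hcb hun hu hP haP hcP hbP
    refine ⟨z, z1, z2, z3, z4, ?_⟩
    have hS : ∑ i ∈ P, vec u i * vec y i = 8 - 2 * ((o ∩ P).card : ℤ) := by
      rw [Finset.sum_congr rfl (g := fun i => (1 : ℤ) - 2 * (if i ∈ o then 1 else 0)) fun i hi => by
        by_cases hia : i = a
        · subst hia; rw [h1, hu.2.1, if_neg hao]; norm_num
        · rw [h3 i hia (fun e => hbP (e ▸ hi))]
          rcases hu.2.2.2.2 i (fun e => hbP (e ▸ hi)) with e | e <;> rw [e] <;>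
            split_ifs <;> norm_num,
        Finset.sum_sub_distrib, Finset.sum_const, (mem_octads.1 hP).2, ← Finset.mul_sum,
        Finset.sum_boole, Finset.filter_mem_eq_inter, Finset.inter_comm]
      norm_num
    rw [z5, hd, hS, h2, h3 c hca hcb, hcard, hu.2.2.2.1]
    split_ifs <;> norm_num

/-- The member with `2` on an octad through `a` and `b`. -/
theorem exists_type_two (hab : a ≠ b) {u : leechLattice} (hu : Std3 a b c (vec u))
    {o : Finset GolayPt} (ho : o ∈ octads) (hao : a ∈ o) (hbo : b ∈ o) :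
    ∃ y : leechLattice, sqNorm (vec y) = 32 ∧ dotInt (vec (pp a b)) (vec y) = 16 ∧
      dotInt (vec u) (vec y) = 24 ∧ vec y a = 2 ∧ ∀ i, vec y i ≠ 0 → i ∈ o := by
  set w : GolayPt → ℤ := fun i => if i ∈ (res 1 (vec u))ᶜ then -(if i ∈ o then (2 : ℤ) else 0)
    else (if i ∈ o then (2 : ℤ) else 0) with hw
  have hw0 : ∀ i ∉ o, w i = 0 := fun i hi => by simp [hw, hi]
  have hwa : w a = 2 := by simp [hw, mem_res, hu.2.1, hao]
  have hwb : w b = 2 := by simp [hw, mem_res, hu.2.2.1, hbo]
  have hwo : ∀ i ∈ o, w i ^ 2 = 4 ∧ (i ≠ b → vec u i * w i = 2) := fun i hi => by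
    refine ⟨by simp only [hw]; split_ifs <;> norm_num, fun hib => ?_⟩
    simp only [hw, Finset.mem_compl, mem_res]
    rcases hu.2.2.2.2 i hib with e | e <;> rw [e] <;> simp [hi]
  refine ⟨⟨w, signs_mem hu.1.2.1.compl (two_smul_code_mem (mem_octads.1 ho).1)⟩, ?_, ?_, ?_, hwa,
    fun i hi => by_contra fun h => hi (hw0 i h)⟩
  · show sqNorm w = 32
    rw [sqNorm, ← Finset.sum_subset (Finset.subset_univ o)
      (fun i _ hi => by rw [hw0 i hi]; norm_num),
      Finset.sum_congr rfl fun i hi => (hwo i hi).1, Finset.sum_const, (mem_octads.1 ho).2]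
    norm_num
  · show dotInt (vec (pp a b)) w = 16
    rw [dot_pp, hwa, hwb]; norm_num
  · show dotInt (vec u) w = 24
    rw [dotInt, ← Finset.sum_subset (Finset.subset_univ o)
      (fun i _ hi => by rw [hw0 i hi]; ring), ← Finset.add_sum_erase _ _ hbo, hwb, hu.2.2.1,
      Finset.sum_congr rfl fun i hi =>
        (hwo i (Finset.mem_of_mem_erase hi)).2 (Finset.ne_of_mem_erase hi),
      Finset.sum_const, Finset.card_erase_of_mem hbo, (mem_octads.1 ho).2]
    norm_num

/-- The member with `3` at `b` attached to an octad through `b` avoiding `a`. -/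
theorem exists_type_three (hab : a ≠ b) {u : leechLattice} (hun : sqNorm (vec u) = 48)
    (hu : Std3 a b c (vec u)) {o : Finset GolayPt} (ho : o ∈ octads) (hao : a ∉ o) (hbo : b ∈ o) :
    ∃ y : leechLattice, sqNorm (vec y) = 32 ∧ dotInt (vec (pp a b)) (vec y) = 16 ∧
      dotInt (vec u) (vec y) = 24 ∧ vec y a = 1 ∧
      ∀ i, i ≠ b → vec y i = if i ∈ o then -vec u i else vec u i := by
  set w := Leech.flip o (mem_octads.1 ho).1 • u with hw
  have hwk : ∀ i, vec w i = if i ∈ o then -vec u i else vec u i := fun i => by rw [hw, flip_smul]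
  have hwb : vec w b = -5 := by rw [hwk, if_pos hbo, hu.2.2.1]
  have hwa : vec w a = 1 := by rw [hwk, if_neg hao, hu.2.1]
  have hy : ∀ i, vec (w + eightE b) i = vec w i + if i = b then 8 else 0 := fun i => by
    show vec w i + vec (eightE b) i = _
    rw [eightE_apply]
  have huw : dotInt (vec u) (vec w) = -16 := by
    have e : ∀ i, vec u i * vec w i =
        vec u i ^ 2 - 2 * (if i ∈ o then vec u i ^ 2 else 0) := fun i => by
      rw [hwk]; split_ifs <;> ring
    simp only [dotInt, e, Finset.sum_sub_distrib, ← Finset.mul_sum, Finset.sum_ite_mem,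
      Finset.univ_inter]
    rw [show ∑ i ∈ o, vec u i ^ 2 = 32 by
      rw [← Finset.add_sum_erase _ _ hbo, hu.2.2.1,
        Finset.sum_congr rfl (g := fun _ => (1 : ℤ)) fun i hi => by
          rcases hu.2.2.2.2 i (Finset.ne_of_mem_erase hi) with e | e <;> rw [e] <;> norm_num,
        Finset.sum_const, Finset.card_erase_of_mem hbo, (mem_octads.1 ho).2]
      norm_num]
    show sqNorm (vec u) - _ = _
    rw [hun]; norm_num
  have hd8 : ∀ x : GolayPt → ℤ, dotInt x (vec (eightE b)) = 8 * x b := fun x => by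
    simp only [dotInt, eightE_apply, mul_ite, mul_zero, Finset.sum_ite_eq', Finset.mem_univ, if_true]
    ring
  refine ⟨w + eightE b, ?_, ?_, ?_, ?_, fun i hi => ?_⟩
  · show sqNorm (vec w + vec (eightE b)) = 32
    rw [sqNorm_add, hd8, sqNorm_eightE, hwb, hw, norm_smul', hun]; norm_num
  · rw [dot_pp, hy, hy, hwa, hwb, if_neg hab, if_pos rfl]; norm_num
  · show dotInt (vec u) (vec w + vec (eightE b)) = 24
    rw [dot_add_right, huw, hd8, hu.2.2.1]; norm_num
  · rw [hy, hwa, if_neg hab]; rfl
  · rw [hy, if_neg hi, add_zero, hwk]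

/-- The number of members with inner product `8` with the base point. -/
theorem card112 (hab : a ≠ b) (hca : c ≠ a) (hcb : c ≠ b) {u : leechLattice}
    (hun : sqNorm (vec u) = 48) (hu : Std3 a b c (vec u)) :
    ((shell 32).filter fun y => dotInt (vec (pp a b)) (vec y) = 16 ∧
      dotInt (vec u) (vec y) = 24 ∧ dotInt (vec (pn b c)) (vec y) = 8).card = 112 := by
  classical
  set E2 := (Golay.Steiner.through octads {a, b}).filter fun o => c ∉ o with hE2
  set E3 := (Golay.Steiner.through octads {b, c}).filter fun o => a ∉ o with hE3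
  have h2m : ∀ o, o ∈ E2 ↔ o ∈ octads ∧ a ∈ o ∧ b ∈ o ∧ c ∉ o := fun o => by
    simp [hE2, Golay.Steiner.through, Golay.Steiner.blocks, Finset.insert_subset_iff, and_assoc]
  have h3m : ∀ o, o ∈ E3 ↔ o ∈ octads ∧ b ∈ o ∧ c ∈ o ∧ a ∉ o := fun o => by
    simp [hE3, Golay.Steiner.through, Golay.Steiner.blocks, Finset.insert_subset_iff, and_assoc]
  have hdisj : Disjoint E2 E3 := by
    rw [Finset.disjoint_left]
    exact fun o h h' => ((h3m o).1 h').2.2.2 ((h2m o).1 h).2.1
  have hcard : (E2 ∪ E3).card = 112 := by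
    have key : ∀ p q r : GolayPt, p ≠ q → p ≠ r → q ≠ r →
        ((Golay.Steiner.through octads {p, q}).filter fun o => r ∉ o).card = 56 := by
      intro p q r hpq hpr hqr
      have h2 : ({p, q} : Finset GolayPt).card = 2 := Finset.card_pair hpq
      have h3 : ({p, q, r} : Finset GolayPt).card = 3 := by
        rw [Finset.card_insert_of_notMem (by simp [hpq, hpr]), Finset.card_pair hqr]
      have a2 := OctadSystem.card_through ({p, q} : Finset GolayPt) (by omega)
      have a3 := OctadSystem.card_through ({p, q, r} : Finset GolayPt) (by omega)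
      rw [h2] at a2
      rw [h3] at a3
      norm_num [Nat.choose] at a2 a3
      have e : (Golay.Steiner.through octads {p, q}).filter (fun o => r ∈ o) =
          Golay.Steiner.through octads {p, q, r} := by
        ext o
        simp [Golay.Steiner.through, Golay.Steiner.blocks, Finset.insert_subset_iff, and_assoc]
      have hs := Finset.card_filter_add_card_filter_not (s := Golay.Steiner.through octads {p, q})
        (fun o => r ∈ o)
      rw [e] at hs
      omega
    rw [Finset.card_union_of_disjoint hdisj, hE2, hE3, key a b c hab (Ne.symm hca) (Ne.symm hcb),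
      key b c a (Ne.symm hcb) (Ne.symm hab) hca]
  refine Eq.trans ?_ hcard
  refine Finset.card_bij
    (fun y _ => if vec y a = 2 then res 2 (vec y) else symmDiff (res 1 (vec u)) (res 1 (vec y)))
    ?_ ?_ ?_
  · intro y hy
    simp only [Finset.mem_filter, mem_shell, dot_pp, dot_x, Nat.cast_ofNat] at hy
    obtain ⟨hn, hv, hd, hx⟩ := hy
    rw [Finset.mem_union]
    rcases classify hab hu (show vec y ∈ leechLattice from y.2) hn (by omega) hd with
      ⟨h1, h2, k, hka, hkb, h3⟩ | ⟨h1, h2, o, ho, hao, hbo, h3⟩ | ⟨h1, h2, o, ho, hao, hbo, h3⟩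
    · exfalso
      rw [h2, h3 c hca hcb, hu.2.2.2.1] at hx
      split_ifs at hx <;> omega
    · left
      have hco : c ∉ o := fun h => by rw [h2, h3 c hca hcb, if_pos h, hu.2.2.2.1] at hx; omega
      have e : res 2 (vec y) = o := by
        ext i
        rw [mem_res]
        by_cases hia : i = a
        · subst hia; rw [h1]; simp [hao]
        by_cases hib : i = b
        · subst hib; rw [h2]; simp [hbo]
        rw [h3 i hia hib]
        split_ifs with h
        · rcases hu.2.2.2.2 i hib with q | q <;> rw [q] <;> simp [h]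
        · simp [h]
      rw [if_pos h1, e]
      exact (h2m o).2 ⟨ho, hao, hbo, hco⟩
    · right
      have hco : c ∈ o := by_contra fun h => by
        rw [h2, h3 c hca hcb, if_neg h, hu.2.2.2.1] at hx; omega
      have e : symmDiff (res 1 (vec u)) (res 1 (vec y)) = o := by
        ext i
        simp only [Finset.mem_symmDiff, mem_res]
        by_cases hia : i = a
        · subst hia; rw [h1, hu.2.1]; simp [hao]
        by_cases hib : i = b
        · subst hib; rw [h2, hu.2.2.1]; simp [hbo]
        rw [h3 i hia hib]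
        by_cases h : i ∈ o <;> rcases hu.2.2.2.2 i hib with q | q <;> rw [q] <;> simp [h]
      rw [if_neg (by omega), e]
      exact (h3m o).2 ⟨ho, hbo, hco, hao⟩
  · intro y hy y' hy' he
    simp only [Finset.mem_filter, mem_shell, dot_pp, dot_x, Nat.cast_ofNat] at hy hy'
    have key : ∀ z : leechLattice, sqNorm (vec z) = 32 → 4 * (vec z a + vec z b) = 16 →
        dotInt (vec u) (vec z) = 24 → 4 * (vec z b - vec z c) = 8 →
        (vec z a = 2 ∧ a ∈ res 2 (vec z) ∧ vec z b = 2 ∧
          ∀ i, i ≠ a → i ≠ b → vec z i = if i ∈ res 2 (vec z) then 2 * vec u i else 0) ∨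
        (vec z a = 1 ∧ a ∉ symmDiff (res 1 (vec u)) (res 1 (vec z)) ∧ vec z b = 3 ∧
          ∀ i, i ≠ a → i ≠ b → vec z i =
            if i ∈ symmDiff (res 1 (vec u)) (res 1 (vec z)) then -vec u i else vec u i) := by
      intro z hn hv hd hx
      rcases classify hab hu (show vec z ∈ leechLattice from z.2) hn (by omega) hd with
        ⟨h1, h2, k, hka, hkb, h3⟩ | ⟨h1, h2, o, ho, hao, hbo, h3⟩ | ⟨h1, h2, o, ho, hao, hbo, h3⟩
      · exfalso
        rw [h2, h3 c hca hcb, hu.2.2.2.1] at hx
        split_ifs at hx <;> omega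
      · refine Or.inl ⟨h1, mem_res.2 (by omega), h2, fun i hia hib => ?_⟩
        rw [h3 i hia hib]
        by_cases h : i ∈ o
        · have hm : i ∈ res 2 (vec z) := mem_res.2 (by
            rw [h3 i hia hib, if_pos h]; rcases hu.2.2.2.2 i hib with q | q <;> rw [q] <;> rfl)
          rw [if_pos h, if_pos hm]
        · have hm : i ∉ res 2 (vec z) := fun hm => by
            have := mem_res.1 hm; rw [h3 i hia hib, if_neg h] at this; omega
          rw [if_neg h, if_neg hm]
      · refine Or.inr ⟨h1, ?_, h2, fun i hia hib => ?_⟩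
        · simp only [Finset.mem_symmDiff, mem_res, h1, hu.2.1]; omega
        rw [h3 i hia hib]
        simp only [Finset.mem_symmDiff, mem_res]
        rw [h3 i hia hib]
        by_cases h : i ∈ o <;> rcases hu.2.2.2.2 i hib with q | q <;> rw [q] <;> simp [h]
    rcases key y hy.1 hy.2.1 hy.2.2.1 hy.2.2.2 with ⟨p1, pm, p2, p3⟩ | ⟨p1, pm, p2, p3⟩ <;>
      rcases key y' hy'.1 hy'.2.1 hy'.2.2.1 hy'.2.2.2 with ⟨q1, qm, q2, q3⟩ | ⟨q1, qm, q2, q3⟩
    · simp only [p1, q1, if_true] at he
      refine Subtype.ext (funext fun i => ?_)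
      show vec y i = vec y' i
      by_cases hia : i = a
      · subst hia; omega
      by_cases hib : i = b
      · subst hib; omega
      rw [p3 i hia hib, q3 i hia hib, he]
    · exfalso
      simp only [p1, q1, if_true, show ((1 : ℤ) = 2) = False by simp, if_false] at he
      exact qm (he ▸ pm)
    · exfalso
      simp only [p1, q1, if_true, show ((1 : ℤ) = 2) = False by simp, if_false] at he
      exact pm (he ▸ qm)
    · simp only [p1, q1, show ((1 : ℤ) = 2) = False by simp, if_false] at he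
      refine Subtype.ext (funext fun i => ?_)
      show vec y i = vec y' i
      by_cases hia : i = a
      · subst hia; omega
      by_cases hib : i = b
      · subst hib; omega
      rw [p3 i hia hib, q3 i hia hib, he]
  · intro o ho
    rcases Finset.mem_union.1 ho with h | h
    · obtain ⟨ho, hao, hbo, hco⟩ := (h2m o).1 h
      obtain ⟨y, y1, y2, y3, y4, y5⟩ := exists_type_two hab hu ho hao hbo
      have hyb : vec y b = 2 := by rw [dot_pp] at y2; omega
      have hyc : vec y c = 0 := by_contra fun h => hco (y5 c h)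
      refine ⟨y, ?_, ?_⟩
      · simp only [Finset.mem_filter, mem_shell, dot_x, hyb, hyc, y3, y2]
        exact ⟨y1, trivial, trivial, by norm_num⟩
      rw [if_pos y4]
      have he : EvenVec (vec y) :=
        (mem_leech_iff.1 (show vec y ∈ leechLattice from y.2)).resolve_right fun h => by
          have := h.1 a; omega
      obtain ⟨h8, htwo, -⟩ := even32_shape he y1 (mem_res.2 (by rw [y4]; rfl) : a ∈ res 2 (vec y))
      refine Finset.eq_of_subset_of_card_le (fun i hi => y5 i ?_) (by rw [h8, (mem_octads.1 ho).2])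
      rcases htwo i hi with e | e <;> omega
    · obtain ⟨ho, hbo, hco, hao⟩ := (h3m o).1 h
      obtain ⟨y, y1, y2, y3, y4, y5⟩ := exists_type_three hab hun hu ho hao hbo
      have hyb : vec y b = 3 := by rw [dot_pp] at y2; omega
      have hyc : vec y c = 1 := by rw [y5 c hcb, if_pos hco, hu.2.2.2.1]; rfl
      refine ⟨y, ?_, ?_⟩
      · simp only [Finset.mem_filter, mem_shell, dot_x, hyb, hyc, y3, y2]
        exact ⟨y1, trivial, trivial, by norm_num⟩
      rw [if_neg (by omega)]
      ext i
      simp only [Finset.mem_symmDiff, mem_res]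
      by_cases hib : i = b
      · subst hib; rw [hyb, hu.2.2.1]; simp [hbo]
      rw [y5 i hib]
      by_cases h : i ∈ o <;> rcases hu.2.2.2.2 i hib with q | q <;> rw [q] <;> simp [h]

/-- An octad through `a, b` is moved to another with the same relation to `c`. -/
theorem exists_move_three (hab : a ≠ b) (hca : c ≠ a) (hcb : c ≠ b) {o o' : Finset GolayPt}
    (ho : o ∈ octads) (ho' : o' ∈ octads) (ha : a ∈ o) (hb : b ∈ o) (ha' : a ∈ o') (hb' : b ∈ o')
    (hc : c ∈ o ↔ c ∈ o') :
    ∃ σ ∈ M24, σ a = a ∧ σ b = b ∧ σ c = c ∧ o.map σ.toEmbedding = o' := by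
  have key : ∀ s ∈ octads, a ∈ s → b ∈ s →
      ∃ e : Fin 5 ↪ GolayPt, e 0 = a ∧ e 1 = b ∧ (c ∈ s → e 2 = c) ∧ ∀ i, e i ∈ s := by
    intro s hs h1 h2
    have h6 : 4 ≤ ((s.erase a).erase b).card := by
      rw [Finset.card_erase_of_mem (Finset.mem_erase.2 ⟨Ne.symm hab, h2⟩),
        Finset.card_erase_of_mem h1, (mem_octads.1 hs).2]
      norm_num
    obtain ⟨p, hp, hpc⟩ : ∃ p ∈ (s.erase a).erase b, c ∈ s → p = c := by
      by_cases h : c ∈ s
      · exact ⟨c, Finset.mem_erase.2 ⟨hcb, Finset.mem_erase.2 ⟨hca, h⟩⟩, fun _ => rfl⟩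
      · obtain ⟨p, hp⟩ := Finset.card_pos.1 (show 0 < ((s.erase a).erase b).card by omega)
        exact ⟨p, hp, fun h' => absurd h' h⟩
    obtain ⟨q, hq, r, hr, hqr⟩ := Finset.one_lt_card.1
      (show 1 < (((s.erase a).erase b).erase p).card by rw [Finset.card_erase_of_mem hp]; omega)
    simp only [Finset.mem_erase] at hp hq hr
    obtain ⟨hqp, hqb, hqa, hqs⟩ := hq
    obtain ⟨hrp, hrb, hra, hrs⟩ := hr
    obtain ⟨hpb, hpa, hps⟩ := hp
    refine ⟨⟨![a, b, p, q, r], fun i j h => ?_⟩, rfl, rfl, hpc, fun i => ?_⟩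
    · fin_cases i <;> fin_cases j <;> simp_all
    · show ![a, b, p, q, r] i ∈ s
      fin_cases i <;> simp_all
  obtain ⟨e, e0, e1, e2, he⟩ := key o ho ha hb
  obtain ⟨e', e0', e1', e2', he'⟩ := key o' ho' ha' hb'
  obtain ⟨σ, hσ, h⟩ := Golay.exists_map_five e e'
  have hmap : o.map σ.toEmbedding = o' := by
    refine OctadSystem.eq_of_five (mem_octads.2 ⟨(mem_octads.1 ho).1.map hσ, ?_⟩) ho' ?_
    · rw [Finset.card_map]; exact (mem_octads.1 ho).2
    · refine le_trans (le_of_eq ?_) (Finset.card_le_card (s := Finset.univ.map e') ?_)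
      · simp
      · intro k hk
        obtain ⟨i, -, rfl⟩ := Finset.mem_map.1 hk
        refine Finset.mem_inter.2 ⟨?_, he' i⟩
        rw [← h i]
        exact Finset.mem_map_of_mem _ (he i)
  have sa : σ a = a := by rw [← e0, h, e0', e0]
  have sb : σ b = b := by rw [← e1, h, e1', e1]
  by_cases hco : c ∈ o
  · exact ⟨σ, hσ, sa, sb, by rw [← e2 hco, h, e2' (hc.1 hco), e2 hco], hmap⟩
  · have hco' : c ∉ o' := fun h' => hco (hc.2 h')
    have hout : σ c ∉ o' := by
      rw [← hmap]
      simpa using hco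
    obtain ⟨k, hk, hkc⟩ := OctadStab.exists_fix_move ho' hout hco'
    obtain ⟨hkM, hkf⟩ := Golay.mem_octadFix.1 hk
    refine ⟨k * σ, mul_mem hkM hσ, ?_, ?_, ?_, ?_⟩
    · rw [Equiv.Perm.mul_apply, sa, hkf a ha']
    · rw [Equiv.Perm.mul_apply, sb, hkf b hb']
    · rw [Equiv.Perm.mul_apply, hkc]
    · have hk' : k • o' = o' := MulAction.mem_stabilizer_iff.1 (OctadStab.fix_le hk).2
      rw [smul_eq_map] at hk'
      conv_rhs => rw [← hk', ← hmap, Finset.map_map]
      rfl

/-- A witness orthogonal to a member moves it onto an octad through `a` and `b`. -/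
theorem exists_move_witness (hab : a ≠ b) (hca : c ≠ a) (hcb : c ≠ b) {u : leechLattice}
    (hun : sqNorm (vec u) = 48) (hu : Std3 a b c (vec u)) {y : leechLattice}
    (hn : sqNorm (vec y) = 32) (hv : dotInt (vec (pp a b)) (vec y) = 16)
    (hd : dotInt (vec u) (vec y) = 24) (hne : y ≠ pn b c) :
    ∃ g : Co0, g • u = u ∧ g • pp a b = pp a b ∧ g • pn b c = pn b c ∧
      ∃ o ∈ octads, a ∈ o ∧ b ∈ o ∧ vec (g • y) a = 2 ∧ vec (g • y) b = 2 ∧
        ∀ i, i ≠ a → i ≠ b → vec (g • y) i = if i ∈ o then 2 * vec u i else 0 := by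
  have hv' := hv
  rw [dot_pp] at hv'
  obtain ⟨z, z1, z2, z3, z4, z5⟩ :=
    exists_witness_orth hab hca hcb hun hu hn (by omega) hd hne
  obtain ⟨g, g1, g2, g3, go, ga, gb, gc, gr⟩ := std_witness hab hca hcb (u := u) hun
    (by rw [dot_pp, hu.2.1, hu.2.2.1]; norm_num)
    (by rw [dot_pn, hu.2.2.1, hu.2.2.2.1]; norm_num) z1 z2 z3 z4
  have hs := go.2.1.symmDiff hu.1.2.1
  set S := symmDiff (res 1 (vec (g • u))) (res 1 (vec u)) with hS
  have h1 : a ∉ S := by simp only [hS, Finset.mem_symmDiff, mem_res, ga, hu.2.1]; omega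
  have h2 : b ∉ S := by simp only [hS, Finset.mem_symmDiff, mem_res, gb, hu.2.2.1]; omega
  have h3 : c ∉ S := by simp only [hS, Finset.mem_symmDiff, mem_res, gc, hu.2.2.2.1]; omega
  obtain ⟨f1, f2⟩ := flip_fix hs h1 h2 h3
  have hm_u : (Leech.flip S hs * g) • u = u := by
    rw [mul_smul]
    apply Subtype.ext
    funext k
    show vec (Leech.flip S hs • g • u) k = vec u k
    rw [flip_smul]
    simp only [hS, Finset.mem_symmDiff, mem_res]
    by_cases hk : k = b
    · subst hk; rw [gb, hu.2.2.1]; simp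
    · rcases gr k hk with e | e <;> rcases hu.2.2.2.2 k hk with e' | e' <;> rw [e, e'] <;> simp
  have hm_v : (Leech.flip S hs * g) • pp a b = pp a b := by rw [mul_smul, g1, f1]
  have hm_x : (Leech.flip S hs * g) • pn b c = pn b c := by rw [mul_smul, g2, f2]
  have hfn : Leech.flip S hs • pn a b = pn a b := by
    apply Subtype.ext
    funext k
    show vec (Leech.flip S hs • pn a b) k = vec (pn a b) k
    rw [flip_smul]
    split_ifs with h
    · have k1 : k ≠ a := fun e => h1 (e ▸ h)
      have k2 : k ≠ b := fun e => h2 (e ▸ h)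
      rw [LeechTriples.pn_apply, if_neg k1, if_neg k2]; rfl
    · rfl
  have hm_z : (Leech.flip S hs * g) • z = -pn a b := by rw [mul_smul, g3, smul_neg', hfn]
  generalize Leech.flip S hs * g = m at hm_u hm_v hm_x hm_z
  refine ⟨m, hm_u, hm_v, hm_x, ?_⟩
  have n1 : sqNorm (vec (m • y)) = 32 := by rw [norm_smul', hn]
  have n2 : dotInt (vec u) (vec (m • y)) = 24 := by
    conv_lhs => rw [← hm_u]
    rw [dot_smul, hd]
  have n3 : 4 * (vec (m • y) a + vec (m • y) b) = 16 := by
    rw [← dot_pp, ← hm_v, dot_smul, hv]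
  have n4 : dotInt (vec (pn a b)) (vec (m • y)) = 0 := by
    have e : dotInt (vec (-pn a b)) (vec (m • y)) = 0 := by rw [← hm_z, dot_smul, z5]
    simp only [vec, AddSubgroup.coe_neg] at e ⊢
    rw [dot_comm, dot_neg_right, dot_comm] at e
    omega
  rw [dot_pn] at n4
  rcases classify hab hu (show vec (m • y) ∈ leechLattice from (m • y).2) n1 (by omega) n2 with
    ⟨q1, q2, -⟩ | ⟨q1, q2, o, ho, hao, hbo, q3⟩ | ⟨q1, q2, -⟩
  · omega
  · exact ⟨o, ho, hao, hbo, q1, q2, q3⟩
  · omega

/-- Members with the same inner product with the base point are conjugate. -/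
theorem move_member (hab : a ≠ b) (hca : c ≠ a) (hcb : c ≠ b) {u : leechLattice}
    (hun : sqNorm (vec u) = 48) (hu : Std3 a b c (vec u)) {y y' : leechLattice}
    (hn : sqNorm (vec y) = 32) (hv : dotInt (vec (pp a b)) (vec y) = 16)
    (hd : dotInt (vec u) (vec y) = 24) (hne : y ≠ pn b c)
    (hn' : sqNorm (vec y') = 32) (hv' : dotInt (vec (pp a b)) (vec y') = 16)
    (hd' : dotInt (vec u) (vec y') = 24) (hne' : y' ≠ pn b c)
    (he : dotInt (vec (pn b c)) (vec y) = dotInt (vec (pn b c)) (vec y')) :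
    ∃ g : Co0, g • u = u ∧ g • pp a b = pp a b ∧ g • pn b c = pn b c ∧ g • y = y' := by
  obtain ⟨g, g1, g2, g3, o, ho, hao, hbo, ya, yb, yk⟩ :=
    exists_move_witness hab hca hcb hun hu hn hv hd hne
  obtain ⟨g', g1', g2', g3', o', ho', hao', hbo', ya', yb', yk'⟩ :=
    exists_move_witness hab hca hcb hun hu hn' hv' hd' hne'
  have hc : c ∈ o ↔ c ∈ o' := by
    have e1 : dotInt (vec (pn b c)) (vec (g • y)) = dotInt (vec (pn b c)) (vec (g' • y')) := by
      conv_lhs => rw [← g3]
      conv_rhs => rw [← g3']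
      rw [dot_smul, dot_smul, he]
    rw [dot_pn, dot_pn, yb, yb', yk c hca hcb, yk' c hca hcb, hu.2.2.2.1] at e1
    by_cases h : c ∈ o <;> by_cases h' : c ∈ o' <;> simp [h, h'] at e1 ⊢
  obtain ⟨σ, hσ, s1, s2, s3, hmap⟩ := exists_move_three hab hca hcb ho ho' hao hbo hao' hbo' hc
  have q1 : ∀ {p : GolayPt}, σ p = p → σ.symm p = p := fun h => (Equiv.symm_apply_eq σ).2 h.symm
  have hw : ∀ k, vec (monomial σ hσ ∅ isCode_empty • u) k = vec u (σ.symm k) := fun k => by
    rw [monomial_smul]; simp [signedPerm]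
  have hwc : IsCode (res 1 (vec (monomial σ hσ ∅ isCode_empty • u))) := by
    rcases mem_leech_iff.1 (monomial σ hσ ∅ isCode_empty • u).2 with h | h
    · exfalso
      have h1 : vec (monomial σ hσ ∅ isCode_empty • u) a % 2 = 0 := h.1 a
      rw [hw, q1 s1, hu.2.1] at h1
      omega
    · exact h.2.1
  set s := symmDiff (res 1 (vec (monomial σ hσ ∅ isCode_empty • u))) (res 1 (vec u)) with hs
  have t1 : a ∉ s := by simp only [hs, Finset.mem_symmDiff, mem_res, hw, q1 s1]; omega
  have t2 : b ∉ s := by simp only [hs, Finset.mem_symmDiff, mem_res, hw, q1 s2]; omega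
  have t3 : c ∉ s := by simp only [hs, Finset.mem_symmDiff, mem_res, hw, q1 s3]; omega
  have hsc : IsCode s := hwc.symmDiff hu.1.2.1
  set m := monomial σ hσ s hsc with hm
  have hmu : ∀ k, vec (m • u) k = vec u k := fun k => by
    rw [hm, monomial_smul]
    simp only [signedPerm, hs, Finset.mem_symmDiff, mem_res, hw]
    by_cases hk : k = b
    · subst hk; rw [q1 s2, hu.2.2.1]; simp
    · have hk' : σ.symm k ≠ b := fun e => hk (by rw [← s2, ← e, Equiv.apply_symm_apply])
      rcases hu.2.2.2.2 _ hk' with e | e <;> rcases hu.2.2.2.2 k hk with e' | e' <;>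
        rw [e, e'] <;> simp
  have hmx : m • pn b c = pn b c := by
    apply Subtype.ext
    funext k
    show signedPerm σ s (vec (pn b c)) k = vec (pn b c) k
    have e1 : σ.symm k = b ↔ k = b := by rw [Equiv.symm_apply_eq, s2]
    have e2 : σ.symm k = c ↔ k = c := by rw [Equiv.symm_apply_eq, s3]
    simp only [signedPerm, LeechTriples.pn_apply, e1, e2]
    by_cases hk : k ∈ s
    · have k1 : k ≠ b := fun e => t2 (e ▸ hk)
      have k2 : k ≠ c := fun e => t3 (e ▸ hk)
      simp [hk, k1, k2]
    · simp [hk]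
  have hmy : m • g • y = g' • y' := by
    apply Subtype.ext
    funext k
    show vec (m • g • y) k = vec (g' • y') k
    have hk1 := hmu k
    rw [hm, monomial_smul] at hk1 ⊢
    by_cases hka : k = a
    · subst hka; simp only [signedPerm, if_neg t1, q1 s1]; rw [ya, ya']
    by_cases hkb : k = b
    · subst hkb; simp only [signedPerm, if_neg t2, q1 s2]; rw [yb, yb']
    have n1 : σ.symm k ≠ a := fun e => hka (by rw [← s1, ← e, Equiv.apply_symm_apply])
    have n2 : σ.symm k ≠ b := fun e => hkb (by rw [← s2, ← e, Equiv.apply_symm_apply])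
    have hmem : k ∈ o' ↔ σ.symm k ∈ o := by rw [← hmap, Finset.mem_map_equiv]
    simp only [signedPerm] at hk1 ⊢
    rw [yk' k hka hkb, yk _ n1 n2]
    by_cases hko : σ.symm k ∈ o
    · rw [if_pos hko, if_pos (hmem.2 hko), ← hk1]
      split_ifs <;> ring
    · rw [if_neg hko, if_neg (fun h => hko (hmem.1 h))]
      simp
  refine ⟨g'⁻¹ * m * g, ?_, ?_, ?_, ?_⟩ <;> rw [mul_smul, mul_smul, inv_smul_eq_iff]
  · rw [g1, g1']; exact Subtype.ext (funext hmu)
  · rw [g2, g2', hm]; exact monomial_pp hσ hsc s1 s2 t1 t2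
  · rw [g3, g3', hmx]
  · exact hmy

end Cfsg.Agent.Lib.SporStruct.LeechMcL
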