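import Cfsg.Agent.S1606

/-!
# Counting conjugates of a subgroup of prime order with known normaliser
-/

set_option autoImplicit false

namespace Cfsg.Agent.Lib.SporStruct.SylowCount

open Cfsg.Agent.S1606 (normalizer_le)

/-- The number of conjugates of the subgroup of order `q` forces the whole normaliser into `H`. -/
theorem count {G : Type*} [Group G] [Finite G] {x w : G} {q r m n : ℕ} [Fact q.Prime]
    (hc : ∀ u, u * x = x * u → u ∈ Subgroup.zpowers x) (hw : w * x * w⁻¹ = x ^ m)
    (hx : orderOf x = q) (hex : ∀ u : G, ∀ k < q, u * x * u⁻¹ = x ^ k →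
      ∃ i < r, k = m ^ i % q) (hinj : ∀ i < r, ∀ j < r, m ^ i % q = m ^ j % q → i = j) {H : Subgroup G} (hH : Nat.card H = n) (hn : ¬ q * q ∣ n)
    (hxH : x ∈ H) :
    ∃ d, d ∣ r ∧ d * q ∣ n ∧ n / (d * q) % q = 1 ∧
      ∀ u ∈ H, u ∈ Subgroup.normalizer (Subgroup.zpowers x : Set G) → orderOf u ∣ d * q := by
  classical
  have hq : 0 < q := (Fact.out : q.Prime).pos
  set N := Subgroup.normalizer (Subgroup.zpowers x : Set G) with hN
  let x' : H := ⟨x, hxH⟩
  have hx' : orderOf x' = q := by rw [← hx]; exact (Subgroup.orderOf_coe x').symm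
  have hdvd : q ∣ n := by rw [← hH, ← hx']; exact orderOf_dvd_natCard _
  have hn0 : n ≠ 0 := by rw [← hH]; exact Nat.card_pos.ne'
  have hf : n.factorization q = 1 := by
    refine le_antisymm ?_ ((Fact.out : q.Prime).factorization_pos_of_dvd hn0 hdvd)
    by_contra hgt
    apply hn
    rw [← sq]
    exact dvd_trans (pow_dvd_pow q (by omega)) (Nat.ordProj_dvd n q)
  let S : Sylow q H := Sylow.ofCard (Subgroup.zpowers x') (by
    rw [Nat.card_zpowers, hx', hH, hf, pow_one])
  have hnorm : Subgroup.normalizer ((S : Subgroup H) : Set H) = N.subgroupOf H := by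
    have hz : ∀ y : H, y ∈ (S : Subgroup H) ↔ (y : G) ∈ Subgroup.zpowers x := fun y => by
      show y ∈ Subgroup.zpowers x' ↔ _
      simp only [Subgroup.mem_zpowers_iff, Subtype.ext_iff, SubgroupClass.coe_zpow, x']
    ext u
    rw [Subgroup.mem_subgroupOf, hN, Subgroup.mem_normalizer_iff, Subgroup.mem_normalizer_iff]
    constructor
    · intro h g
      constructor
      · intro hg
        exact (hz _).1 ((h ⟨g, (Subgroup.zpowers_le.2 hxH) hg⟩).1 ((hz _).2 hg))
      · intro hg
        have hgH : g ∈ H := by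
          have := mul_mem (mul_mem (inv_mem u.2) ((Subgroup.zpowers_le.2 hxH) hg)) u.2
          simpa [mul_assoc] using this
        exact (hz ⟨g, hgH⟩).1 ((h ⟨g, hgH⟩).2 ((hz _).2 hg))
    · intro h y
      rw [hz, hz]
      exact h (y : G)
  have hS1 : Nat.card (Sylow q H) = (N.subgroupOf H).index :=
    (Sylow.card_eq_index_normalizer S).trans (congrArg Subgroup.index hnorm)
  have hS2 : Nat.card (Sylow q H) % q = 1 := by
    have := card_sylow_modEq_one q H
    rwa [Nat.ModEq, Nat.mod_eq_of_lt (Fact.out : q.Prime).one_lt] at this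
  set c := Nat.card (N.subgroupOf H) with hcdef
  have hc1 : c * (N.subgroupOf H).index = n := by rw [hcdef, Subgroup.card_mul_index, hH]
  have hqc : q ∣ c := by
    have hxN : x' ∈ N.subgroupOf H := by
      rw [Subgroup.mem_subgroupOf]
      exact Subgroup.le_normalizer (Subgroup.mem_zpowers x)
    rw [hcdef, ← hx', show orderOf x' = orderOf (⟨x', hxN⟩ : N.subgroupOf H) from
      (Subgroup.orderOf_coe (⟨x', hxN⟩ : N.subgroupOf H))]
    exact orderOf_dvd_natCard _
  let f : Fin r × Fin q → G := fun p => w ^ (p.1 : ℕ) * x ^ (p.2 : ℕ)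
  have hsub : (N : Set G) ⊆ Set.range f := fun u hu => by
    obtain ⟨i, hi, j, hj, e⟩ := normalizer_le hc hw hx hq hex hu
    exact ⟨(⟨i, hi⟩, ⟨j, hj⟩), e.symm⟩
  have hNle : Nat.card N ≤ r * q := by
    refine le_trans (Nat.card_mono (Set.finite_range f) hsub) ?_
    refine le_trans (Finite.card_range_le f) ?_
    simp
  let K := (N.subgroupOf H).map H.subtype
  have hKN : K ≤ N := by rintro _ ⟨y, hy, rfl⟩; exact hy
  have hKc : Nat.card K = c := Subgroup.card_map_of_injective H.subtype_injective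
  have hle : c ≤ r * q := by
    rw [← hKc]; exact (Subgroup.card_le_of_le hKN).trans hNle
  obtain ⟨d, hd⟩ := hqc
  have hc' : d * q = c := by rw [hd]; ring
  have hmap : (Subgroup.zpowers x).map (MulAut.conj w).toMonoidHom = Subgroup.zpowers x := by
    refine Subgroup.eq_of_le_of_card_ge ?_ ?_
    · rw [MonoidHom.map_zpowers]
      refine Subgroup.zpowers_le.2 ⟨m, ?_⟩
      simp [MulAut.conj_apply, hw]
    · rw [Subgroup.card_map_of_injective (MulAut.conj w).injective]
  have hwN : w ∈ N := by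
    refine Subgroup.mem_normalizer_iff.2 fun z => ?_
    conv_rhs => rw [← hmap, Subgroup.mem_map_equiv]
    simp [MulAut.conj_symm_apply, mul_assoc]
  have hwi : ∀ k : ℕ, w ^ k * x * (w ^ k)⁻¹ = x ^ (m ^ k) := by
    intro k
    induction k with
    | zero => simp
    | succ k ih =>
      rw [pow_succ', show w * w ^ k * x * (w * w ^ k)⁻¹ = w * (w ^ k * x * (w ^ k)⁻¹) * w⁻¹ by group,
        ih, ← conj_pow, hw, ← pow_mul, pow_succ' m]
  have hfx : ∀ p : Fin r × Fin q, f p * x * (f p)⁻¹ = x ^ (m ^ (p.1 : ℕ)) := by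
    intro p
    rw [← hwi, show f p * x * (f p)⁻¹ =
      w ^ (p.1 : ℕ) * (x ^ (p.2 : ℕ) * x * (x ^ (p.2 : ℕ))⁻¹) * (w ^ (p.1 : ℕ))⁻¹ by
        simp only [f]; group]
    rw [(Commute.pow_self x _).eq, mul_inv_cancel_right]
  have hfinj : Function.Injective f := by
    rintro ⟨i, j⟩ ⟨i', j'⟩ e
    have h1 := hfx ⟨i, j⟩
    rw [e, hfx ⟨i', j'⟩, pow_eq_pow_iff_modEq, hx] at h1
    obtain rfl : i = i' := Fin.ext (hinj i i.2 i' i'.2 h1.symm)
    have h2 : x ^ (j : ℕ) = x ^ (j' : ℕ) := mul_left_cancel e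
    rw [pow_eq_pow_iff_modEq, hx, Nat.ModEq, Nat.mod_eq_of_lt j.2, Nat.mod_eq_of_lt j'.2] at h2
    exact Prod.ext rfl (Fin.ext h2)
  have hNc : Nat.card N = r * q := by
    refine le_antisymm hNle ?_
    have := Nat.card_le_card_of_injective (fun p => (⟨f p, mul_mem (pow_mem hwN _)
      (pow_mem (Subgroup.le_normalizer (Subgroup.mem_zpowers x)) _)⟩ : N))
      (fun p p' e => hfinj (congrArg Subtype.val e))
    simpa using this
  refine ⟨d, Nat.dvd_of_mul_dvd_mul_right hq ?_, hc' ▸ ⟨_, hc1.symm⟩, ?_, fun u huH huN => ?_⟩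
  · rw [hc', ← hKc, ← hNc]; exact Subgroup.card_dvd_of_le hKN
  · rw [hc', ← hc1, Nat.mul_div_cancel_left _ Nat.card_pos, ← hS1, hS2]
  · rw [hc', ← hKc]
    exact Subgroup.orderOf_dvd_natCard K ⟨⟨u, huH⟩, huN, rfl⟩

/-- A subgroup maximal in an ambient subgroup, seen inside a group with an injective map onto it. -/
theorem coatom {G P : Type*} [Group G] [Group P] {f : G →* P} (hf : Function.Injective f)
    {A R : Subgroup P} (hR : f.range = R) (hA : A ≤ R) (hne : A ≠ R)
    (hmax : ∀ K : Subgroup P, A ≤ K → K ≤ R → K = A ∨ K = R) : IsCoatom (A.comap f) := by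
  have hback : (A.comap f).map f = A := by
    rw [Subgroup.map_comap_eq, inf_eq_right, hR]; exact hA
  refine ⟨fun h => hne ?_, fun b hb => ?_⟩
  · rw [← hback, h, ← MonoidHom.range_eq_map, hR]
  · rcases hmax (b.map f) (hback.symm.le.trans (Subgroup.map_mono hb.le))
      (hR ▸ Subgroup.map_le_range f b) with h | h
    · exact absurd (Subgroup.map_injective hf (h.trans hback.symm)) hb.ne'
    · refine Subgroup.map_injective hf ?_
      rw [h, ← MonoidHom.range_eq_map, hR]

end Cfsg.Agent.Lib.SporStruct.SylowCount
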