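import Cfsg.Agent.Lib.SporStruct.PermCodes
import Cfsg.Agent.Lib.SporStruct.OrbitTree

/-! Families of sets of points coded as sorted lists of masks packed in one number. -/

set_option autoImplicit false

namespace Cfsg.Agent.Lib.SporStruct.FamilyCode

open Cfsg Cfsg.Agent.Lib Cfsg.Agent.Lib.Golay Masks PermCodes
open scoped Pointwise

/-- Packing of a list of masks, last element in the lowest digits. -/
def pack : List ℕ → ℕ
  | [] => 0
  | a :: l => a * 16777216 ^ l.length + pack l

/-- The `k` digits of a packed number, lowest first. -/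
def unpack : ℕ → ℕ → List ℕ
  | 0, _ => []
  | k + 1, x => x % 16777216 :: unpack k (x / 16777216)

theorem pack_append : ∀ (l : List ℕ) (a : ℕ), pack (l ++ [a]) = pack l * 16777216 + a
  | [], a => by simp [pack]
  | b :: l, a => by
    rw [List.cons_append, pack, pack, pack_append l a, List.length_append, List.length_singleton,
      pow_succ]
    ring

theorem unpack_pack : ∀ {l : List ℕ}, (∀ a ∈ l, a < 16777216) →
    unpack l.length (pack l) = l.reverse := by
  intro l
  induction l using List.reverseRecOn with
  | nil => intro _; rfl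
  | append_singleton l a ih =>
    intro h
    have ha : a < 16777216 := h a (by simp)
    rw [pack_append, List.length_append, List.length_singleton, unpack, List.reverse_append,
      List.reverse_singleton, List.singleton_append, Nat.mul_comm, Nat.mul_add_mod,
      Nat.mod_eq_of_lt ha, Nat.mul_add_div (by norm_num), Nat.div_eq_of_lt ha, Nat.add_zero,
      ih fun b hb => h b (by simp [hb])]

/-- Increasing arrangement of a list of numbers. -/
def sortL (l : List ℕ) : List ℕ := l.insertionSort (· ≤ ·)

theorem sortL_eq {l m : List ℕ} (hp : l.Perm m) (hm : m.Pairwise (· ≤ ·)) : sortL l = m :=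
  List.Perm.eq_of_pairwise (le := (· ≤ ·)) (fun _ _ _ _ h h' => le_antisymm h h')
    (List.pairwise_insertionSort _ l) hm ((List.perm_insertionSort _ l).trans hp)

/-- The code of a family of sets. -/
noncomputable def code (S : Finset (Finset GolayPt)) : ℕ :=
  pack ((S.image maskOfSet).sort (· ≤ ·))

/-- The action on codes of families of `k` sets. -/
def act (k c x : ℕ) : ℕ := pack (sortFast (imgList c (unpack k x)))
where
  /-- Insertion into an increasing list. -/
  ins (a : ℕ) : List ℕ → List ℕ
    | [] => [a]
    | b :: l => bif Nat.ble a b then a :: b :: l else b :: ins a l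
  /-- Sorting by insertion. -/
  sortFast : List ℕ → List ℕ
    | [] => []
    | a :: l => Computation.forceNat a fun a => ins a (sortFast l)
  /-- The images of a list of masks, evaluated. -/
  imgList (c : ℕ) : List ℕ → List ℕ
    | [] => []
    | a :: l => Computation.forceNat (imgMask c a) fun b => b :: imgList c l

theorem ins_eq (a : ℕ) : ∀ l, act.ins a l = List.orderedInsert (· ≤ ·) a l
  | [] => rfl
  | b :: l => by
    rw [act.ins, List.orderedInsert_cons, ins_eq a l]
    cases h : Nat.ble a b with
    | true => rw [if_pos (Nat.le_of_ble_eq_true h), cond_true]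
    | false => rw [if_neg (fun h' => by rw [Nat.ble_eq_true_of_le h'] at h; exact Bool.noConfusion h), cond_false]

theorem sortFast_eq : ∀ l, act.sortFast l = sortL l
  | [] => rfl
  | a :: l => by
    rw [act.sortFast, Computation.forceNat_eq, ins_eq, sortFast_eq l]
    rfl

theorem imgList_eq (c : ℕ) : ∀ l, act.imgList c l = l.map (imgMask c)
  | [] => rfl
  | a :: l => by rw [act.imgList, Computation.forceNat_eq, imgList_eq c l, List.map_cons]

theorem sort_lt (S : Finset (Finset GolayPt)) :
    ∀ a ∈ (S.image maskOfSet).sort (· ≤ ·), a < 16777216 := by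
  intro a ha
  rw [Finset.mem_sort, Finset.mem_image] at ha
  obtain ⟨t, -, rfl⟩ := ha
  exact maskOfSet_lt t

theorem length_sort (S : Finset (Finset GolayPt)) :
    ((S.image maskOfSet).sort (· ≤ ·)).length = S.card := by
  rw [Finset.length_sort, Finset.card_image_of_injective _ maskOfSet_injective]

theorem unpack_code (S : Finset (Finset GolayPt)) {k : ℕ} (hk : S.card = k) :
    unpack k (code S) = ((S.image maskOfSet).sort (· ≤ ·)).reverse := by
  rw [code, ← hk, ← length_sort S, unpack_pack (sort_lt S)]

theorem code_injOn (k : ℕ) : Set.InjOn code {S | S.card = k} := by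
  intro S hS T hT h
  have h2 := unpack_code S hS
  rw [h, unpack_code T hT, List.reverse_inj] at h2
  have h3 : T.image maskOfSet = S.image maskOfSet := by
    rw [← Finset.sort_toFinset (T.image maskOfSet) (· ≤ ·), h2, Finset.sort_toFinset]
  exact (Finset.image_injective maskOfSet_injective h3).symm

theorem perm_unpack (S : Finset (Finset GolayPt)) {k : ℕ} (hk : S.card = k) :
    (unpack k (code S)).Perm (S.toList.map maskOfSet) := by
  rw [unpack_code S hk]
  refine (List.reverse_perm _).trans ?_
  refine (List.perm_ext_iff_of_nodup (Finset.sort_nodup _ _)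
    (S.nodup_toList.map maskOfSet_injective)).2 fun a => ?_
  simp

theorem code_smul {c : ℕ} (hc : okCode c = true) (S : Finset (Finset GolayPt)) {k : ℕ}
    (hk : S.card = k) : code (perm c • S) = act k c (code S) := by
  rw [act, sortFast_eq, imgList_eq, code]
  congr 1
  refine (sortL_eq ?_ (Finset.pairwise_sort _ _)).symm
  have e := (perm_unpack S hk).map (imgMask c)
  rw [List.map_map] at e
  refine e.trans ((List.perm_ext_iff_of_nodup ?_ (Finset.sort_nodup _ _)).2 ?_)
  · refine (S.nodup_toList).map ?_
    intro a b hab
    simp only [Function.comp_apply, ← maskOfSet_smul hc] at hab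
    exact MulAction.injective _ (maskOfSet_injective hab)
  · intro a
    simp only [List.mem_map, Finset.mem_toList, Finset.mem_sort, Finset.mem_image,
      Finset.mem_smul_finset, Function.comp_apply]
    constructor
    · rintro ⟨t, ht, rfl⟩; exact ⟨perm c • t, ⟨t, ht, rfl⟩, maskOfSet_smul hc t⟩
    · rintro ⟨_, ⟨t, ht, rfl⟩, rfl⟩; exact ⟨t, ht, (maskOfSet_smul hc t).symm⟩

/-- Test for a well-formed code of a family of `k` sets. -/
def wellFormed (k x : ℕ) : Bool :=
  let l := (unpack k x).reverse
  OrbitTree.incList l && l.all (fun a => Nat.blt a 16777216) && Nat.beq (pack l) x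

/-- The family of a code. -/
def family (k x : ℕ) : Finset (Finset GolayPt) := ((unpack k x).map setOfMask).toFinset

theorem incList_pairwise : ∀ {l : List ℕ}, OrbitTree.incList l = true → l.Pairwise (· ≤ ·)
  | [], _ => List.Pairwise.nil
  | _ :: _, h => (OrbitTree.incFrom_pairwise h).imp fun hab => le_of_lt hab

theorem length_unpack : ∀ k x : ℕ, (unpack k x).length = k
  | 0, _ => rfl
  | k + 1, x => by rw [unpack, List.length_cons, length_unpack k]

theorem family_spec {k x : ℕ} (h : wellFormed k x = true) :
    (family k x).card = k ∧ code (family k x) = x ∧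
      ∀ t ∈ family k x, maskOfSet t ∈ unpack k x := by
  simp only [wellFormed, Bool.and_eq_true, List.all_eq_true, Nat.blt_eq, Nat.beq_eq,
    List.mem_reverse] at h
  obtain ⟨⟨hinc, hlt⟩, hp⟩ := h
  have hnd : (unpack k x).Nodup := List.nodup_reverse.1 (OrbitTree.incList_nodup hinc)
  have hinj : ∀ a ∈ unpack k x, ∀ b ∈ unpack k x, setOfMask a = setOfMask b → a = b :=
    fun a ha b hb he => setOfMask_injOn (hlt a ha) (hlt b hb) he
  have hmem : ∀ t ∈ family k x, maskOfSet t ∈ unpack k x := by
    intro t ht
    simp only [family, List.mem_toFinset, List.mem_map] at ht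
    obtain ⟨a, ha, rfl⟩ := ht
    rwa [maskOfSet_setOfMask (hlt a ha)]
  refine ⟨?_, ?_, hmem⟩
  · rw [family, List.toFinset_card_of_nodup (hnd.map_on hinj), List.length_map, length_unpack]
  · conv_rhs => rw [← hp]
    rw [code]
    congr 1
    refine List.Perm.eq_of_pairwise (le := (· ≤ ·)) (fun _ _ _ _ h h' => le_antisymm h h')
      (Finset.pairwise_sort _ _) (incList_pairwise hinc) ?_
    refine (List.perm_ext_iff_of_nodup (Finset.sort_nodup _ _) (List.nodup_reverse.2 hnd)).2 fun a => ?_
    rw [Finset.mem_sort, Finset.mem_image, List.mem_reverse]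
    constructor
    · rintro ⟨t, ht, rfl⟩; exact hmem t ht
    · intro ha
      exact ⟨setOfMask a, by simp only [family, List.mem_toFinset, List.mem_map]; exact ⟨a, ha, rfl⟩,
        maskOfSet_setOfMask (hlt a ha)⟩

/-- The invariant of two families. -/
def kappa (S T : Finset (Finset GolayPt)) : ℕ := ∑ t ∈ S, ∑ u ∈ T, (t ∩ u).card ^ 3

/-- The invariant computed from the masks of the first family and the code of the second. -/
def kappaCode (k : ℕ) (L : List ℕ) (x : ℕ) : ℕ :=
  (L.map fun a => ((unpack k x).map fun b => pc24 (a &&& b) ^ 3).sum).sum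

theorem kappa_eq (S T : Finset (Finset GolayPt)) {k : ℕ} (hk : T.card = k) {L : List ℕ}
    (hL : L.Perm (S.toList.map maskOfSet)) : kappa S T = kappaCode k L (code T) := by
  rw [kappaCode, (hL.map _).sum_eq, List.map_map, kappa, ← Finset.sum_map_toList]
  congr 1
  refine List.map_congr_left fun t _ => ?_
  rw [Function.comp_apply, ((perm_unpack T hk).map _).sum_eq, List.map_map, ← Finset.sum_map_toList]
  congr 1
  refine List.map_congr_left fun u _ => ?_
  rw [Function.comp_apply, card_inter_eq]

theorem kappa_smul {G : Type*} [Group G] [MulAction G GolayPt] (g : G)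
    (S T : Finset (Finset GolayPt)) : kappa (g • S) (g • T) = kappa S T := by
  have h : ∀ (R : Finset (Finset GolayPt)) (f : Finset GolayPt → ℕ),
      ∑ t ∈ g • R, f t = ∑ t ∈ R, f (g • t) := by
    intro R f
    rw [Finset.smul_finset_def, Finset.sum_image fun a _ b _ hab => MulAction.injective g hab]
  unfold kappa
  rw [h]
  refine Finset.sum_congr rfl fun t _ => ?_
  rw [h]
  refine Finset.sum_congr rfl fun u _ => ?_
  rw [← Finset.smul_finset_inter, Finset.card_smul_finset]

end Cfsg.Agent.Lib.SporStruct.FamilyCode
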