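import Cfsg.Agent.Lib.SporStruct.LeechMcLRank

/-!
The suborbits of the third Conway group on the vectors with inner product 16 with a vector of
norm 48. Each suborbit is counted against the hundred points of the Higman–Sims configuration,
so only permutations fixing two points are needed.
-/

set_option autoImplicit false

namespace Cfsg.Agent.Lib.SporStruct.LeechCo3

open Cfsg Finset GolayUnique Leech LeechPairs LeechCounts LeechMcLRank
open scoped Pointwise

/-- The standard vector of norm 48. -/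
def u0 : leechLattice := fiveBase a0

/-- The standard point. -/
def t0 : leechLattice := pn a0 b0

/-- The standard member of the hundred. -/
def x0 : leechLattice := pp a0 b0

theorem dot_u0 (y : GolayPt → ℤ) : dotInt (vec u0) y = ∑ i, y i + 4 * y a0 := dot_fiveBase _ _

theorem dot_t0 (y : GolayPt → ℤ) : dotInt (vec t0) y = 4 * (y a0 - y b0) := dot_pn _

theorem dot_x0 (y : GolayPt → ℤ) : dotInt (vec x0) y = 4 * (y a0 + y b0) := dot_pp _

theorem norm_t0 : sqNorm (vec t0) = 32 := norm_pn hab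

theorem dot_t0_u0 : dotInt (vec t0) (vec u0) = 16 := by
  rw [dot_t0, u0, fiveBase_apply, fiveBase_apply]; simp

/-- The stabiliser of the two standard vectors. -/
def Stab0 : Subgroup Co0 := MulAction.stabilizer Co0 u0 ⊓ MulAction.stabilizer Co0 t0

theorem mem_stab0 {g : Co0} : g ∈ Stab0 ↔ g • u0 = u0 ∧ g • t0 = t0 := Iff.rfl

theorem perm_mem0 {σ : Equiv.Perm GolayPt} (hσ : σ ∈ M24) (h1 : σ a0 = a0) (h2 : σ b0 = b0) :
    perm σ hσ ∈ Stab0 := by
  refine mem_stab0.2 ⟨?_, LeechHS.monomial_pn hσ _ h1 h2 (by simp) (by simp)⟩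
  refine Subtype.ext (funext fun i => ?_)
  show vec (perm σ hσ • u0) i = vec u0 i
  have e : σ.symm i = a0 ↔ i = a0 := by rw [Equiv.symm_apply_eq, h1]
  rw [perm_smul, u0, fiveBase_apply, fiveBase_apply]
  simp only [e]

/-! ### Twice an octad with some signs changed -/

/-- Twice an indicator with some signs changed. -/
def mk (o N : Finset GolayPt) (i : GolayPt) : ℤ :=
  (if i ∈ o then 2 else 0) - (if i ∈ N then 4 else 0)

theorem mk_mem {o N : Finset GolayPt} (ho : IsCode o) (hN : N.card = 0 ∨ N.card = 2) :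
    mk o N ∈ leechLattice := by
  rcases hN with h | h
  · rw [Finset.card_eq_zero] at h
    subst h
    convert (v0 o ho).2 using 1
    funext i
    simp [mk, v0]
  · obtain ⟨p, q, hpq, rfl⟩ := Finset.card_eq_two.1 h
    convert (v0 o ho - pp p q).2 using 1
    funext i
    by_cases hp : i = p
    · subst hp; simp [mk, v0, pp, hpq]
    by_cases hq : i = q
    · subst hq; simp [mk, v0, pp, hp]
    simp [mk, v0, pp, hp, hq]

open scoped Classical in
/-- The lattice vector with these coordinates. -/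
noncomputable def elt (o N : Finset GolayPt) : leechLattice :=
  if h : mk o N ∈ leechLattice then ⟨mk o N, h⟩ else 0

theorem elt_apply {o N : Finset GolayPt} (ho : IsCode o) (hN : N.card = 0 ∨ N.card = 2) :
    vec (elt o N) = mk o N := by
  rw [elt, dif_pos (mk_mem ho hN)]

theorem mk_sum (o N : Finset GolayPt) : ∑ i, mk o N i = 2 * (o.card : ℤ) - 4 * (N.card : ℤ) := by
  simp only [mk, Finset.sum_sub_distrib, sum_ind]

theorem mk_norm {o N : Finset GolayPt} (hs : N ⊆ o) : sqNorm (mk o N) = 4 * (o.card : ℤ) := by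
  have e : ∀ i, mk o N i ^ 2 = if i ∈ o then 4 else 0 := fun i => by
    by_cases hi : i ∈ o
    · by_cases hN : i ∈ N <;> simp [mk, hi, hN]
    · simp [mk, hi, show i ∉ N from fun h => hi (hs h)]
  simp only [sqNorm, e, sum_ind]

theorem perm_elt {σ : Equiv.Perm GolayPt} (hσ : σ ∈ M24) {o N : Finset GolayPt} (ho : IsCode o)
    (ho' : IsCode (σ • o)) (hN : N.card = 0 ∨ N.card = 2) :
    perm σ hσ • elt o N = elt (σ • o) (σ • N) := by
  refine Subtype.ext (funext fun i => ?_)
  show vec (perm σ hσ • elt o N) i = vec (elt _ _) i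
  have h1 : ∀ s : Finset GolayPt, σ.symm i ∈ s ↔ i ∈ σ • s := fun s => by
    rw [← Finset.inv_smul_mem_iff, Equiv.Perm.smul_def, Equiv.Perm.inv_def]
  rw [perm_smul, elt_apply ho hN, elt_apply ho' (by rwa [Finset.card_smul_finset])]
  simp only [mk, h1]

/-! ### The vectors with given coordinates at the two points -/

open scoped Classical in
/-- Targets. -/
noncomputable def Tg (c : ℕ) (β : ℤ) : Finset leechLattice :=
  (shell 32).filter fun y =>
    vec y a0 = (c : ℤ) ∧ vec y b0 = β ∧ ∑ i, vec y i = 16 - 4 * (c : ℤ)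

theorem mem_Tg {c : ℕ} {β : ℤ} {y : leechLattice} : y ∈ Tg c β ↔ sqNorm (vec y) = 32 ∧
    vec y a0 = (c : ℤ) ∧ vec y b0 = β ∧ ∑ i, vec y i = 16 - 4 * (c : ℤ) := by
  simp [Tg, mem_shell]

/-- The data of a target. -/
def Idx (c : ℕ) (β : ℤ) (o N : Finset GolayPt) : Prop :=
  o ∈ octads ∧ N ⊆ o ∧ N.card = c ∧ mk o N a0 = (c : ℤ) ∧ mk o N b0 = β

theorem idx_facts {c : ℕ} {β : ℤ} {o N : Finset GolayPt} (hc : c = 0 ∨ c = 2)
    (h : Idx c β o N) : IsCode o ∧ (N.card = 0 ∨ N.card = 2) :=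
  ⟨(mem_octads.1 h.1).1, by rw [h.2.2.1]; exact hc⟩

theorem elt_mem_Tg {c : ℕ} {β : ℤ} {o N : Finset GolayPt} (hc : c = 0 ∨ c = 2)
    (h : Idx c β o N) : elt o N ∈ Tg c β := by
  obtain ⟨h1, h2⟩ := idx_facts hc h
  obtain ⟨ho, hs, hN, ha, hb⟩ := h
  rw [mem_Tg, elt_apply h1 h2, mk_norm hs, mk_sum, (mem_octads.1 ho).2, hN]
  exact ⟨by norm_num, ha, hb, by norm_num⟩

theorem exists_idx {c : ℕ} {β : ℤ} (hc : c = 0 ∨ c = 2) {y : leechLattice} (hy : y ∈ Tg c β) :
    ∃ o N, Idx c β o N ∧ y = elt o N := by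
  classical
  obtain ⟨hn, hya, hyb, hs⟩ := mem_Tg.1 hy
  have hmem : vec y ∈ leechLattice := y.2
  have he : EvenVec (vec y) := (mem_leech_iff.1 hmem).resolve_right fun ho => by
    have := ho.1 a0; rcases hc with rfl | rfl <;> omega
  have hres : (res 2 (vec y)).Nonempty := by
    rcases hc with rfl | rfl
    · by_contra hne
      have h4 : ∀ i, vec y i = 0 ∨ vec y i = 4 ∨ vec y i = -4 := fun i => by
        have hi : i ∉ res 2 (vec y) := fun h => hne ⟨i, h⟩
        rw [mem_res] at hi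
        have := he.1 i
        have := coord_le_five hn i
        omega
      have habs : 4 * ∑ i, |vec y i| = 32 := by
        rw [Finset.mul_sum, ← hn, sqNorm]
        refine Finset.sum_congr rfl fun i _ => ?_
        rcases h4 i with q | q | q <;> rw [q] <;> norm_num
      have hle : ∑ i, vec y i ≤ ∑ i, |vec y i| := Finset.sum_le_sum fun i _ => le_abs_self _
      omega
    · exact ⟨a0, mem_res.2 (by omega)⟩
  obtain ⟨i, hi⟩ := hres
  obtain ⟨h8, htwo, hout⟩ := even32_shape he hn hi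
  set o := res 2 (vec y) with ho
  set N := o.filter fun i => vec y i = -2 with hN
  have hoct : o ∈ octads := mem_octads.2 ⟨he.2.1, h8⟩
  have e : vec y = mk o N := by
    funext i
    by_cases hio : i ∈ o
    · rcases htwo i hio with q | q <;> simp [mk, hN, hio, q]
    · have : i ∉ N := fun h => hio (Finset.mem_filter.1 h).1
      simp [mk, hio, this, hout i hio]
  have hcard : N.card = c := by
    rw [e, mk_sum, h8] at hs; omega
  refine ⟨o, N, ⟨hoct, Finset.filter_subset _ _, hcard, by rw [← e]; exact hya,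
    by rw [← e]; exact hyb⟩, Subtype.ext ?_⟩
  show vec y = vec (elt o N)
  rw [elt_apply he.2.1 (by omega)]
  exact e

theorem elt_inj {c : ℕ} {β : ℤ} (hc : c = 0 ∨ c = 2) {o N o' N' : Finset GolayPt}
    (h : Idx c β o N) (h' : Idx c β o' N') (e : elt o N = elt o' N') : o = o' ∧ N = N' := by
  have e' := congrArg vec e
  rw [elt_apply (idx_facts hc h).1 (idx_facts hc h).2,
    elt_apply (idx_facts hc h').1 (idx_facts hc h').2] at e'
  have k : ∀ i, (i ∈ o ↔ i ∈ o') ∧ (i ∈ N ↔ i ∈ N') := fun i => by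
    have q := congrFun e' i
    simp only [mk] at q
    have := @h.2.1 i
    have := @h'.2.1 i
    split_ifs at q <;> first | tauto | omega
  exact ⟨Finset.ext fun i => (k i).1, Finset.ext fun i => (k i).2⟩

theorem card_Tg {c : ℕ} {β : ℤ} (hc : c = 0 ∨ c = 2)
    (I : Finset (Σ _ : Finset GolayPt, Finset GolayPt))
    (hI : ∀ p, p ∈ I ↔ Idx c β p.1 p.2) : (Tg c β).card = I.card := by
  symm
  refine Finset.card_bij (fun p _ => elt p.1 p.2) (fun p hp => elt_mem_Tg hc ((hI p).1 hp))
    (fun p hp q hq e => ?_) fun y hy => ?_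
  · obtain ⟨h1, h2⟩ := elt_inj hc ((hI p).1 hp) ((hI q).1 hq) e
    exact Sigma.ext h1 (heq_of_eq h2)
  · obtain ⟨o, N, h, rfl⟩ := exists_idx hc hy
    exact ⟨⟨o, N⟩, (hI _).2 h, rfl⟩

/-! ### The four classes -/

theorem idx_m8 {o N : Finset GolayPt} :
    Idx 0 2 o N ↔ o ∈ octads ∧ N = ∅ ∧ a0 ∉ o ∧ b0 ∈ o := by
  constructor
  · rintro ⟨ho, -, hN, ha, hb⟩
    rw [Finset.card_eq_zero] at hN
    subst hN
    simp [mk] at ha hb
    exact ⟨ho, rfl, ha, hb⟩
  · rintro ⟨ho, rfl, ha, hb⟩
    exact ⟨ho, Finset.empty_subset _, rfl, by simp [mk, ha], by simp [mk, hb]⟩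

theorem idx_zero {o N : Finset GolayPt} :
    Idx 0 0 o N ↔ o ∈ octads ∧ N = ∅ ∧ a0 ∉ o ∧ b0 ∉ o := by
  constructor
  · rintro ⟨ho, -, hN, ha, hb⟩
    rw [Finset.card_eq_zero] at hN
    subst hN
    simp [mk] at ha hb
    exact ⟨ho, rfl, ha, hb⟩
  · rintro ⟨ho, rfl, ha, hb⟩
    exact ⟨ho, Finset.empty_subset _, rfl, by simp [mk, ha], by simp [mk, hb]⟩

theorem idx_p8 {o N : Finset GolayPt} :
    Idx 2 0 o N ↔ o ∈ octads ∧ a0 ∈ o ∧ b0 ∉ o ∧ N ⊆ o.erase a0 ∧ N.card = 2 := by
  constructor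
  · rintro ⟨ho, hs, hN, ha, hb⟩
    have haN : a0 ∉ N := fun h => by simp [mk, h, hs h] at ha
    have hao : a0 ∈ o := by
      by_contra h; simp [mk, h, haN] at ha
    have hbo : b0 ∉ o := fun h => by
      simp only [mk, if_pos h] at hb; split_ifs at hb <;> omega
    exact ⟨ho, hao, hbo, Finset.subset_erase.2 ⟨hs, haN⟩, hN⟩
  · rintro ⟨ho, ha, hb, hs, hN⟩
    obtain ⟨hs, haN⟩ := Finset.subset_erase.1 hs
    exact ⟨ho, hs, hN, by simp [mk, ha, haN], by simp [mk, hb, show b0 ∉ N from fun h => hb (hs h)]⟩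

theorem idx_p16 {o N : Finset GolayPt} : Idx 2 (-2) o N ↔
    o ∈ octads ∧ a0 ∈ o ∧ b0 ∈ o ∧ ∃ k ∈ o, k ≠ a0 ∧ k ≠ b0 ∧ N = {b0, k} := by
  constructor
  · rintro ⟨ho, hs, hN, ha, hb⟩
    have haN : a0 ∉ N := fun h => by simp [mk, h, hs h] at ha
    have hao : a0 ∈ o := by
      by_contra h; simp [mk, h, haN] at ha
    have hbN : b0 ∈ N := by
      by_contra h; simp only [mk, if_neg h] at hb; split_ifs at hb <;> omega
    obtain ⟨k, hk⟩ := Finset.card_eq_one.1 (show (N.erase b0).card = 1 by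
      rw [Finset.card_erase_of_mem hbN, hN])
    obtain ⟨hkb, hkN⟩ := Finset.mem_erase.1 (hk ▸ Finset.mem_singleton_self k : k ∈ N.erase b0)
    exact ⟨ho, hao, hs hbN, k, hs hkN, fun e => haN (e ▸ hkN), hkb,
      by rw [← Finset.insert_erase hbN, hk]⟩
  · rintro ⟨ho, ha, hb, k, hk, hka, hkb, rfl⟩
    exact ⟨ho, by simp [Finset.insert_subset_iff, hb, hk], by simp [hkb.symm],
      by simp [mk, ha, hka.symm], by simp [mk, hb]⟩

theorem through_filter {p q : GolayPt} {o : Finset GolayPt}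
    [DecidablePred fun o : Finset GolayPt => q ∉ o] :
    o ∈ (Golay.Steiner.through octads {p}).filter (fun o => q ∉ o) ↔
      o ∈ octads ∧ p ∈ o ∧ q ∉ o := by
  simp [LeechMcLRank.mem_through, and_assoc]

theorem card_m8 : (Tg 0 2).card = 176 := by
  classical
  rw [card_Tg (Or.inl rfl)
    (((Golay.Steiner.through octads {b0}).filter fun o => a0 ∉ o).sigma fun _ => {∅})
    fun p => by simp only [Finset.mem_sigma, through_filter, Finset.mem_singleton, idx_m8]; tauto,
    Finset.card_sigma, Finset.sum_congr rfl (g := fun _ => 1) fun o _ => Finset.card_singleton _,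
    Finset.sum_const, card_filter_one b0 a0 (Finset.pair_comm _ _)]
  rfl

theorem card_zero : (Tg 0 0).card = 330 := by
  classical
  rw [card_Tg (Or.inl rfl) (I0.sigma fun _ => {∅}) fun p => by
      simp only [Finset.mem_sigma, I0, Finset.mem_filter, Golay.Steiner.mem_blocks,
        Finset.mem_singleton, idx_zero]; tauto,
    Finset.card_sigma, Finset.sum_congr rfl (g := fun _ => 1) fun o _ => Finset.card_singleton _,
    Finset.sum_const, card_I0]
  rfl

theorem card_p8 : (Tg 2 0).card = 3696 := by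
  classical
  rw [card_Tg (Or.inr rfl)
    (((Golay.Steiner.through octads {a0}).filter fun o => b0 ∉ o).sigma fun o =>
      (o.erase a0).powersetCard 2) fun p => by
      simp only [Finset.mem_sigma, through_filter, Finset.mem_powersetCard, idx_p8]; tauto,
    Finset.card_sigma, Finset.sum_congr rfl (g := fun _ => 21) fun o ho => ?_,
    Finset.sum_const, card_filter_one a0 b0 rfl]
  · rfl
  · obtain ⟨ho, ha, -⟩ := through_filter.1 ho
    rw [Finset.card_powersetCard, Finset.card_erase_of_mem ha, (mem_octads.1 ho).2]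
    rfl

theorem card_p16 : (Tg 2 (-2)).card = 462 := by
  classical
  rw [card_Tg (Or.inr rfl)
    ((Golay.Steiner.through octads {a0, b0}).sigma fun o =>
      ((o.erase a0).erase b0).image fun k => {b0, k}) fun p => by
      simp only [Finset.mem_sigma, LeechMcLRank.mem_through, Finset.mem_image, Finset.mem_erase,
        idx_p16, Finset.insert_subset_iff, Finset.singleton_subset_iff]
      constructor
      · rintro ⟨⟨ho, ha, hb⟩, k, ⟨k1, k2, k3⟩, e⟩
        exact ⟨ho, ha, hb, k, k3, k2, k1, e.symm⟩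
      · rintro ⟨ho, ha, hb, k, k3, k2, k1, e⟩
        exact ⟨⟨ho, ha, hb⟩, k, ⟨k1, k2, k3⟩, e.symm⟩,
    Finset.card_sigma, Finset.sum_congr rfl (g := fun _ => 6) fun o ho => ?_,
    Finset.sum_const, card_two]
  · rfl
  · obtain ⟨ho, hs⟩ := LeechMcLRank.mem_through.1 ho
    simp only [Finset.insert_subset_iff, Finset.singleton_subset_iff] at hs
    rw [Finset.card_image_of_injOn, Finset.card_erase_of_mem (by simp [hs.2]),
      Finset.card_erase_of_mem hs.1, (mem_octads.1 ho).2]
    intro k hk k' hk' e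
    dsimp only at e
    have : k ∈ ({b0, k'} : Finset GolayPt) := by rw [← e]; simp
    simp only [Finset.mem_coe, Finset.mem_erase] at hk
    simpa [hk.1] using this

/-! ### The moves -/

/-- Any two targets differ by an element of the stabiliser. -/
def Trans (c : ℕ) (β : ℤ) : Prop :=
  ∀ y ∈ Tg c β, ∀ y' ∈ Tg c β, ∃ g ∈ Stab0, g • y = y'

theorem trans_of_move {c : ℕ} {β : ℤ} (hc : c = 0 ∨ c = 2)
    (h : ∀ o N o' N', Idx c β o N → Idx c β o' N' →
      ∃ σ ∈ M24, σ a0 = a0 ∧ σ b0 = b0 ∧ σ • o = o' ∧ σ • N = N') : Trans c β := by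
  intro y hy y' hy'
  obtain ⟨o, N, i, rfl⟩ := exists_idx hc hy
  obtain ⟨o', N', i', rfl⟩ := exists_idx hc hy'
  obtain ⟨σ, hσ, s1, s2, rfl, rfl⟩ := h o N o' N' i i'
  exact ⟨_, perm_mem0 hσ s1 s2, perm_elt hσ (idx_facts hc i).1 (idx_facts hc i').1 (idx_facts hc i).2⟩

theorem trans_m8 : Trans 0 2 := by
  refine trans_of_move (Or.inl rfl) fun o N o' N' i i' => ?_
  obtain ⟨ho, rfl, ha, hb⟩ := idx_m8.1 i
  obtain ⟨ho', rfl, ha', hb'⟩ := idx_m8.1 i'
  obtain ⟨k, hk⟩ := Finset.card_pos.1 (show 0 < (o.erase b0).card by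
    rw [Finset.card_erase_of_mem hb, (mem_octads.1 ho).2]; norm_num)
  obtain ⟨k', hk'⟩ := Finset.card_pos.1 (show 0 < (o'.erase b0).card by
    rw [Finset.card_erase_of_mem hb', (mem_octads.1 ho').2]; norm_num)
  rw [Finset.mem_erase] at hk hk'
  obtain ⟨σ, hσ, s1, s2, e, -⟩ := move1 ho ho' ha hb hk.2 hk.1 ha' hb' hk'.2 hk'.1
  exact ⟨σ, hσ, s1, s2, e, rfl⟩

theorem trans_zero : Trans 0 0 := by
  refine trans_of_move (Or.inl rfl) fun o N o' N' i i' => ?_
  obtain ⟨ho, rfl, ha, hb⟩ := idx_zero.1 i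
  obtain ⟨ho', rfl, ha', hb'⟩ := idx_zero.1 i'
  obtain ⟨σ, hσ, s1, s2, e⟩ := move0 ho ho' ha hb ha' hb'
  exact ⟨σ, hσ, s1, s2, e, rfl⟩

theorem trans_p16 : Trans 2 (-2) := by
  refine trans_of_move (Or.inr rfl) fun o N o' N' i i' => ?_
  obtain ⟨ho, ha, hb, k, hk, hka, hkb, rfl⟩ := idx_p16.1 i
  obtain ⟨ho', ha', hb', k', hk', hka', hkb', rfl⟩ := idx_p16.1 i'
  obtain ⟨σ, hσ, s1, s2, e, ek⟩ := move2 ho ho' ha hb hk hka hkb ha' hb' hk' hka' hkb'
  exact ⟨σ, hσ, s1, s2, e, by
    simp only [Finset.smul_finset_insert, Finset.smul_finset_singleton, Equiv.Perm.smul_def, s2,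
      ek]⟩

theorem trans_p8 : Trans 2 0 := by
  refine trans_of_move (Or.inr rfl) fun o N o' N' i i' => ?_
  obtain ⟨ho, ha, hb, hs, hN⟩ := idx_p8.1 i
  obtain ⟨ho', ha', hb', hs', hN'⟩ := idx_p8.1 i'
  obtain ⟨p, q, hpq, rfl⟩ := Finset.card_eq_two.1 hN
  obtain ⟨p', q', hpq', rfl⟩ := Finset.card_eq_two.1 hN'
  simp only [Finset.insert_subset_iff, Finset.singleton_subset_iff, Finset.mem_erase] at hs hs'
  obtain ⟨⟨hpa, hp⟩, hqa, hq⟩ := hs
  obtain ⟨⟨hpa', hp'⟩, hqa', hq'⟩ := hs'
  obtain ⟨f, f0, f1, f2, hf⟩ := five_in (mem_octads.1 ho).2 ha hp hq hpa.symm hqa.symm hpq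
  obtain ⟨f', f0', f1', f2', hf'⟩ :=
    five_in (mem_octads.1 ho').2 ha' hp' hq' hpa'.symm hqa'.symm hpq'
  obtain ⟨σ, hσ, h⟩ := Golay.exists_map_tuple le_rfl f f'
  have hso := smul_eq_of_five hσ ho ho' f f' hf hf' h
  have hout : σ b0 ∉ o' := fun e => hb (by rwa [← hso, M24Config.mem_smul_iff'] at e)
  obtain ⟨τ, hτ, hτb⟩ := OctadStab.exists_fix_move ho' hout hb'
  have hfix := (Golay.mem_octadFix.1 hτ).2
  have e0 : σ a0 = a0 := by have := h 0; rwa [f0, f0'] at this
  have e1 : σ p = p' := by have := h 1; rwa [f1, f1'] at this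
  have e2 : σ q = q' := by have := h 2; rwa [f2, f2'] at this
  refine ⟨τ * σ, mul_mem (Golay.mem_octadFix.1 hτ).1 hσ, ?_, ?_, ?_, ?_⟩
  · rw [Equiv.Perm.mul_apply, e0, hfix _ ha']
  · rw [Equiv.Perm.mul_apply, hτb]
  · rw [mul_smul, hso]
    exact OctadStab.smul_eq_iff.2 fun x => by
      constructor
      · intro hx
        have := τ.injective (hfix _ hx)
        rwa [this] at hx
      · intro hx; rwa [hfix _ hx]
  · simp only [Finset.smul_finset_insert, Finset.smul_finset_singleton, Equiv.Perm.smul_def,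
      Equiv.Perm.mul_apply, e1, e2, hfix _ hp', hfix _ hq']

/-! ### The hundred -/

open scoped Classical in
/-- The hundred. -/
noncomputable def A : Finset leechLattice :=
  (shell 32).filter fun x => dotInt (vec t0) (vec x) = 0 ∧ dotInt (vec u0) (vec x) = 24

theorem card_A : A.card = 100 := by
  classical
  exact LeechHS.card100 norm_t0 (norm_fiveBase _) dot_t0_u0

open scoped Classical in
/-- The odd members of the hundred. -/
noncomputable def A1 : Finset leechLattice :=
  ((univ : Finset GolayPt) \ {a0, b0}).image fun k => ⟨oddBase k, oddBase_mem k⟩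

open scoped Classical in
/-- The even members of the hundred. -/
noncomputable def A2 : Finset leechLattice :=
  (Golay.Steiner.through octads {a0, b0}).image fun o => elt o ∅

theorem oddBase_apply (k i : GolayPt) : oddBase k i = if i = k then -3 else 1 := rfl

theorem sum_oddBase_mul (k : GolayPt) (y : GolayPt → ℤ) :
    dotInt (oddBase k) y = ∑ i, y i - 4 * y k := by
  have : ∀ i, oddBase k i * y i = y i - if i = k then 4 * y i else 0 := fun i => by
    rw [oddBase_apply]; split_ifs <;> ring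
  simp only [dotInt, this, Finset.sum_sub_distrib, Finset.sum_ite_eq', Finset.mem_univ, if_true]

theorem through_code {o : Finset GolayPt} (ho : o ∈ Golay.Steiner.through octads {a0, b0}) :
    IsCode o ∧ o.card = 8 ∧ a0 ∈ o ∧ b0 ∈ o := by
  obtain ⟨ho, hs⟩ := LeechMcLRank.mem_through.1 ho
  simp only [Finset.insert_subset_iff, Finset.singleton_subset_iff] at hs
  exact ⟨(mem_octads.1 ho).1, (mem_octads.1 ho).2, hs⟩

theorem A_eq : A = insert x0 (A1 ∪ A2) ∧ x0 ∉ A1 ∪ A2 ∧ Disjoint A1 A2 ∧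
    (A1.card = 22 ∧ A2.card = 77) := by
  classical
  have v1' : ∀ x ∈ A1, vec x a0 = 1 := fun x hx => by
    obtain ⟨k, hk, rfl⟩ := Finset.mem_image.1 hx
    show oddBase k a0 = 1
    rw [oddBase_apply, if_neg (LeechHS.mem_rest.1 hk).1.symm]
  have v2' : ∀ x ∈ A2, vec x a0 = 2 := fun x hx => by
    obtain ⟨o, ho, rfl⟩ := Finset.mem_image.1 hx
    rw [elt_apply (through_code ho).1 (Or.inl rfl)]
    simp [mk, (through_code ho).2.2.1]
  have v0' : vec x0 a0 = 4 := by rw [x0, pp_apply']; simp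
  have hnot : x0 ∉ A1 ∪ A2 := fun h => by
    rcases Finset.mem_union.1 h with q | q
    · have := v1' _ q; omega
    · have := v2' _ q; omega
  have hdis : Disjoint A1 A2 := Finset.disjoint_left.2 fun x h h' => by
    have := v1' x h; have := v2' x h'; omega
  have c1 : A1.card = 22 := by
    rw [A1, Finset.card_image_of_injective, LeechHS.card_rest hab]
    intro k k' e
    have h : oddBase k k = oddBase k' k := congrFun (congrArg vec e) k
    by_contra hne
    simp [oddBase_apply, hne] at h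
  have c2 : A2.card = 77 := by
    rw [A2, Finset.card_image_of_injOn, card_two]
    intro o ho o' ho' e
    have hI : ∀ o ∈ Golay.Steiner.through octads {a0, b0}, ∀ i, vec (elt o ∅) i =
        if i ∈ o then 2 else 0 := fun o ho i => by
      rw [elt_apply (through_code ho).1 (Or.inl rfl)]; simp [mk]
    ext i
    have := congrFun (congrArg vec e) i
    rw [hI o ho, hI o' ho'] at this
    by_cases h1 : i ∈ o <;> by_cases h2 : i ∈ o' <;> simp [h1, h2] at this ⊢
  refine ⟨(Finset.eq_of_subset_of_card_le ?_ ?_).symm, hnot, hdis, c1, c2⟩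
  · intro x hx
    rw [A, Finset.mem_filter, mem_shell, dot_t0, dot_u0]
    rcases Finset.mem_insert.1 hx with rfl | hx
    · refine ⟨norm_pp hab, ?_, ?_⟩
      · rw [x0, pp_apply', pp_apply']; simp
      · simp [x0, pp_apply', Finset.sum_add_distrib]
    rcases Finset.mem_union.1 hx with hx | hx
    · obtain ⟨k, hk, rfl⟩ := Finset.mem_image.1 hx
      obtain ⟨hka, hkb⟩ := LeechHS.mem_rest.1 hk
      have h1 := sum_oddBase_mul k fun _ => 1
      simp only [dotInt, mul_one, Finset.sum_const, Finset.card_univ, card_pt] at h1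
      refine ⟨?_, ?_, ?_⟩
      · have e : ∀ i, oddBase k i ^ 2 = 1 + if i = k then 8 else 0 := fun i => by
          rw [oddBase_apply]; split_ifs <;> norm_num
        simp only [sqNorm, e, Finset.sum_add_distrib, Finset.sum_const, Finset.card_univ, card_pt,
          Finset.sum_ite_eq', Finset.mem_univ, if_true]
        norm_num
      · show 4 * (oddBase k a0 - oddBase k b0) = 0
        rw [oddBase_apply, oddBase_apply, if_neg hka.symm, if_neg hkb.symm]; norm_num
      · show ∑ i, oddBase k i + 4 * oddBase k a0 = 24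
        rw [h1, oddBase_apply, if_neg hka.symm]; norm_num
    · obtain ⟨o, ho, rfl⟩ := Finset.mem_image.1 hx
      obtain ⟨hc, h8, ha, hb⟩ := through_code ho
      rw [elt_apply hc (Or.inl rfl), mk_sum, mk_norm (Finset.empty_subset _), h8]
      simp [mk, ha, hb]
  · rw [card_A, Finset.card_insert_of_notMem hnot, Finset.card_union_of_disjoint hdis, c1, c2]

/-- The blocks read from the list of masks. -/
theorem card_blocks_filter (P : Finset GolayPt → Prop) [DecidablePred P] :
    ((Golay.Steiner.blocks octads).filter P).card =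
      ((Golay.masksOfWeight 8).filter fun m => decide (P (Golay.setOfMask m))).length := by
  classical
  have hlt : ∀ m ∈ Golay.masksOfWeight 8, m < 2 ^ 24 := fun m hm => by
    obtain ⟨i, hi, rfl⟩ := Golay.inCode_iff.mp (Golay.mem_masksOfWeight.1 hm).1
    exact Golay.enc_lt hi
  have hnd : (Golay.masksOfWeight 8).Nodup := by
    refine List.Nodup.filter _ (List.Nodup.map_on ?_ List.nodup_range)
    intro a ha b hb h
    rw [← Golay.enc_mod (List.mem_range.mp ha), h, Golay.enc_mod (List.mem_range.mp hb)]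
  rw [← List.toFinset_card_of_nodup (hnd.filter _)]
  symm
  refine Finset.card_bij (fun m _ => Golay.setOfMask m) ?_ ?_ ?_
  · intro m hm
    rw [List.mem_toFinset, List.mem_filter, decide_eq_true_eq] at hm
    rw [Finset.mem_filter, Golay.Steiner.mem_blocks]
    exact ⟨Golay.mem_wordsOfWeight_iff.2 ⟨m, hm.1, rfl⟩, hm.2⟩
  · intro m hm m' hm' e
    rw [List.mem_toFinset, List.mem_filter] at hm hm'
    exact Golay.setOfMask_injOn (hlt m hm.1) (hlt m' hm'.1) e
  · intro o ho
    rw [Finset.mem_filter, Golay.Steiner.mem_blocks] at ho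
    obtain ⟨m, hm, rfl⟩ := Golay.mem_wordsOfWeight_iff.1 ho.1
    exact ⟨m, by simpa using ⟨hm, ho.2⟩, rfl⟩

/-- Inner product counts against the hundred. -/
theorem count_A (y : GolayPt → ℤ) (V : ℤ) (hV : dotInt (vec x0) y = V) :
    (A.filter fun x => dotInt (vec x) y = V).card =
      1 + (((univ : Finset GolayPt) \ {a0, b0}).filter fun k => ∑ i, y i - 4 * y k = V).card +
        ((Golay.masksOfWeight 8).filter fun m => decide (a0 ∈ Golay.setOfMask m ∧
          b0 ∈ Golay.setOfMask m ∧ 2 * ∑ i ∈ Golay.setOfMask m, y i = V)).length := by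
  classical
  obtain ⟨e, hnot, hdis, -, -⟩ := A_eq
  rw [e, Finset.filter_insert, if_pos hV,
    Finset.card_insert_of_notMem fun h => hnot (Finset.mem_filter.1 h).1, Finset.filter_union,
    Finset.card_union_of_disjoint (Finset.disjoint_filter_filter hdis), A1, A2,
    Finset.filter_image, Finset.filter_image,
    ← card_blocks_filter (fun o => a0 ∈ o ∧ b0 ∈ o ∧ 2 * ∑ i ∈ o, y i = V)]
  rw [Finset.card_image_of_injective, Finset.card_image_of_injOn]
  · have e1 : ∀ o ∈ Golay.Steiner.through octads {a0, b0}, dotInt (vec (elt o ∅)) y =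
        2 * ∑ i ∈ o, y i := fun o ho => by
      rw [elt_apply (through_code ho).1 (Or.inl rfl)]
      simp [dotInt, mk, Finset.mul_sum, Finset.sum_ite_mem]
    have hB : ((Golay.Steiner.through octads {a0, b0}).filter fun o =>
        dotInt (vec (elt o ∅)) y = V) = (Golay.Steiner.blocks octads).filter fun o =>
          a0 ∈ o ∧ b0 ∈ o ∧ 2 * ∑ i ∈ o, y i = V := by
      ext o
      simp only [Finset.mem_filter, LeechMcLRank.mem_through, Golay.Steiner.mem_blocks]
      constructor
      · rintro ⟨h, h'⟩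
        rw [e1 o (LeechMcLRank.mem_through.2 h)] at h'
        simp only [Finset.insert_subset_iff, Finset.singleton_subset_iff] at h
        exact ⟨h.1, h.2.1, h.2.2, h'⟩
      · rintro ⟨h, ha, hb, h'⟩
        have hs : o ∈ octads ∧ ({a0, b0} : Finset GolayPt) ⊆ o := by
          simp [Finset.insert_subset_iff, h, ha, hb]
        exact ⟨hs, by rwa [e1 o (LeechMcLRank.mem_through.2 hs)]⟩
    have hA : ((univ : Finset GolayPt) \ {a0, b0}).filter (fun k =>
        dotInt (vec (⟨oddBase k, oddBase_mem k⟩ : leechLattice)) y = V) =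
        ((univ : Finset GolayPt) \ {a0, b0}).filter fun k => ∑ i, y i - 4 * y k = V := by
      refine Finset.filter_congr fun k _ => ?_
      rw [← sum_oddBase_mul]
    rw [hB, hA]; omega
  · intro o ho o' ho' he
    have h1 := (Finset.mem_filter.1 ho).1
    have h2 := (Finset.mem_filter.1 ho').1
    have hh := congrArg vec he
    rw [elt_apply (through_code h1).1 (Or.inl rfl), elt_apply (through_code h2).1 (Or.inl rfl)] at hh
    ext i
    have := congrFun hh i
    simp only [mk, Finset.notMem_empty, if_false] at this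
    by_cases q1 : i ∈ o <;> by_cases q2 : i ∈ o' <;> simp [q1, q2] at this ⊢
  · intro k k' he
    have h : oddBase k k = oddBase k' k := congrFun (congrArg vec he) k
    by_contra hne
    simp [oddBase_apply, hne] at h

/-! ### Orbits -/

theorem dot_smul_left {g : Co0} {v : leechLattice} (h : g • v = v) (y : leechLattice) :
    dotInt (vec v) (vec (g • y)) = dotInt (vec v) (vec y) := by
  conv_lhs => rw [← h]
  exact dot_smul g v y

/-- The stabiliser is transitive on the hundred. -/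
theorem transA {x : leechLattice} (hx : sqNorm (vec x) = 32)
    (ht : dotInt (vec t0) (vec x) = 0) (hu : dotInt (vec u0) (vec x) = 24) :
    ∃ g : Co0, g • u0 = u0 ∧ g • t0 = t0 ∧ g • x0 = x := by
  have hu48 : sqNorm (vec u0) = 48 := norm_fiveBase _
  have hut : dotInt (vec u0) (vec t0) = 16 := by rw [dot_comm, dot_t0_u0]
  have hwn : sqNorm (vec (t0 - u0)) = 48 := by
    show sqNorm (vec t0 - vec u0) = 48
    rw [sqNorm_sub, norm_t0, hu48, dot_t0_u0]; norm_num
  have huw : dotInt (vec u0) (vec (t0 - u0)) = -32 := by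
    show dotInt (vec u0) (vec t0 - vec u0) = -32
    rw [dot_sub_right, dot_self, hu48, hut]; norm_num
  have hwx : ∀ z : leechLattice, dotInt (vec (t0 - u0)) (vec z) =
      dotInt (vec t0) (vec z) - dotInt (vec u0) (vec z) := fun z => by
    rw [dot_comm]
    show dotInt (vec z) (vec t0 - vec u0) = _
    rw [dot_sub_right, dot_comm (vec z), dot_comm (vec z)]
  have h1 : dotInt (vec t0) (vec x0) = 0 := by rw [dot_t0, x0, pp_apply', pp_apply']; simp
  have h2 : dotInt (vec u0) (vec x0) = 24 := by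
    simp [dot_u0, x0, pp_apply', Finset.sum_add_distrib]
  obtain ⟨g, g1, g2, g3⟩ := LeechHS.transitive100 hu48 hwn huw
    (show sqNorm (vec x0) = 32 from norm_pp hab) h2 (by rw [hwx, h1, h2]; norm_num)
    hu48 hwn huw hx hu (by rw [hwx, ht, hu]; norm_num)
  exact ⟨g, g1, by rwa [smul_sub', g1, sub_left_inj] at g2, g3⟩

/-- A class of targets determines the size of an orbit. -/
theorem orbit_count {c : ℕ} {β V : ℤ} {T n : ℕ} {y0 : leechLattice} (hV : 4 * ((c : ℤ) + β) = V)
    (hy0 : y0 ∈ Tg c β) (hT : (Tg c β).card = T) (htr : Trans c β)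
    (hn : (A.filter fun x => dotInt (vec x) (vec y0) = V).card = n) :
    (MulAction.orbit Stab0 y0).ncard * n = 100 * T := by
  classical
  set O := (shell 32).filter fun y => y ∈ MulAction.orbit Stab0 y0 with hO
  obtain ⟨hn0, ha0, hb0, hs0⟩ := mem_Tg.1 hy0
  have inv : ∀ {g : Co0}, g ∈ Stab0 → ∀ y : leechLattice,
      dotInt (vec u0) (vec (g • y)) = dotInt (vec u0) (vec y) ∧
        dotInt (vec t0) (vec (g • y)) = dotInt (vec t0) (vec y) := fun hg y =>
    ⟨dot_smul_left (mem_stab0.1 hg).1 y, dot_smul_left (mem_stab0.1 hg).2 y⟩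
  have memO : ∀ y, y ∈ O ↔ ∃ g ∈ Stab0, g • y0 = y := fun y => by
    rw [hO, Finset.mem_filter, mem_shell]
    constructor
    · rintro ⟨-, ⟨g, hg⟩, rfl⟩; exact ⟨g, hg, rfl⟩
    · rintro ⟨g, hg, rfl⟩; exact ⟨by rw [norm_smul']; exact hn0, ⟨⟨g, hg⟩, rfl⟩⟩
  have hcard : (MulAction.orbit Stab0 y0).ncard = O.card := by
    rw [← Set.ncard_coe_finset]
    congr 1
    ext y
    rw [Finset.mem_coe, memO]
    exact ⟨fun ⟨⟨g, hg⟩, e⟩ => ⟨g, hg, e⟩, fun ⟨g, hg, e⟩ => ⟨⟨g, hg⟩, e⟩⟩
  have hOx : O.filter (fun y => dotInt (vec x0) (vec y) = V) = Tg c β := by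
    ext y
    rw [Finset.mem_filter, memO, mem_Tg, dot_x0]
    constructor
    · rintro ⟨⟨g, hg, rfl⟩, hx⟩
      obtain ⟨i1, i2⟩ := inv hg y0
      rw [dot_u0, dot_u0, hs0, ha0] at i1
      rw [dot_t0, dot_t0, ha0, hb0] at i2
      refine ⟨by rw [norm_smul']; exact hn0, ?_⟩
      omega
    · rintro h
      exact ⟨htr y0 hy0 y (mem_Tg.2 h), by omega⟩
  rw [hcard, ← hT, ← card_A]
  refine (Finset.card_mul_eq_card_mul (fun (x y : leechLattice) => dotInt (vec x) (vec y) = V)
    (fun x hx => ?_) fun y hy => ?_).symm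
  · -- a member of the hundred against the orbit
    rw [A, Finset.mem_filter, mem_shell] at hx
    obtain ⟨hxn, hxt, hxu⟩ := hx
    obtain ⟨g, g1, g2, g3⟩ := transA hxn hxt hxu
    have hg : g ∈ Stab0 := mem_stab0.2 ⟨g1, g2⟩
    rw [← hOx]
    refine Finset.card_nbij' (fun y => g⁻¹ • y) (fun y => g • y) ?_ ?_
      (fun y _ => smul_inv_smul g y) (fun y _ => inv_smul_smul g y)
    · intro y hy
      simp only [Finset.mem_coe, Finset.mem_bipartiteAbove, Finset.mem_filter, memO] at hy ⊢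
      obtain ⟨⟨h, hh, rfl⟩, hd⟩ := hy
      refine ⟨⟨g⁻¹ * h, mul_mem (inv_mem hg) hh, mul_smul _ h y0⟩, ?_⟩
      rw [← dot_smul g, smul_inv_smul, g3]; exact hd
    · intro y hy
      simp only [Finset.mem_coe, Finset.mem_bipartiteAbove, Finset.mem_filter, memO] at hy ⊢
      obtain ⟨⟨h, hh, rfl⟩, hd⟩ := hy
      exact ⟨⟨g * h, mul_mem hg hh, mul_smul g h y0⟩, by rw [← g3, dot_smul]; exact hd⟩
  · obtain ⟨g, hg, rfl⟩ := (memO y).1 hy
    rw [← hn]
    refine Finset.card_nbij' (fun x => g⁻¹ • x) (fun x => g • x) ?_ ?_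
      (fun x _ => smul_inv_smul g x) (fun x _ => inv_smul_smul g x)
    · intro x hx
      simp only [Finset.mem_coe, Finset.mem_bipartiteBelow, A, Finset.mem_filter, mem_shell] at hx ⊢
      obtain ⟨⟨h1, h2, h3⟩, h4⟩ := hx
      obtain ⟨i1, i2⟩ := inv (inv_mem hg) x
      refine ⟨⟨by rw [norm_smul']; exact h1, by rw [i2]; exact h2, by rw [i1]; exact h3⟩, ?_⟩
      rw [← dot_smul g, smul_inv_smul]; exact h4
    · intro x hx
      simp only [Finset.mem_coe, Finset.mem_bipartiteBelow, A, Finset.mem_filter, mem_shell] at hx ⊢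
      obtain ⟨⟨h1, h2, h3⟩, h4⟩ := hx
      obtain ⟨i1, i2⟩ := inv hg x
      exact ⟨⟨by rw [norm_smul']; exact h1, by rw [i2]; exact h2, by rw [i1]; exact h3⟩,
        by rw [dot_smul]; exact h4⟩

end Cfsg.Agent.Lib.SporStruct.LeechCo3
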