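import Cfsg.Agent.Lib.SporStruct.LeechHS
import Cfsg.Agent.Lib.SporStruct.OctadStab
import Cfsg.Agent.Lib.M24Config.OutsidePair

/-!
The suborbits of the McLaughlin group on the vectors with inner products 0 and 16 with a pair of
minimal vectors with inner product -8. In standard position the stabiliser of a point consists of
the permutations fixing two points.
-/

set_option autoImplicit false

namespace Cfsg.Agent.Lib.SporStruct.LeechMcLRank

open Cfsg Finset GolayUnique Leech LeechPairs LeechCounts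
open scoped Pointwise

/-- The first point. -/
abbrev a0 : GolayPt := none

/-- The second point. -/
abbrev b0 : GolayPt := some 0

theorem hab : a0 ≠ b0 := by simp

/-- The standard vector with inner products `-8` and `16`. -/
def W0 : leechLattice := ⟨oddBase b0, oddBase_mem b0⟩

theorem W0_apply (k : GolayPt) : vec W0 k = if k = b0 then -3 else 1 := rfl

theorem pn_apply' (k : GolayPt) :
    vec (pn a0 b0) k = (if k = a0 then 4 else 0) + (if k = b0 then -4 else 0) :=
  LeechHS.pn_apply a0 b0 k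

theorem pp_apply' (k : GolayPt) :
    vec (pp a0 b0) k = (if k = a0 then 4 else 0) + (if k = b0 then 4 else 0) := by
  simp [pp, vec, Pi.single_apply]

/-- A triple in standard position. -/
theorem std_triple {v w x : leechLattice} (hv : sqNorm (vec v) = 32) (hw : sqNorm (vec w) = 32)
    (hx : sqNorm (vec x) = 32) (hvw : dotInt (vec v) (vec w) = -8)
    (hvx : dotInt (vec v) (vec x) = 0) (hwx : dotInt (vec w) (vec x) = 16) :
    ∃ g : Co0, g • v = pp a0 b0 ∧ g • x = pn a0 b0 ∧ g • w = W0 := by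
  obtain ⟨g, g1, g2⟩ := orth_std hab hv hx hvx
  have e1 : dotInt (vec (pp a0 b0)) (vec (g • w)) = -8 := by rw [← g1, dot_smul, hvw]
  have e2 : dotInt (vec (pn a0 b0)) (vec (g • w)) = 16 := by rw [← g2, dot_smul, dot_comm, hwx]
  rw [dot_pp] at e1
  rw [dot_pn] at e2
  have hn : sqNorm (vec (g • w)) = 32 := by rw [norm_smul', hw]
  have hb : vec (g • w) b0 = -3 := by omega
  have ha : vec (g • w) a0 = 1 := by omega
  have ho : OddVec (vec (g • w)) := (mem_leech_iff.1 (g • w).2).resolve_left fun he => by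
    have := he.1 a0; simp only [vec] at *; omega
  have hu : ∀ k, k ≠ b0 → vec (g • w) k = 1 ∨ vec (g • w) k = -1 := fun k hk =>
    odd_unit ho (Ne.symm hk) (by rw [hn, hb]; norm_num)
  have hc : IsCode (res 1 (vec (g • w)))ᶜ := ho.2.1.compl
  have hca : a0 ∉ (res 1 (vec (g • w)))ᶜ := by
    simp only [Finset.mem_compl, mem_res, not_not, ha]; norm_num
  have hcb : b0 ∉ (res 1 (vec (g • w)))ᶜ := by
    simp only [Finset.mem_compl, mem_res, not_not, hb]; norm_num
  refine ⟨Leech.flip _ hc * g, ?_, ?_, ?_⟩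
  · rw [mul_smul, g1]; exact monomial_pp _ _ rfl rfl hca hcb
  · rw [mul_smul, g2]; exact LeechHS.monomial_pn _ _ rfl rfl hca hcb
  · refine Subtype.ext (funext fun k => ?_)
    show vec ((Leech.flip _ hc * g) • w) k = vec W0 k
    rw [mul_smul, flip_smul, W0_apply]
    simp only [Finset.mem_compl, mem_res]
    by_cases hk : k = b0
    · subst hk; rw [hb]; simp
    · rw [if_neg hk]
      rcases hu k hk with e | e <;> rw [e] <;> simp

/-- Transitivity on triples. -/
theorem transitive {v w x x' : leechLattice} (hv : sqNorm (vec v) = 32) (hw : sqNorm (vec w) = 32)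
    (hvw : dotInt (vec v) (vec w) = -8)
    (hx : sqNorm (vec x) = 32) (hvx : dotInt (vec v) (vec x) = 0) (hwx : dotInt (vec w) (vec x) = 16)
    (hx' : sqNorm (vec x') = 32) (hvx' : dotInt (vec v) (vec x') = 0)
    (hwx' : dotInt (vec w) (vec x') = 16) :
    ∃ g : Co0, g • v = v ∧ g • w = w ∧ g • x = x' := by
  obtain ⟨g, g1, g2, g3⟩ := std_triple hv hw hx hvw hvx hwx
  obtain ⟨h, h1, h2, h3⟩ := std_triple hv hw hx' hvw hvx' hwx'
  refine ⟨h⁻¹ * g, ?_, ?_, ?_⟩ <;> rw [mul_smul, inv_smul_eq_iff]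
  · rw [g1, h1]
  · rw [g3, h3]
  · rw [g2, h2]

/-- The stabiliser of the standard triple. -/
def Stab : Subgroup Co0 :=
  MulAction.stabilizer Co0 (pp a0 b0) ⊓ MulAction.stabilizer Co0 W0 ⊓
    MulAction.stabilizer Co0 (pn a0 b0)

theorem mem_stab {g : Co0} :
    g ∈ Stab ↔ (g • pp a0 b0 = pp a0 b0 ∧ g • W0 = W0) ∧ g • pn a0 b0 = pn a0 b0 := Iff.rfl

/-- The permutation action. -/
noncomputable def perm (σ : Equiv.Perm GolayPt) (hσ : σ ∈ M24) : Co0 :=
  monomial σ hσ ∅ isCode_empty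

theorem perm_smul {σ : Equiv.Perm GolayPt} (hσ : σ ∈ M24) (y : leechLattice) (i : GolayPt) :
    vec (perm σ hσ • y) i = vec y (σ.symm i) := by
  simp [perm, monomial_smul, signedPerm]

theorem perm_mem {σ : Equiv.Perm GolayPt} (hσ : σ ∈ M24) (h1 : σ a0 = a0) (h2 : σ b0 = b0) :
    perm σ hσ ∈ Stab := by
  refine mem_stab.2 ⟨⟨monomial_pp hσ _ h1 h2 (by simp) (by simp), ?_⟩,
    LeechHS.monomial_pn hσ _ h1 h2 (by simp) (by simp)⟩
  refine Subtype.ext (funext fun i => ?_)
  show vec (perm σ hσ • W0) i = vec W0 i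
  have e : σ.symm i = b0 ↔ i = b0 := by rw [Equiv.symm_apply_eq, h2]
  rw [perm_smul, W0_apply, W0_apply]
  simp only [e]

/-- The stabiliser of the standard triple consists of permutations. -/
theorem stab_perm {g : Co0} (hg : g ∈ Stab) :
    ∃ σ, ∃ hσ : σ ∈ M24, σ a0 = a0 ∧ σ b0 = b0 ∧ g = perm σ hσ := by
  obtain ⟨⟨h1, h2⟩, h3⟩ := mem_stab.1 hg
  have e8 : ∀ k, eightE a0 - eightE k = (2 : ℤ) • (if h : k = a0 then (0 : leechLattice) else pn a0 k) := by
    intro k
    refine Subtype.ext (funext fun i => ?_)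
    by_cases hk : k = a0
    · subst hk; simp
    · rw [dif_neg hk]
      simp [eightE, pn, Pi.single_apply]
      split_ifs <;> omega
  have hfix : g • eightE a0 = eightE a0 := by
    have e : eightE a0 = pp a0 b0 + pn a0 b0 := by
      refine Subtype.ext (funext fun i => ?_)
      simp [eightE, pp, pn, Pi.single_apply]
      split_ifs <;> omega
    rw [e, smul_add', h1, h3]
  have haxis : Axis g := fun k => by
    have h := congrArg (fun z => g • z) (e8 k)
    simp only [smul_sub', smul_zsmul', hfix] at h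
    exact eight_congr (by rw [norm_smul', sqNorm_eightE]) h
  obtain ⟨σ, hσ, c, hc, rfl⟩ := exists_monomial haxis
  have hW : ∀ k, (if k ∈ c then -vec W0 (σ.symm k) else vec W0 (σ.symm k)) = vec W0 k := fun k => by
    have := congrArg (fun z => vec z k) h2
    exact this
  have hc0 : c = ∅ := by
    rw [Finset.eq_empty_iff_forall_notMem]
    intro k hk
    have := hW k
    rw [if_pos hk, W0_apply, W0_apply] at this
    split_ifs at this <;> omega
  subst hc0
  have hb : σ b0 = b0 := by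
    have := hW (σ b0)
    rw [if_neg (Finset.notMem_empty _), Equiv.symm_apply_apply, W0_apply, W0_apply, if_pos rfl] at this
    by_contra hne
    rw [if_neg hne] at this
    omega
  refine ⟨σ, hσ, ?_, hb, rfl⟩
  have := congrArg (fun z => vec z (σ a0)) h3
  have e := perm_smul hσ (pn a0 b0) (σ a0)
  rw [perm] at e
  simp only [e, Equiv.symm_apply_apply, pn_apply', if_pos, if_neg hab] at this
  by_contra hne
  rw [if_neg hne] at this
  split_ifs at this <;> omega

/-! ### The three families -/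

/-- Twice an octad. -/
def v0 (o : Finset GolayPt) (ho : IsCode o) : leechLattice :=
  ⟨fun i => if i ∈ o then 2 else 0, two_smul_code_mem ho⟩

/-- Twice an octad with two signs changed. -/
def v2 (o : Finset GolayPt) (ho : IsCode o) (k : GolayPt) : leechLattice :=
  v0 o ho - pp b0 k

/-- The odd members. -/
def v1 (o : Finset GolayPt) (ho : IsCode o) (k : GolayPt) : leechLattice :=
  ⟨oddBase k, oddBase_mem k⟩ + eightE k - v0 o ho

theorem v0_apply (o : Finset GolayPt) (ho : IsCode o) (i : GolayPt) :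
    vec (v0 o ho) i = if i ∈ o then 2 else 0 := rfl

theorem v2_apply (o : Finset GolayPt) (ho : IsCode o) (k i : GolayPt) :
    vec (v2 o ho k) i =
      (if i ∈ o then 2 else 0) - ((if i = b0 then 4 else 0) + if i = k then 4 else 0) := by
  simp [v2, v0, pp, vec, Pi.single_apply]

theorem v1_apply (o : Finset GolayPt) (ho : IsCode o) (k i : GolayPt) :
    vec (v1 o ho k) i = 1 + (if i = k then 4 else 0) - (if i ∈ o then 2 else 0) := by
  simp [v1, v0, eightE, oddBase, vec, Pi.single_apply]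
  split_ifs <;> omega

/-- The member shapes. -/
def Member (y : leechLattice) : Prop :=
  sqNorm (vec y) = 32 ∧ dotInt (vec (pp a0 b0)) (vec y) = 0 ∧ dotInt (vec W0) (vec y) = 16

theorem dot_W0 (y : GolayPt → ℤ) : dotInt (vec W0) y = ∑ i, y i - 4 * y b0 := by
  have : ∀ i, vec W0 i * y i = y i - if i = b0 then 4 * y i else 0 := fun i => by
    rw [W0_apply]; split_ifs <;> ring
  simp only [dotInt, this, Finset.sum_sub_distrib, Finset.sum_ite_eq', Finset.mem_univ, if_true]

theorem member_iff {y : leechLattice} : Member y ↔ sqNorm (vec y) = 32 ∧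
    vec y a0 + vec y b0 = 0 ∧ ∑ i, vec y i = 16 + 4 * vec y b0 := by
  rw [Member, dot_pp, dot_W0]
  constructor <;> rintro ⟨h1, h2, h3⟩ <;> exact ⟨h1, by omega, by omega⟩

theorem sum_ind (o : Finset GolayPt) (f : ℤ) :
    ∑ i, (if i ∈ o then f else 0) = f * (o.card : ℤ) := by
  rw [Finset.sum_ite_mem, Finset.univ_inter, Finset.sum_const, nsmul_eq_mul, mul_comm]

theorem member_v0 {o : Finset GolayPt} (ho : o ∈ octads) (ha : a0 ∉ o) (hb : b0 ∉ o) :
    Member (v0 o (mem_octads.1 ho).1) := by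
  refine member_iff.2 ⟨?_, by simp [v0_apply, ha, hb], ?_⟩
  · simp only [sqNorm, v0_apply, ite_pow, ne_eq, OfNat.ofNat_ne_zero, not_false_eq_true, zero_pow,
      sum_ind, (mem_octads.1 ho).2]
    norm_num
  · simp only [v0_apply, sum_ind, (mem_octads.1 ho).2, if_neg hb]
    norm_num

theorem member_v2 {o : Finset GolayPt} (ho : o ∈ octads) (ha : a0 ∈ o) (hb : b0 ∈ o) {k : GolayPt}
    (hk : k ∈ o) (hka : k ≠ a0) (hkb : k ≠ b0) : Member (v2 o (mem_octads.1 ho).1 k) := by
  refine member_iff.2 ⟨?_, by simp [v2_apply, ha, hb, hka.symm, hkb.symm], ?_⟩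
  · have e : ∀ i, vec (v2 o (mem_octads.1 ho).1 k) i ^ 2 = if i ∈ o then 4 else 0 := fun i => by
      rw [v2_apply]
      by_cases hib : i = b0
      · subst hib; simp [hb, hkb.symm]
      by_cases hik : i = k
      · subst hik; simp [hk, hkb]
      by_cases hio : i ∈ o <;> simp [hib, hik, hio]
    simp only [sqNorm, e, sum_ind, (mem_octads.1 ho).2]
    norm_num
  · simp only [v2_apply, Finset.sum_sub_distrib, Finset.sum_add_distrib, sum_ind,
      (mem_octads.1 ho).2, Finset.sum_ite_eq', Finset.mem_univ, if_true, if_pos hb,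
      if_neg hkb.symm]
    norm_num

theorem member_v1 {o : Finset GolayPt} (ho : o ∈ octads) (ha : a0 ∉ o) (hb : b0 ∈ o) {k : GolayPt}
    (hk : k ∈ o) (hkb : k ≠ b0) : Member (v1 o (mem_octads.1 ho).1 k) := by
  have hka : k ≠ a0 := fun e => ha (e ▸ hk)
  refine member_iff.2 ⟨?_, by simp [v1_apply, ha, hb, hka.symm, hkb.symm], ?_⟩
  · have e : ∀ i, vec (v1 o (mem_octads.1 ho).1 k) i ^ 2 = 1 + if i = k then 8 else 0 := fun i => by
      rw [v1_apply]
      by_cases hik : i = k
      · subst hik; simp [hk]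
      by_cases hio : i ∈ o <;> simp [hik, hio]
    simp only [sqNorm, e, Finset.sum_add_distrib, Finset.sum_const, Finset.card_univ, card_pt,
      Finset.sum_ite_eq', Finset.mem_univ, if_true]
    norm_num
  · simp only [v1_apply, Finset.sum_sub_distrib, Finset.sum_add_distrib, sum_ind,
      (mem_octads.1 ho).2, Finset.sum_ite_eq', Finset.mem_univ, if_true, if_pos hb,
      if_neg hkb.symm, Finset.sum_const, Finset.card_univ, card_pt]
    norm_num

/-- The members have four shapes. -/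
theorem classify {y : leechLattice} (hy : Member y) :
    y = pn a0 b0 ∨
    (∃ o, ∃ ho : o ∈ octads, a0 ∉ o ∧ b0 ∉ o ∧ y = v0 o (mem_octads.1 ho).1) ∨
    (∃ o, ∃ ho : o ∈ octads, ∃ k, a0 ∈ o ∧ b0 ∈ o ∧ k ∈ o ∧ k ≠ a0 ∧ k ≠ b0 ∧
      y = v2 o (mem_octads.1 ho).1 k) ∨
    (∃ o, ∃ ho : o ∈ octads, ∃ k, a0 ∉ o ∧ b0 ∈ o ∧ k ∈ o ∧ k ≠ b0 ∧
      y = v1 o (mem_octads.1 ho).1 k) := by
  classical
  obtain ⟨hn, hab0, hsum⟩ := member_iff.1 hy
  have hmem' : vec y ∈ leechLattice := y.2
  obtain ⟨Y, hY⟩ : ∃ Y, vec y = Y := ⟨_, rfl⟩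
  rw [hY] at hn hab0 hsum hmem'
  rcases mem_leech_iff.1 hmem' with he | ho
  · by_cases hres : (res 2 Y).Nonempty
    · right
      obtain ⟨i, hi⟩ := hres
      obtain ⟨h8, htwo, hout⟩ := even32_shape he hn hi
      set o := res 2 Y with ho'
      have hoct : o ∈ octads := mem_octads.2 ⟨he.2.1, h8⟩
      set N := o.filter fun i => Y i = -2 with hN
      have e : ∀ i, Y i = (if i ∈ o then 2 else 0) - (if i ∈ N then 4 else 0) := by
        intro i
        by_cases hio : i ∈ o
        · rcases htwo i hio with q | q <;> simp [hN, hio, q]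
        · have : i ∉ N := fun h => hio (Finset.mem_filter.1 h).1
          simp [hio, this, hout i hio]
      have hs : ∑ i, Y i = 16 - 4 * (N.card : ℤ) := by
        simp only [e, Finset.sum_sub_distrib, sum_ind, h8]; norm_num
      rw [hs] at hsum
      have hb3 : Y b0 = 2 ∨ Y b0 = -2 ∨ Y b0 = 0 := by
        by_cases h : b0 ∈ o
        · rcases htwo b0 h with q | q <;> simp [q]
        · simp [hout b0 h]
      rcases hb3 with q | q | q
      · omega
      · right; left
        have hbo : b0 ∈ o := by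
          by_contra h
          rw [hout b0 h] at q; omega
        have hao : a0 ∈ o := by
          by_contra h
          rw [hout a0 h] at hab0; omega
        have hc2 : N.card = 2 := by omega
        have hbN : b0 ∈ N := Finset.mem_filter.2 ⟨hbo, q⟩
        obtain ⟨k, hk⟩ := Finset.card_eq_one.1 (show (N.erase b0).card = 1 by
          rw [Finset.card_erase_of_mem hbN, hc2])
        have hkN : k ∈ N.erase b0 := by rw [hk]; exact Finset.mem_singleton_self k
        obtain ⟨hkb, hkN'⟩ := Finset.mem_erase.1 hkN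
        obtain ⟨hko, hky⟩ := Finset.mem_filter.1 hkN'
        refine ⟨o, hoct, k, hao, hbo, hko, fun e => ?_, hkb, Subtype.ext (funext fun i => ?_)⟩
        · subst e; omega
        · show vec y i = vec (v2 o _ k) i
          rw [hY, v2_apply, e i]
          have hiN : i ∈ N ↔ i = b0 ∨ i = k := by
            rw [← Finset.insert_erase hbN, hk]; simp
          by_cases hib : i = b0
          · subst hib; simp [hiN, hkb.symm]
          by_cases hik : i = k
          · subst hik; simp [hiN, hkb]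
          simp [hiN, hib, hik]
      · left
        have hbo : b0 ∉ o := fun h => by rcases htwo b0 h with q' | q' <;> omega
        have hao : a0 ∉ o := fun h => by rcases htwo a0 h with q' | q' <;> omega
        refine ⟨o, hoct, hao, hbo, Subtype.ext (funext fun i => ?_)⟩
        show vec y i = vec (v0 o _) i
        rw [hY]
        have hN0 : N = ∅ := Finset.card_eq_zero.1 (by omega)
        rw [v0_apply, e i, hN0]
        simp
    · left
      have h4 : ∀ i, Y i = 0 ∨ Y i = 4 ∨ Y i = -4 := fun i => by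
        have hi : i ∉ res 2 Y := fun h => hres ⟨i, h⟩
        rw [mem_res] at hi
        have := he.1 i
        have := coord_le_five hn i
        omega
      have habs : 4 * ∑ i, |Y i| = 32 := by
        rw [Finset.mul_sum, ← hn, sqNorm]
        refine Finset.sum_congr rfl fun i _ => ?_
        rcases h4 i with q | q | q <;> rw [q] <;> norm_num
      have hle : ∑ i, Y i ≤ ∑ i, |Y i| := Finset.sum_le_sum fun i _ => le_abs_self _
      have hb : Y b0 = -4 := by
        rcases h4 b0 with q | q | q <;> omega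
      have ha : Y a0 = 4 := by omega
      refine Subtype.ext (funext fun i => ?_)
      show vec y i = vec (pn a0 b0) i
      rw [hY, pn_apply']
      by_cases hia : i = a0
      · subst hia; simp [ha]
      by_cases hib : i = b0
      · subst hib; simp [hb]
      rw [if_neg hia, if_neg hib]
      have h := sub_pair_le Y {a0, b0, i}
      rw [Finset.sum_insert (by simp [Ne.symm hia]), Finset.sum_pair (Ne.symm hib),
        ha, hb, hn] at h
      have : Y i ^ 2 ≤ 0 := by omega
      simpa using pow_eq_zero_iff two_ne_zero |>.mp (le_antisymm this (sq_nonneg _))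
  · right; right; right
    set o := (res 1 Y)ᶜ with ho'
    have hcode : IsCode o := ho.2.1.compl
    obtain ⟨k, hk⟩ : ∃ k, Y k ≠ 1 ∧ Y k ≠ -1 := by
      by_contra hall
      push Not at hall
      have : sqNorm Y = ∑ _i : GolayPt, (1 : ℤ) := by
        refine Finset.sum_congr rfl fun i _ => ?_
        by_cases q : Y i = 1
        · rw [q]; norm_num
        · rw [hall i q]; norm_num
      rw [Finset.sum_const, Finset.card_univ, card_pt, hn] at this
      norm_num at this
    have hk3 : Y k = 3 ∨ Y k = -3 := by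
      have h9 := odd_excess ho {k}
      rw [Finset.sum_singleton, hn] at h9
      have := ho.1 k
      have : -3 ≤ Y k ∧ Y k ≤ 3 := by constructor <;> nlinarith
      omega
    have hu : ∀ i, i ≠ k → Y i = 1 ∨ Y i = -1 := fun i hi =>
      odd_unit ho (Ne.symm hi) (by rw [hn]; rcases hk3 with q | q <;> rw [q] <;> norm_num)
    have hkab : k ≠ a0 ∧ k ≠ b0 := by
      constructor <;> rintro rfl
      · rcases hu b0 hab.symm with q | q <;> omega
      · rcases hu a0 hab with q | q <;> omega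
    obtain ⟨s, hs, hsk⟩ : ∃ s : ℤ, (s = 1 ∨ s = -1) ∧ Y k = 3 * s := by
      rcases hk3 with q | q
      · exact ⟨1, Or.inl rfl, by omega⟩
      · exact ⟨-1, Or.inr rfl, by omega⟩
    have hmem : ∀ i, i ∈ o ↔ Y i % 4 = 3 := fun i => by
      rw [ho', Finset.mem_compl, mem_res]; have := ho.1 i; omega
    have e : ∀ i, Y i = 1 + (if i = k then 4 * s else 0) - (if i ∈ o then 2 else 0) := by
      intro i
      by_cases hik : i = k
      · subst hik
        simp only [if_true, hmem, hsk]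
        rcases hs with q | q <;> rw [q] <;> norm_num
      · simp only [if_neg hik, hmem]
        rcases hu i hik with q | q <;> rw [q] <;> norm_num
    have hsum' : ∑ i, Y i = 24 + 4 * s - 2 * (o.card : ℤ) := by
      simp only [e, Finset.sum_sub_distrib, Finset.sum_add_distrib, sum_ind, Finset.sum_const,
        Finset.card_univ, card_pt, Finset.sum_ite_eq', Finset.mem_univ, if_true]
      norm_num
    rw [hsum'] at hsum
    have hw := hcode.weights
    rcases hu b0 hkab.2.symm with q | q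
    · exfalso
      have hne : a0 ∈ o := by rw [hmem]; omega
      have := Finset.card_pos.2 ⟨a0, hne⟩
      rcases hs with r | r <;> omega
    · have hbo : b0 ∈ o := by rw [hmem, q]; norm_num
      have hao : a0 ∉ o := by rw [hmem]; omega
      have hs1 : s = 1 := by rcases hs with r | r <;> omega
      subst hs1
      have h8 : o.card = 8 := by omega
      refine ⟨o, mem_octads.2 ⟨hcode, h8⟩, k, hao, hbo, by rw [hmem, hsk]; norm_num, hkab.2,
        Subtype.ext (funext fun i => ?_)⟩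
      show vec y i = vec (v1 o _ k) i
      rw [hY, v1_apply, e i]
      norm_num

/-! ### Orbits -/

theorem perm_v0 {σ : Equiv.Perm GolayPt} (hσ : σ ∈ M24) {o o' : Finset GolayPt} (ho : IsCode o)
    (ho' : IsCode o') (e : σ • o = o') : perm σ hσ • v0 o ho = v0 o' ho' := by
  subst e
  refine Subtype.ext (funext fun i => ?_)
  show vec (perm σ hσ • v0 o ho) i = vec (v0 _ ho') i
  have h1 : σ.symm i ∈ o ↔ i ∈ σ • o := by
    rw [← Finset.inv_smul_mem_iff, Equiv.Perm.smul_def, Equiv.Perm.inv_def]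
  rw [perm_smul, v0_apply, v0_apply]
  simp only [h1]

theorem perm_v2 {σ : Equiv.Perm GolayPt} (hσ : σ ∈ M24) (hb : σ b0 = b0) {o o' : Finset GolayPt}
    (ho : IsCode o) (ho' : IsCode o') {k k' : GolayPt} (e : σ • o = o') (ek : σ k = k') :
    perm σ hσ • v2 o ho k = v2 o' ho' k' := by
  subst e ek
  refine Subtype.ext (funext fun i => ?_)
  show vec (perm σ hσ • v2 o ho k) i = vec (v2 _ ho' _) i
  have h1 : σ.symm i ∈ o ↔ i ∈ σ • o := by
    rw [← Finset.inv_smul_mem_iff, Equiv.Perm.smul_def, Equiv.Perm.inv_def]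
  have h2 : σ.symm i = k ↔ i = σ k := Equiv.symm_apply_eq σ
  have h3 : σ.symm i = b0 ↔ i = b0 := by rw [Equiv.symm_apply_eq, hb]
  rw [perm_smul, v2_apply, v2_apply]
  simp only [h1, h2, h3]

theorem perm_v1 {σ : Equiv.Perm GolayPt} (hσ : σ ∈ M24) {o o' : Finset GolayPt}
    (ho : IsCode o) (ho' : IsCode o') {k k' : GolayPt} (e : σ • o = o') (ek : σ k = k') :
    perm σ hσ • v1 o ho k = v1 o' ho' k' := by
  subst e ek
  refine Subtype.ext (funext fun i => ?_)
  show vec (perm σ hσ • v1 o ho k) i = vec (v1 _ ho' _) i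
  have h1 : σ.symm i ∈ o ↔ i ∈ σ • o := by
    rw [← Finset.inv_smul_mem_iff, Equiv.Perm.smul_def, Equiv.Perm.inv_def]
  have h2 : σ.symm i = k ↔ i = σ k := Equiv.symm_apply_eq σ
  rw [perm_smul, v1_apply, v1_apply]
  simp only [h1, h2]

theorem mem_through {S o : Finset GolayPt} :
    o ∈ Golay.Steiner.through octads S ↔ o ∈ octads ∧ S ⊆ o := by
  simp [Golay.Steiner.through, Golay.Steiner.blocks]

/-- Five points with given first three, in a given octad. -/
theorem five_in {o : Finset GolayPt} (h8 : o.card = 8) {p q r : GolayPt} (hp : p ∈ o) (hq : q ∈ o)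
    (hr : r ∈ o) (hpq : p ≠ q) (hpr : p ≠ r) (hqr : q ≠ r) :
    ∃ f : Fin 5 ↪ GolayPt, f 0 = p ∧ f 1 = q ∧ f 2 = r ∧ ∀ i, f i ∈ o := by
  obtain ⟨x, hx⟩ := Finset.card_pos.1 (show 0 < (((o.erase p).erase q).erase r).card by
    rw [Finset.card_erase_of_mem (by simp [hr, hpr.symm, hqr.symm]),
      Finset.card_erase_of_mem (by simp [hq, hpq.symm]), Finset.card_erase_of_mem hp, h8]
    norm_num)
  obtain ⟨z, hz⟩ := Finset.card_pos.1 (show 0 < ((((o.erase p).erase q).erase r).erase x).card by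
    rw [Finset.card_erase_of_mem hx, Finset.card_erase_of_mem (by simp [hr, hpr.symm, hqr.symm]),
      Finset.card_erase_of_mem (by simp [hq, hpq.symm]), Finset.card_erase_of_mem hp, h8]
    norm_num)
  simp only [Finset.mem_erase] at hx hz
  refine ⟨⟨![p, q, r, x, z], ?_⟩, rfl, rfl, rfl, fun i => ?_⟩
  · intro i j hij
    fin_cases i <;> fin_cases j <;> simp_all
  · fin_cases i
    exacts [hp, hq, hr, hx.2.2.2, hz.2.2.2.2]

theorem smul_eq_of_five {σ : Equiv.Perm GolayPt} (hσ : σ ∈ M24) {o o' : Finset GolayPt}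
    (ho : o ∈ octads) (ho' : o' ∈ octads) (f f' : Fin 5 ↪ GolayPt) (hf : ∀ i, f i ∈ o)
    (hf' : ∀ i, f' i ∈ o') (h : ∀ i, σ (f i) = f' i) : σ • o = o' := by
  refine Golay.Steiner.eq_of_subset OctadSystem.steiner (s := Finset.univ.map f')
    (Golay.smul_mem_octads hσ ho) ho' (by simp) ?_ ?_
  · intro p hp
    obtain ⟨i, -, rfl⟩ := Finset.mem_map.1 hp
    rw [← h i]
    exact Finset.smul_mem_smul_finset (hf i)
  · intro p hp
    obtain ⟨i, -, rfl⟩ := Finset.mem_map.1 hp
    exact hf' i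

/-- Move an octad avoiding both points. -/
theorem move0 {o o' : Finset GolayPt} (ho : o ∈ octads) (ho' : o' ∈ octads) (ha : a0 ∉ o)
    (hb : b0 ∉ o) (ha' : a0 ∉ o') (hb' : b0 ∉ o') :
    ∃ σ ∈ M24, σ a0 = a0 ∧ σ b0 = b0 ∧ σ • o = o' := by
  have std : ∀ o : Finset GolayPt, o ∈ octads → a0 ∉ o → b0 ∉ o →
      ∃ g ∈ M24, g • o = Golay.setOfMask M24Config.DataA.oct0 ∧
        g a0 = Golay.pt M24Config.DataA.xA ∧ g b0 = Golay.pt 2 := by
    intro o ho ha hb
    obtain ⟨g, hg, hgo, hga⟩ := M24Config.Octad.norm_outside ho ha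
    have hne : g b0 ≠ Golay.pt M24Config.DataA.xA := fun e => hab (g.injective (hga.trans e.symm))
    have hout : g b0 ∉ Golay.setOfMask M24Config.DataA.oct0 := fun h => hb (by
      rwa [← hgo, M24Config.mem_smul_iff'] at h)
    obtain ⟨h, hh, hhb⟩ := M24Config.Step.move_point M24Config.OutsidePair.stepOutsidePair_ok
      (i := 2) (by decide) (p := g b0) (by
        simp only [M24Config.OutsidePair.qOut2, M24Config.Octad.qOut_single hout, Bool.true_and,
          Bool.not_eq_true', ← Bool.not_eq_true, Nat.beq_eq]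
        intro e
        exact hne (by rw [← Golay.pt_idx (g b0), Nat.pow_right_injective (le_refl 2) e]))
      (by decide +kernel)
    refine ⟨h * g, mul_mem (M24Config.fixes_le_M24 _ hh) hg, ?_, ?_, hhb⟩
    · rw [mul_smul, hgo]
      exact hh.2 _ (by simp [M24Config.OutsidePair.stepOutsidePair, M24Config.DataA.oct0])
    · rw [Equiv.Perm.mul_apply, hga]
      exact M24Config.fixes_point hh (by decide)
        (by simp [M24Config.OutsidePair.stepOutsidePair, M24Config.DataA.xA])
  obtain ⟨g, hg, g1, g2, g3⟩ := std o ho ha hb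
  obtain ⟨g', hg', g1', g2', g3'⟩ := std o' ho' ha' hb'
  refine ⟨g'⁻¹ * g, mul_mem (inv_mem hg') hg, ?_, ?_, ?_⟩
  · rw [Equiv.Perm.mul_apply, g2, ← g2']; simp
  · rw [Equiv.Perm.mul_apply, g3, ← g3']; simp
  · rw [mul_smul, g1, ← g1', inv_smul_smul]

theorem move2 {o o' : Finset GolayPt} (ho : o ∈ octads) (ho' : o' ∈ octads) {k k' : GolayPt}
    (ha : a0 ∈ o) (hb : b0 ∈ o) (hk : k ∈ o) (hka : k ≠ a0) (hkb : k ≠ b0)
    (ha' : a0 ∈ o') (hb' : b0 ∈ o') (hk' : k' ∈ o') (hka' : k' ≠ a0) (hkb' : k' ≠ b0) :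
    ∃ σ ∈ M24, σ a0 = a0 ∧ σ b0 = b0 ∧ σ • o = o' ∧ σ k = k' := by
  obtain ⟨f, f0, f1, f2, hf⟩ :=
    five_in (mem_octads.1 ho).2 ha hb hk hab hka.symm hkb.symm
  obtain ⟨f', f0', f1', f2', hf'⟩ :=
    five_in (mem_octads.1 ho').2 ha' hb' hk' hab hka'.symm hkb'.symm
  obtain ⟨σ, hσ, h⟩ := Golay.exists_map_tuple le_rfl f f'
  refine ⟨σ, hσ, ?_, ?_, smul_eq_of_five hσ ho ho' f f' hf hf' h, ?_⟩
  · have := h 0; rwa [f0, f0'] at this
  · have := h 1; rwa [f1, f1'] at this
  · have := h 2; rwa [f2, f2'] at this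

theorem move1 {o o' : Finset GolayPt} (ho : o ∈ octads) (ho' : o' ∈ octads) {k k' : GolayPt}
    (ha : a0 ∉ o) (hb : b0 ∈ o) (hk : k ∈ o) (hkb : k ≠ b0)
    (ha' : a0 ∉ o') (hb' : b0 ∈ o') (hk' : k' ∈ o') (hkb' : k' ≠ b0) :
    ∃ σ ∈ M24, σ a0 = a0 ∧ σ b0 = b0 ∧ σ • o = o' ∧ σ k = k' := by
  obtain ⟨r, hr⟩ := Finset.card_pos.1 (show 0 < ((o.erase b0).erase k).card by
    rw [Finset.card_erase_of_mem (by simp [hk, hkb]), Finset.card_erase_of_mem hb,
      (mem_octads.1 ho).2]; norm_num)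
  obtain ⟨r', hr'⟩ := Finset.card_pos.1 (show 0 < ((o'.erase b0).erase k').card by
    rw [Finset.card_erase_of_mem (by simp [hk', hkb']), Finset.card_erase_of_mem hb',
      (mem_octads.1 ho').2]; norm_num)
  simp only [Finset.mem_erase] at hr hr'
  obtain ⟨f, f0, f1, -, hf⟩ :=
    five_in (mem_octads.1 ho).2 hb hk hr.2.2 hkb.symm hr.2.1.symm hr.1.symm
  obtain ⟨f', f0', f1', -, hf'⟩ :=
    five_in (mem_octads.1 ho').2 hb' hk' hr'.2.2 hkb'.symm hr'.2.1.symm hr'.1.symm
  obtain ⟨σ, hσ, h⟩ := Golay.exists_map_tuple le_rfl f f'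
  have hso := smul_eq_of_five hσ ho ho' f f' hf hf' h
  have hout : σ a0 ∉ o' := fun e => ha (by rwa [← hso, M24Config.mem_smul_iff'] at e)
  obtain ⟨τ, hτ, hτa⟩ := OctadStab.exists_fix_move ho' hout ha'
  have hfix := (Golay.mem_octadFix.1 hτ).2
  refine ⟨τ * σ, mul_mem (Golay.mem_octadFix.1 hτ).1 hσ, ?_, ?_, ?_, ?_⟩
  · rw [Equiv.Perm.mul_apply, hτa]
  · have := h 0; rw [f0, f0'] at this
    rw [Equiv.Perm.mul_apply, this, hfix _ hb']
  · rw [mul_smul, hso]
    exact OctadStab.smul_eq_iff.2 fun x => by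
      constructor
      · intro hx
        have := τ.injective (hfix _ hx)
        rwa [this] at hx
      · intro hx; rwa [hfix _ hx]
  · have := h 1; rw [f1, f1'] at this
    rw [Equiv.Perm.mul_apply, this, hfix _ hk']

open scoped Classical in
/-- Index sets of the three families. -/
noncomputable def I0 : Finset (Finset GolayPt) :=
  (Golay.Steiner.blocks octads).filter fun o => a0 ∉ o ∧ b0 ∉ o

open scoped Classical in
/-- Index sets of the three families. -/
noncomputable def I2 : Finset (Σ _ : Finset GolayPt, GolayPt) :=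
  (Golay.Steiner.through octads {a0, b0}).sigma fun o => (o.erase a0).erase b0

open scoped Classical in
/-- Index sets of the three families. -/
noncomputable def I1 : Finset (Σ _ : Finset GolayPt, GolayPt) :=
  ((Golay.Steiner.through octads {b0}).filter fun o => a0 ∉ o).sigma fun o => o.erase b0

theorem mem_I2 {p : Σ _ : Finset GolayPt, GolayPt} : p ∈ I2 ↔
    p.1 ∈ octads ∧ a0 ∈ p.1 ∧ b0 ∈ p.1 ∧ p.2 ∈ p.1 ∧ p.2 ≠ a0 ∧ p.2 ≠ b0 := by
  simp [I2, mem_through, Finset.insert_subset_iff]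
  tauto

theorem mem_I1 {p : Σ _ : Finset GolayPt, GolayPt} : p ∈ I1 ↔
    p.1 ∈ octads ∧ a0 ∉ p.1 ∧ b0 ∈ p.1 ∧ p.2 ∈ p.1 ∧ p.2 ≠ b0 := by
  simp [I1, mem_through]
  tauto

theorem card_one (p : GolayPt) : (Golay.Steiner.through octads {p}).card = 253 := by
  have h := OctadSystem.card_through {p} (by simp)
  rw [Finset.card_singleton] at h
  norm_num [Nat.choose] at h
  omega

theorem card_two : (Golay.Steiner.through octads {a0, b0}).card = 77 := by
  have h := OctadSystem.card_through {a0, b0} (by rw [Finset.card_pair hab]; norm_num)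
  rw [Finset.card_pair hab] at h
  norm_num [Nat.choose] at h
  omega

theorem card_filter_one (p q : GolayPt) (hpq : ({p, q} : Finset GolayPt) = {a0, b0}) :
    ((Golay.Steiner.through octads {p}).filter fun o => q ∉ o).card = 176 := by
  classical
  have h := Finset.card_filter_add_card_filter_not (s := Golay.Steiner.through octads {p})
    (fun o => q ∈ o)
  have e : (Golay.Steiner.through octads {p}).filter (fun o => q ∈ o) =
      Golay.Steiner.through octads {a0, b0} := by
    rw [← hpq]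
    ext o
    simp [mem_through, Finset.insert_subset_iff, and_assoc]
  rw [e, card_one, card_two] at h
  omega

theorem card_I0 : I0.card = 330 := by
  classical
  have h := Finset.card_filter_add_card_filter_not (s := Golay.Steiner.blocks octads)
    (fun o => a0 ∈ o)
  have e : (Golay.Steiner.blocks octads).filter (fun o => a0 ∈ o) =
      Golay.Steiner.through octads {a0} := by
    ext o; simp [mem_through]
  rw [e, card_one, Golay.Steiner.card_blocks, Golay.ncard_octads] at h
  have h' := Finset.card_filter_add_card_filter_not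
    (s := (Golay.Steiner.blocks octads).filter fun o => a0 ∉ o) (fun o => b0 ∈ o)
  have e' : ((Golay.Steiner.blocks octads).filter fun o => a0 ∉ o).filter (fun o => b0 ∈ o) =
      (Golay.Steiner.through octads {b0}).filter fun o => a0 ∉ o := by
    ext o; simp [mem_through]; tauto
  have e'' : ((Golay.Steiner.blocks octads).filter fun o => a0 ∉ o).filter (fun o => b0 ∉ o) = I0 := by
    rw [Finset.filter_filter]; rfl
  rw [e', e'', card_filter_one b0 a0 (Finset.pair_comm _ _)] at h'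
  omega

theorem card_I2 : I2.card = 462 := by
  classical
  rw [I2, Finset.card_sigma, Finset.sum_congr rfl (g := fun _ => 6) fun o ho => ?_, Finset.sum_const,
    card_two]
  · rfl
  · obtain ⟨ho, hs⟩ := mem_through.1 ho
    simp only [Finset.insert_subset_iff, Finset.singleton_subset_iff] at hs
    rw [Finset.card_erase_of_mem (by simp [hs.2]), Finset.card_erase_of_mem hs.1,
      (mem_octads.1 ho).2]

theorem card_I1 : I1.card = 1232 := by
  classical
  rw [I1, Finset.card_sigma, Finset.sum_congr rfl (g := fun _ => 7) fun o ho => ?_, Finset.sum_const,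
    card_filter_one b0 a0 (Finset.pair_comm _ _)]
  · rfl
  · obtain ⟨ho, hs⟩ := mem_through.1 (Finset.mem_filter.1 ho).1
    rw [Finset.card_erase_of_mem (Finset.singleton_subset_iff.1 hs), (mem_octads.1 ho).2]

theorem v0_inj {o o' : Finset GolayPt} {ho : IsCode o} {ho' : IsCode o'}
    (h : v0 o ho = v0 o' ho') : o = o' := by
  ext i
  have e := congrArg (fun z => vec z i) h
  simp only [v0_apply] at e
  by_cases h1 : i ∈ o <;> by_cases h2 : i ∈ o' <;> simp [h1, h2] at e ⊢

theorem v2_inj {p q : Σ _ : Finset GolayPt, GolayPt} (hp : p ∈ I2) (hq : q ∈ I2) {ho : IsCode p.1}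
    {ho' : IsCode q.1} (h : v2 p.1 ho p.2 = v2 q.1 ho' q.2) : p = q := by
  obtain ⟨o, k⟩ := p
  obtain ⟨o', k'⟩ := q
  obtain ⟨-, -, hb, hk, -, hkb⟩ := mem_I2.1 hp
  obtain ⟨-, -, hb', hk', -, hkb'⟩ := mem_I2.1 hq
  dsimp only at *
  have e : ∀ i, vec (v2 o ho k) i = vec (v2 o' ho' k') i := fun i => by rw [h]
  simp only [v2_apply] at e
  obtain rfl : o = o' := by
    ext i
    have := e i
    split_ifs at this with h1 h2 h3 h4 h5 h6 <;> first | tauto | omega
  obtain rfl : k = k' := by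
    by_contra hne
    have := e k
    simp [hk, hkb, hne] at this
  rfl

theorem v1_inj {p q : Σ _ : Finset GolayPt, GolayPt} (hp : p ∈ I1) (hq : q ∈ I1) {ho : IsCode p.1}
    {ho' : IsCode q.1} (h : v1 p.1 ho p.2 = v1 q.1 ho' q.2) : p = q := by
  obtain ⟨o, k⟩ := p
  obtain ⟨o', k'⟩ := q
  obtain ⟨-, -, -, hk, -⟩ := mem_I1.1 hp
  obtain ⟨-, -, -, hk', -⟩ := mem_I1.1 hq
  dsimp only at *
  have e : ∀ i, vec (v1 o ho k) i = vec (v1 o' ho' k') i := fun i => by rw [h]
  simp only [v1_apply] at e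
  obtain rfl : k = k' := by
    by_contra hne
    have := e k
    rw [if_pos rfl, if_pos hk, if_neg hne] at this
    split_ifs at this <;> omega
  obtain rfl : o = o' := by
    ext i
    have := e i
    by_cases h1 : i ∈ o <;> by_cases h2 : i ∈ o' <;> simp [h1, h2] at this ⊢ <;>
      split_ifs at this <;> omega
  rfl

theorem code_of_I0 (p : {o // o ∈ I0}) : IsCode p.1 :=
  (mem_octads.1 (by simpa [I0] using (Finset.mem_filter.1 p.2).1)).1

theorem code_of_I2 (p : {o // o ∈ I2}) : IsCode p.1.1 := (mem_octads.1 (mem_I2.1 p.2).1).1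

theorem code_of_I1 (p : {o // o ∈ I1}) : IsCode p.1.1 := (mem_octads.1 (mem_I1.1 p.2).1).1

/-- The vectors of the first family. -/
noncomputable def F0 : Finset leechLattice := I0.attach.image fun p => v0 p.1 (code_of_I0 p)

/-- The vectors of the second family. -/
noncomputable def F2 : Finset leechLattice := I2.attach.image fun p => v2 p.1.1 (code_of_I2 p) p.1.2

/-- The vectors of the third family. -/
noncomputable def F1 : Finset leechLattice := I1.attach.image fun p => v1 p.1.1 (code_of_I1 p) p.1.2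

theorem card_F0 : F0.card = 330 := by
  rw [F0, Finset.card_image_of_injective _ fun p q h => Subtype.ext (v0_inj h), Finset.card_attach,
    card_I0]

theorem card_F2 : F2.card = 462 := by
  rw [F2, Finset.card_image_of_injective _ fun p q h => Subtype.ext (v2_inj p.2 q.2 h),
    Finset.card_attach, card_I2]

theorem card_F1 : F1.card = 1232 := by
  rw [F1, Finset.card_image_of_injective _ fun p q h => Subtype.ext (v1_inj p.2 q.2 h),
    Finset.card_attach, card_I1]

theorem mem_F0 {y : leechLattice} : y ∈ F0 ↔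
    ∃ o, ∃ ho : o ∈ octads, a0 ∉ o ∧ b0 ∉ o ∧ y = v0 o (mem_octads.1 ho).1 := by
  simp only [F0, Finset.mem_image, Finset.mem_attach, true_and]
  constructor
  · rintro ⟨⟨o, ho⟩, rfl⟩
    simp only [I0, Finset.mem_filter, Golay.Steiner.mem_blocks] at ho
    exact ⟨o, ho.1, ho.2.1, ho.2.2, rfl⟩
  · rintro ⟨o, ho, h1, h2, rfl⟩
    exact ⟨⟨o, by simp [I0, ho, h1, h2]⟩, rfl⟩

theorem mem_F2 {y : leechLattice} : y ∈ F2 ↔
    ∃ o, ∃ ho : o ∈ octads, ∃ k, a0 ∈ o ∧ b0 ∈ o ∧ k ∈ o ∧ k ≠ a0 ∧ k ≠ b0 ∧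
      y = v2 o (mem_octads.1 ho).1 k := by
  simp only [F2, Finset.mem_image, Finset.mem_attach, true_and]
  constructor
  · rintro ⟨⟨⟨o, k⟩, hp⟩, rfl⟩
    obtain ⟨ho, h1, h2, h3, h4, h5⟩ := mem_I2.1 hp
    exact ⟨o, ho, k, h1, h2, h3, h4, h5, rfl⟩
  · rintro ⟨o, ho, k, h1, h2, h3, h4, h5, rfl⟩
    exact ⟨⟨⟨o, k⟩, mem_I2.2 ⟨ho, h1, h2, h3, h4, h5⟩⟩, rfl⟩

theorem mem_F1 {y : leechLattice} : y ∈ F1 ↔
    ∃ o, ∃ ho : o ∈ octads, ∃ k, a0 ∉ o ∧ b0 ∈ o ∧ k ∈ o ∧ k ≠ b0 ∧
      y = v1 o (mem_octads.1 ho).1 k := by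
  simp only [F1, Finset.mem_image, Finset.mem_attach, true_and]
  constructor
  · rintro ⟨⟨⟨o, k⟩, hp⟩, rfl⟩
    obtain ⟨ho, h1, h2, h3, h4⟩ := mem_I1.1 hp
    exact ⟨o, ho, k, h1, h2, h3, h4, rfl⟩
  · rintro ⟨o, ho, k, h1, h2, h3, h4, rfl⟩
    exact ⟨⟨⟨o, k⟩, mem_I1.2 ⟨ho, h1, h2, h3, h4⟩⟩, rfl⟩

theorem member_pn : Member (pn a0 b0) := by
  refine member_iff.2 ⟨norm_pn hab, by simp [pn_apply'], ?_⟩
  simp [pn_apply', Finset.sum_add_distrib]

/-- All members. -/
theorem member_cases (y : leechLattice) :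
    Member y ↔ y ∈ insert (pn a0 b0) (F0 ∪ F2 ∪ F1) := by
  simp only [Finset.mem_insert, Finset.mem_union, mem_F0, mem_F2, mem_F1, or_assoc]
  refine ⟨classify, ?_⟩
  rintro (rfl | ⟨o, ho, h1, h2, rfl⟩ | ⟨o, ho, k, h1, h2, h3, h4, h5, rfl⟩ |
    ⟨o, ho, k, h1, h2, h3, h4, rfl⟩)
  · exact member_pn
  · exact member_v0 ho h1 h2
  · exact member_v2 ho h1 h2 h3 h4 h5
  · exact member_v1 ho h1 h2 h3 h4

/-- The value at the first point separates the four classes. -/
theorem card_all : (insert (pn a0 b0) (F0 ∪ F2 ∪ F1)).card = 2025 := by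
  classical
  have t0 : ∀ y ∈ F0, vec y a0 = 0 := fun y hy => by
    obtain ⟨o, ho, h1, -, rfl⟩ := mem_F0.1 hy; simp [v0_apply, h1]
  have t2 : ∀ y ∈ F2, vec y a0 = 2 := fun y hy => by
    obtain ⟨o, ho, k, h1, -, -, h4, -, rfl⟩ := mem_F2.1 hy; simp [v2_apply, h1, h4.symm]
  have t1 : ∀ y ∈ F1, vec y a0 = 1 := fun y hy => by
    obtain ⟨o, ho, k, h1, -, h3, -, rfl⟩ := mem_F1.1 hy
    simp [v1_apply, h1, show a0 ≠ k from fun e => h1 (e ▸ h3)]
  have t4 : vec (pn a0 b0) a0 = 4 := by simp [pn_apply']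
  rw [Finset.card_insert_of_notMem, Finset.card_union_of_disjoint, Finset.card_union_of_disjoint,
    card_F0, card_F2, card_F1]
  · rw [Finset.disjoint_left]; intro y h h'; have := t0 y h; have := t2 y h'; omega
  · rw [Finset.disjoint_left]; intro y h h'; have := t1 y h'
    rcases Finset.mem_union.1 h with q | q
    · have := t0 y q; omega
    · have := t2 y q; omega
  · intro h
    simp only [Finset.mem_union] at h
    rcases h with (q | q) | q
    · have := t0 _ q; omega
    · have := t2 _ q; omega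
    · have := t1 _ q; omega

/-- The orbits of the stabiliser are the families. -/
theorem orbit_eq : (∀ y ∈ F0, MulAction.orbit Stab y = ↑F0) ∧
    (∀ y ∈ F2, MulAction.orbit Stab y = ↑F2) ∧ ∀ y ∈ F1, MulAction.orbit Stab y = ↑F1 := by
  have inv : ∀ {σ : Equiv.Perm GolayPt}, σ a0 = a0 → σ b0 = b0 → ∀ {o : Finset GolayPt},
      (a0 ∈ σ • o ↔ a0 ∈ o) ∧ (b0 ∈ σ • o ↔ b0 ∈ o) := fun {σ} h1 h2 {o} =>
    ⟨by conv_lhs => rw [← h1, M24Config.mem_smul_iff'],
     by conv_lhs => rw [← h2, M24Config.mem_smul_iff']⟩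
  refine ⟨fun y hy => ?_, fun y hy => ?_, fun y hy => ?_⟩
  · obtain ⟨o, ho, ha, hb, rfl⟩ := mem_F0.1 hy
    ext z
    rw [Finset.mem_coe]
    constructor
    · rintro ⟨⟨g, hg⟩, rfl⟩
      obtain ⟨σ, hσ, h1, h2, rfl⟩ := stab_perm hg
      exact mem_F0.2 ⟨σ • o, Golay.smul_mem_octads hσ ho, by rwa [(inv h1 h2).1],
        by rwa [(inv h1 h2).2], perm_v0 hσ _ _ rfl⟩
    · intro hz
      obtain ⟨o', ho', ha', hb', rfl⟩ := mem_F0.1 hz
      obtain ⟨σ, hσ, h1, h2, e⟩ := move0 ho ho' ha hb ha' hb'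
      exact ⟨⟨_, perm_mem hσ h1 h2⟩, perm_v0 hσ _ _ e⟩
  · obtain ⟨o, ho, k, ha, hb, hk, hka, hkb, rfl⟩ := mem_F2.1 hy
    ext z
    rw [Finset.mem_coe]
    constructor
    · rintro ⟨⟨g, hg⟩, rfl⟩
      obtain ⟨σ, hσ, h1, h2, rfl⟩ := stab_perm hg
      exact mem_F2.2 ⟨σ • o, Golay.smul_mem_octads hσ ho, σ k, by rwa [(inv h1 h2).1],
        by rwa [(inv h1 h2).2], by rwa [M24Config.mem_smul_iff'],
        fun e => hka (σ.injective (e.trans h1.symm)), fun e => hkb (σ.injective (e.trans h2.symm)),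
        perm_v2 hσ h2 _ _ rfl rfl⟩
    · intro hz
      obtain ⟨o', ho', k', ha', hb', hk', hka', hkb', rfl⟩ := mem_F2.1 hz
      obtain ⟨σ, hσ, h1, h2, e, ek⟩ := move2 ho ho' ha hb hk hka hkb ha' hb' hk' hka' hkb'
      exact ⟨⟨_, perm_mem hσ h1 h2⟩, perm_v2 hσ h2 _ _ e ek⟩
  · obtain ⟨o, ho, k, ha, hb, hk, hkb, rfl⟩ := mem_F1.1 hy
    ext z
    rw [Finset.mem_coe]
    constructor
    · rintro ⟨⟨g, hg⟩, rfl⟩
      obtain ⟨σ, hσ, h1, h2, rfl⟩ := stab_perm hg
      exact mem_F1.2 ⟨σ • o, Golay.smul_mem_octads hσ ho, σ k, by rwa [(inv h1 h2).1],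
        by rwa [(inv h1 h2).2], by rwa [M24Config.mem_smul_iff'],
        fun e => hkb (σ.injective (e.trans h2.symm)), perm_v1 hσ _ _ rfl rfl⟩
    · intro hz
      obtain ⟨o', ho', k', ha', hb', hk', hkb', rfl⟩ := mem_F1.1 hz
      obtain ⟨σ, hσ, h1, h2, e, ek⟩ := move1 ho ho' ha hb hk hkb ha' hb' hk' hkb'
      exact ⟨⟨_, perm_mem hσ h1 h2⟩, perm_v1 hσ _ _ e ek⟩

/-- A family gives an orbit of the stabiliser of any triple carried to the standard one. -/
theorem exists_orbit {v w x : leechLattice} {g : Co0} (g1 : g • v = pp a0 b0)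
    (g2 : g • x = pn a0 b0) (g3 : g • w = W0) {F : Finset leechLattice} {N : ℕ}
    (hF : F.card = N) (hN : 0 < N) (hmem : ∀ z ∈ F, Member z)
    (horb : ∀ y ∈ F, MulAction.orbit Stab y = ↑F) :
    ∃ y : leechLattice, (sqNorm (vec y) = 32 ∧ dotInt (vec v) (vec y) = 0 ∧
        dotInt (vec w) (vec y) = 16) ∧
      (MulAction.orbit ↥(MulAction.stabilizer Co0 v ⊓ MulAction.stabilizer Co0 w ⊓
        MulAction.stabilizer Co0 x) y).ncard = N := by
  obtain ⟨z, hz⟩ := Finset.card_pos.1 (hF.symm ▸ hN)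
  obtain ⟨m1, m2, m3⟩ := hmem z hz
  have inv1 : g⁻¹ • pp a0 b0 = v := by rw [← g1, inv_smul_smul]
  have inv2 : g⁻¹ • pn a0 b0 = x := by rw [← g2, inv_smul_smul]
  have inv3 : g⁻¹ • W0 = w := by rw [← g3, inv_smul_smul]
  refine ⟨g⁻¹ • z, ⟨by rw [norm_smul']; exact m1, by rw [← inv1, dot_smul]; exact m2,
    by rw [← inv3, dot_smul]; exact m3⟩, ?_⟩
  have e : MulAction.orbit ↥(MulAction.stabilizer Co0 v ⊓ MulAction.stabilizer Co0 w ⊓
      MulAction.stabilizer Co0 x) (g⁻¹ • z) = (g⁻¹ • ·) '' MulAction.orbit Stab z := by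
    ext u
    constructor
    · rintro ⟨⟨h, ⟨hv, hw⟩, hx⟩, rfl⟩
      have hv' : h • v = v := hv
      have hw' : h • w = w := hw
      have hx' : h • x = x := hx
      refine ⟨(g * h * g⁻¹) • z, ⟨⟨g * h * g⁻¹, mem_stab.2 ⟨⟨?_, ?_⟩, ?_⟩⟩, rfl⟩, ?_⟩
      · rw [mul_smul, mul_smul, inv1, hv', g1]
      · rw [mul_smul, mul_smul, inv3, hw', g3]
      · rw [mul_smul, mul_smul, inv2, hx', g2]
      · show g⁻¹ • (g * h * g⁻¹) • z = h • g⁻¹ • z
        simp only [← mul_smul]; congr 1; group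
    · rintro ⟨_, ⟨⟨h, hh⟩, rfl⟩, rfl⟩
      obtain ⟨⟨h1, h2⟩, h3⟩ := mem_stab.1 hh
      refine ⟨⟨g⁻¹ * h * g, ⟨?_, ?_⟩, ?_⟩, ?_⟩
      · show (g⁻¹ * h * g) • v = v
        rw [mul_smul, mul_smul, g1, h1, inv1]
      · show (g⁻¹ * h * g) • w = w
        rw [mul_smul, mul_smul, g3, h2, inv3]
      · show (g⁻¹ * h * g) • x = x
        rw [mul_smul, mul_smul, g2, h3, inv2]
      · show (g⁻¹ * h * g) • g⁻¹ • z = g⁻¹ • h • z
        simp only [← mul_smul]; congr 1; group
  rw [e, Set.ncard_image_of_injective _ (MulAction.injective g⁻¹), horb z hz, Set.ncard_coe_finset, hF]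

theorem member_of_mem {y : leechLattice} (hy : y ∈ F0 ∨ y ∈ F2 ∨ y ∈ F1) : Member y :=
  (member_cases y).2 (by simp only [Finset.mem_insert, Finset.mem_union]; tauto)

/-- The members for a standardised pair. -/
theorem ncard_members {v w : leechLattice} {g : Co0} (g1 : g • v = pp a0 b0) (g3 : g • w = W0) :
    {y : leechLattice | sqNorm (vec y) = 32 ∧ dotInt (vec v) (vec y) = 0 ∧
      dotInt (vec w) (vec y) = 16}.ncard = 2025 := by
  rw [← card_all, ← Set.ncard_coe_finset, ← Set.ncard_image_of_injective _ (MulAction.injective g)]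
  congr 1
  ext z
  rw [Finset.mem_coe, ← member_cases, Member]
  constructor
  · rintro ⟨y, hy, rfl⟩
    rwa [← g1, ← g3, dot_smul, dot_smul, norm_smul']
  · intro h
    refine ⟨g⁻¹ • z, ?_, smul_inv_smul _ _⟩
    have e1 : g⁻¹ • pp a0 b0 = v := by rw [← g1, inv_smul_smul]
    have e3 : g⁻¹ • W0 = w := by rw [← g3, inv_smul_smul]
    simp only [Set.mem_ofPred_eq]
    rw [← e1, ← e3, dot_smul, dot_smul]
    exact ⟨by rw [norm_smul']; exact h.1, h.2⟩

theorem dot_W0_pp : dotInt (vec (pp a0 b0)) (vec W0) = -8 := by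
  rw [dot_pp, W0_apply, W0_apply]; simp

end Cfsg.Agent.Lib.SporStruct.LeechMcLRank
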