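import Cfsg.Agent.Lib.SporStruct.LatticeClasses
import Cfsg.Agent.Lib.Leech.Shells
import Cfsg.Prelude.Def_SporadicCombinatorics

/-! The rank-24 lattice modulo twice itself. -/

set_option autoImplicit false

namespace Cfsg.Agent.Lib.SporStruct.LeechModTwo

open Cfsg Cfsg.Agent.Lib

/-- Doubling of integer vectors. -/
def dbl : (GolayPt → ℤ) →+ (GolayPt → ℤ) :=
  AddMonoidHom.mk' (fun x => x + x) fun x y => by abel

theorem dbl_injective : Function.Injective dbl := by
  intro x y h
  funext i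
  have := congrFun h i
  simp only [dbl, AddMonoidHom.mk'_apply, Pi.add_apply] at this
  omega

theorem range_dbl : dbl.range = Leech.evenAll := by
  ext x
  constructor
  · rintro ⟨y, rfl⟩ i
    exact ⟨y i, by simp [dbl]; ring⟩
  · intro h
    refine ⟨fun i => x i / 2, funext fun i => ?_⟩
    have := h i
    simp only [dbl, AddMonoidHom.mk'_apply, Pi.add_apply]
    omega

/-- Twice the lattice. -/
def twoL : AddSubgroup (GolayPt → ℤ) := leechLattice.map dbl

theorem twoL_le : twoL ≤ leechLattice := by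
  rintro _ ⟨y, hy, rfl⟩
  exact leechLattice.add_mem hy hy

theorem relIndex_twoL : twoL.relIndex leechLattice = 2 ^ 24 := by
  have h1 : twoL.index = 2 ^ 36 * 2 ^ 24 := by
    rw [twoL, AddSubgroup.index_map, (AddMonoidHom.ker_eq_bot_iff dbl).2 dbl_injective, sup_bot_eq,
      range_dbl, Leech.index_leech, Leech.index_evenAll]
  have h2 := AddSubgroup.relIndex_mul_index twoL_le
  rw [h1, Leech.index_leech, mul_comm (2 ^ 36) (2 ^ 24)] at h2
  exact Nat.eq_of_mul_eq_mul_right (by positivity) h2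

/-- The classes of the lattice modulo twice itself. -/
abbrev Classes : Type := ↥leechLattice ⧸ twoL.addSubgroupOf leechLattice

theorem card_classes : Nat.card Classes = 2 ^ 24 := relIndex_twoL

theorem finite_classes : Finite Classes :=
  Nat.finite_of_card_ne_zero (by rw [card_classes]; positivity)

theorem mk_eq_iff (x y : ↥leechLattice) :
    (QuotientAddGroup.mk x : Classes) = QuotientAddGroup.mk y ↔ ∃ z : ↥leechLattice, x - y = z + z := by
  rw [QuotientAddGroup.eq_iff_sub_mem, AddSubgroup.mem_addSubgroupOf]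
  constructor
  · rintro ⟨w, hw, he⟩
    exact ⟨⟨w, hw⟩, Subtype.ext he.symm⟩
  · rintro ⟨z, hz⟩
    exact ⟨z, z.2, by rw [hz]; rfl⟩

theorem dot_self (x : GolayPt → ℤ) : dotInt x x = sqNorm x :=
  Finset.sum_congr rfl fun i _ => (sq (x i)).symm

/-- The inner product in the customary normalisation. -/
def ip (x y : ↥leechLattice) : ℤ := dotInt (x : GolayPt → ℤ) (y : GolayPt → ℤ) / 8

theorem ip_self (x : ↥leechLattice) : ip x x = sqNorm (x : GolayPt → ℤ) / 8 := by
  rw [ip, dot_self]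

theorem ip_eq_iff (x : ↥leechLattice) (n : ℤ) :
    ip x x = n ↔ sqNorm (x : GolayPt → ℤ) = 8 * n := by
  have := Leech.sqNorm_dvd x.2
  rw [ip_self]; omega

theorem evenRootless : LatticeClasses.EvenRootless ip where
  symm x y := by
    unfold ip dotInt
    exact congrArg (· / 8) (Finset.sum_congr rfl fun i _ => mul_comm _ _)
  add_left x y z := by
    have h1 := Leech.dotInt_dvd x.2 z.2
    have e : dotInt (((x + y : ↥leechLattice)) : GolayPt → ℤ) (z : GolayPt → ℤ) =
        dotInt (x : GolayPt → ℤ) z + dotInt (y : GolayPt → ℤ) z := by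
      simp [dotInt, add_mul, Finset.sum_add_distrib]
    unfold ip
    rw [e, Int.add_ediv_of_dvd_left h1]
  pos x hx := by
    have := Leech.sqNorm_ge x.2 (fun h => hx (Subtype.ext h))
    rw [ip_self]; omega
  even x := by
    obtain ⟨k, hk⟩ := Leech.sqNorm_dvd x.2
    rw [ip_self, hk]
    exact ⟨k, by omega⟩
  ne_two x := by
    rw [Ne, ip_eq_iff]
    by_cases hx : (x : GolayPt → ℤ) = 0
    · rw [hx]; simp [sqNorm]
    · have := Leech.sqNorm_ge x.2 hx; omega

theorem rank_bound (U : Finset ↥leechLattice) (h0 : ∀ x ∈ U, x ≠ 0)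
    (ho : ∀ x ∈ U, ∀ y ∈ U, x ≠ y → ip x y = 0) : U.card ≤ 24 := by
  classical
  rw [← Finset.card_image_of_injective U Subtype.val_injective]
  refine (LatticeClasses.orth_card_le (LinearMap.mk₂ ℤ (fun x y : GolayPt → ℤ => dotInt x y)
    (fun a b c => by simp [dotInt, add_mul, Finset.sum_add_distrib])
    (fun c a b => by simp [dotInt, Finset.mul_sum, mul_assoc, mul_add])
    (fun a b c => by simp [dotInt, mul_add, Finset.sum_add_distrib])
    (fun c a b => by simp [dotInt, Finset.mul_sum, mul_left_comm, mul_add]))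
    (U.image Subtype.val) ?_ ?_).trans (by simp)
  · intro a ha
    obtain ⟨x, hx, rfl⟩ := Finset.mem_image.1 ha
    rw [LinearMap.mk₂_apply, dot_self, Ne, Leech.sqNorm_eq_zero]
    exact fun h => h0 x hx (Subtype.ext h)
  · intro a ha b hb hne
    obtain ⟨x, hx, rfl⟩ := Finset.mem_image.1 ha
    obtain ⟨y, hy, rfl⟩ := Finset.mem_image.1 hb
    have h := ho x hx y hy (fun e => hne (by rw [e]))
    have hd := Leech.dotInt_dvd x.2 y.2
    rw [LinearMap.mk₂_apply]
    unfold ip at h
    omega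

theorem shell (n : ℤ) {N : ℕ} (h : {x : GolayPt → ℤ | x ∈ leechLattice ∧ sqNorm x = 8 * n}.ncard = N) :
    {x : ↥leechLattice | ip x x = n}.ncard = N := by
  rw [← h, ← Set.ncard_image_of_injective _ Subtype.val_injective]
  congr 1
  ext x
  simp only [Set.mem_image, Set.mem_ofPred_eq, ip_eq_iff]
  exact ⟨fun ⟨y, hy, e⟩ => e ▸ ⟨y.2, hy⟩, fun ⟨hx, hn⟩ => ⟨⟨x, hx⟩, hn, rfl⟩⟩

theorem classes : (∀ x : ↥leechLattice, ip x x = 8 →
      {y : ↥leechLattice | ip y y = 8 ∧ ∃ z, x - y = z + z}.ncard = 48) ∧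
    ∀ v : ↥leechLattice, ∃ y : ↥leechLattice, ip y y ≤ 8 ∧ ∃ z, v - y = z + z :=
  haveI := finite_classes
  LatticeClasses.class_count card_classes evenRootless (fun x => (QuotientAddGroup.mk x : Classes))
    mk_eq_iff rank_bound (shell 4 Leech.ncard_norm32) (shell 6 Leech.ncard_norm48)
    (shell 8 Leech.ncard_norm64)

theorem ncard_cross {x : GolayPt → ℤ} (hx : x ∈ leechLattice) (hn : sqNorm x = 64) :
    (cross x).ncard = 48 := by
  rw [← classes.1 ⟨x, hx⟩ ((ip_eq_iff _ _).2 hn), ← Set.ncard_image_of_injective _ Subtype.val_injective]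
  congr 1
  ext y
  simp only [cross, Set.mem_image, Set.mem_ofPred_eq, ip_eq_iff]
  constructor
  · rintro ⟨hy, hyn, z, hz, e⟩
    refine ⟨⟨y, hy⟩, ⟨by rw [hyn, hn]; norm_num, ⟨z, hz⟩, Subtype.ext ?_⟩, rfl⟩
    exact e.trans (two_nsmul z)
  · rintro ⟨y', ⟨hyn, z, e⟩, rfl⟩
    exact ⟨y'.2, by rw [hyn, hn]; norm_num, z, z.2, (congrArg Subtype.val e).trans (two_nsmul _).symm⟩

theorem exists_short {x : GolayPt → ℤ} (hx : x ∈ leechLattice) :
    ∃ y ∈ leechLattice, sqNorm y ≤ 64 ∧ ∃ z ∈ leechLattice, x - y = 2 • z := by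
  obtain ⟨y, hy, z, e⟩ := classes.2 ⟨x, hx⟩
  refine ⟨y, y.2, ?_, z, z.2, (congrArg Subtype.val e).trans (two_nsmul _).symm⟩
  have := Leech.sqNorm_dvd y.2
  rw [ip_self] at hy
  omega

end Cfsg.Agent.Lib.SporStruct.LeechModTwo
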