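import Cfsg.Agent.Lib.SporStruct.Masks
import Cfsg.Agent.Lib.Computation.PermCode

/-! Permutations of the 24 points packed in natural numbers; membership in `M24`. -/

set_option autoImplicit false

namespace Cfsg.Agent.Lib.SporStruct.PermCodes

open Cfsg Cfsg.Agent.Lib.Golay Cfsg.Agent.Lib.Computation Masks
open scoped Pointwise

/-- The numbering of the points. -/
def ptNum : GolayPt ≃ Fin 24 where
  toFun p := ⟨idx p, idx_lt p⟩
  invFun i := pt i
  left_inv := pt_idx
  right_inv i := Fin.ext (idx_pt i.isLt)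

/-- A code of a permutation of the 24 points. -/
def okCode (c : ℕ) : Bool := okPerm 24 5 c

/-- The permutation of a code. -/
noncomputable def perm (c : ℕ) : Equiv.Perm GolayPt := ptNum.symm.permCongr (decodeP 24 5 c)

theorem idx_perm {c : ℕ} (h : okCode c = true) (p : GolayPt) :
    idx (perm c p) = getW 5 c (idx p) := by
  have h2 := decodeP_apply h (ptNum p)
  have h3 : ptNum (perm c p) = decodeP 24 5 c (ptNum p) := by simp [perm, Equiv.permCongr_apply]
  exact (congrArg Fin.val h3).trans h2

/-- The image of the first `k` positions of a mask under a code. -/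
def imgStep (c m k : ℕ) : ℕ :=
  Nat.rec 0 (fun i acc => bif Nat.beq (Nat.land (Nat.shiftRight m i) 1) 1
    then Nat.lor (Nat.shiftLeft 1 (getW 5 c i)) acc else acc) k

/-- The image of a mask under a code. -/
def imgMask (c m : ℕ) : ℕ := forceNat c fun c => forceNat m fun m => imgStep c m 24

theorem imgMask_eq (c m : ℕ) : imgMask c m = imgStep c m 24 := by
  rw [imgMask, forceNat_eq, forceNat_eq]

theorem beq_land_one (m i : ℕ) : Nat.beq (Nat.land (Nat.shiftRight m i) 1) 1 = m.testBit i := by
  rw [Bool.eq_iff_iff, Nat.beq_eq]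
  change (m >>> i) &&& 1 = 1 ↔ _
  rw [Nat.and_one_is_mod, Nat.testBit_eq_decide_div_mod_eq, decide_eq_true_eq, Nat.shiftRight_eq_div_pow]

theorem imgStep_succ (c m k : ℕ) : imgStep c m (k + 1) =
    bif m.testBit k then 1 <<< getW 5 c k ||| imgStep c m k else imgStep c m k := by
  rw [← beq_land_one]
  rfl

theorem testBit_imgStep (c m j : ℕ) : ∀ k,
    (imgStep c m k).testBit j = true ↔ ∃ i < k, m.testBit i = true ∧ getW 5 c i = j
  | 0 => by simp [imgStep]
  | k + 1 => by
    have ih := testBit_imgStep c m j k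
    rw [imgStep_succ]
    cases hb : m.testBit k with
    | false =>
      simp only [cond_false, ih]
      constructor
      · rintro ⟨i, hi, h⟩; exact ⟨i, by omega, h⟩
      · rintro ⟨i, hi, h⟩
        refine ⟨i, ?_, h⟩
        rcases Nat.lt_succ_iff_lt_or_eq.1 hi with hi | rfl
        · exact hi
        · rw [hb] at h; simp at h
    | true =>
      simp only [cond_true]
      rw [Nat.one_shiftLeft, Nat.testBit_or, Bool.or_eq_true, ih, Nat.testBit_two_pow,
        decide_eq_true_eq]
      constructor
      · rintro (h | ⟨i, hi, h⟩)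
        · exact ⟨k, by omega, hb, h⟩
        · exact ⟨i, by omega, h⟩
      · rintro ⟨i, hi, h⟩
        rcases Nat.lt_succ_iff_lt_or_eq.1 hi with hi | rfl
        · exact Or.inr ⟨i, hi, h⟩
        · exact Or.inl h.2

theorem maskOfSet_smul {c : ℕ} (h : okCode c = true) (s : Finset GolayPt) :
    maskOfSet (perm c • s) = imgMask c (maskOfSet s) := by
  apply Nat.eq_of_testBit_eq
  intro j
  rw [Bool.eq_iff_iff, imgMask_eq, testBit_imgStep, testBit_maskOfSet]
  constructor
  · rintro ⟨p, hp, rfl⟩
    obtain ⟨q, hq, rfl⟩ := Finset.mem_smul_finset.1 hp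
    exact ⟨idx q, idx_lt q, testBit_maskOfSet_idx.2 hq, (idx_perm h q).symm⟩
  · rintro ⟨i, hi, hb, rfl⟩
    rw [testBit_maskOfSet] at hb
    obtain ⟨q, hq, rfl⟩ := hb
    exact ⟨perm c q, Finset.mem_smul_finset.2 ⟨q, hq, rfl⟩, idx_perm h q⟩

/-- The image of a point index. -/
def imgIdx (c i : ℕ) : ℕ := getW 5 c i

theorem perm_pt {c : ℕ} (h : okCode c = true) {i j : ℕ} (hi : i < 24) (he : imgIdx c i = j) :
    perm c (pt i) = pt j := by
  apply idx_injective
  rw [idx_perm h, idx_pt hi]
  have hj : j < 24 := he ▸ okPerm_lt h hi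
  rw [idx_pt hj]
  exact he

/-! ### membership in `M24` -/

theorem support₂_perm (σ : Equiv.Perm GolayPt) (w : GolayPt → ZMod 2) :
    support₂ (fun p => w (σ.symm p)) = σ • support₂ w := by
  ext p
  rw [Finset.mem_smul_finset]
  simp only [support₂, Finset.mem_filter, Finset.mem_univ, true_and, Equiv.Perm.smul_def]
  constructor
  · intro hp; exact ⟨σ.symm p, hp, by simp⟩
  · rintro ⟨q, hq, rfl⟩; simpa using hq

/-- A permutation is in `M24` as soon as the images of the rows of the generator matrix are in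
the code. -/
theorem mem_M24_of_rows {σ : Equiv.Perm GolayPt}
    (h : ∀ r ∈ rows, σ • setOfMask r ∈ supports (golayCode : Set (GolayPt → ZMod 2))) :
    σ ∈ M24 := by
  let L : (GolayPt → ZMod 2) →ₗ[ZMod 2] (GolayPt → ZMod 2) :=
    LinearMap.funLeft (ZMod 2) (ZMod 2) σ.symm
  have hL : ∀ w ∈ golayCode, L w ∈ golayCode := by
    intro w hw
    rw [golayCode_eq_span_rows] at hw
    induction hw using Submodule.span_induction with
    | zero => simp
    | add x y _ _ hx hy => rw [map_add]; exact add_mem hx hy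
    | smul a x _ hx => rw [map_smul]; exact golayCode.smul_mem a hx
    | mem x hx =>
      obtain ⟨r, hr, rfl⟩ := hx
      obtain ⟨v, hv, he⟩ := h r hr
      have : L (wordOfMask r) = v := by
        apply support₂_injective
        rw [he, ← support₂_wordOfMask]
        exact support₂_perm σ (wordOfMask r)
      rw [this]; exact hv
  rw [MulAction.mem_stabilizer_iff]
  refine Set.eq_of_subset_of_ncard_le ?_ ?_ (Set.toFinite _)
  · rintro _ ⟨s, ⟨w, hw, rfl⟩, rfl⟩
    exact ⟨L w, hL w hw, support₂_perm σ w⟩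
  · exact le_of_eq (Set.ncard_image_of_injective _ (MulAction.injective σ)).symm

/-- Test for a code of an element of `M24`. -/
def isM24Code (c : ℕ) : Bool := okCode c && rows.all fun r => inCode (imgMask c r)

theorem okCode_of_isM24Code {c : ℕ} (h : isM24Code c = true) : okCode c = true := by
  simp only [isM24Code, Bool.and_eq_true] at h
  exact h.1

theorem rows_lt : ∀ r ∈ rows, r < 2 ^ 24 := by decide +kernel

theorem perm_mem {c : ℕ} (h : isM24Code c = true) : perm c ∈ M24 := by
  simp only [isM24Code, Bool.and_eq_true, List.all_eq_true] at h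
  refine mem_M24_of_rows fun r hr => ?_
  rw [maskOfSet_mem_iff, maskOfSet_smul h.1, maskOfSet_setOfMask (rows_lt r hr)]
  exact h.2 r hr

/-- The element of `M24` of a code. -/
noncomputable def elt (c : ℕ) (h : isM24Code c = true) : ↥M24 := ⟨perm c, perm_mem h⟩

theorem smul_supports {σ : Equiv.Perm GolayPt} (hσ : σ ∈ M24) {s : Finset GolayPt}
    (hs : s ∈ supports (golayCode : Set (GolayPt → ZMod 2))) :
    σ • s ∈ supports (golayCode : Set (GolayPt → ZMod 2)) := by
  rw [← MulAction.mem_stabilizer_iff.1 hσ]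
  exact Set.smul_mem_smul_set hs

theorem smul_wordsOfWeight {σ : Equiv.Perm GolayPt} (hσ : σ ∈ M24) {s : Finset GolayPt} {n : ℕ}
    (hs : s ∈ wordsOfWeight (golayCode : Set (GolayPt → ZMod 2)) n) :
    σ • s ∈ wordsOfWeight (golayCode : Set (GolayPt → ZMod 2)) n :=
  ⟨smul_supports hσ hs.1, by rw [Finset.card_smul_finset]; exact hs.2⟩

theorem smul_octads {σ : Equiv.Perm GolayPt} (hσ : σ ∈ M24) {s : Finset GolayPt}
    (hs : s ∈ octads) : σ • s ∈ octads :=
  smul_wordsOfWeight hσ hs

theorem smul_dodecads {σ : Equiv.Perm GolayPt} (hσ : σ ∈ M24) {s : Finset GolayPt}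
    (hs : s ∈ dodecads) : σ • s ∈ dodecads :=
  smul_wordsOfWeight hσ hs

end Cfsg.Agent.Lib.SporStruct.PermCodes
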