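import Cfsg.Agent.Lib.SporStruct.FamilyCode
import Cfsg.Agent.Lib.Golay.Stabilizers
import Cfsg.Agent.Lib.Computation.PermCode

/-! Subgroups of `M24` given by coded generators, and stabilisers of families of sets. -/

set_option autoImplicit false

namespace Cfsg.Agent.Lib.SporStruct.StabGroups

open Cfsg Cfsg.Agent.Lib.Computation Masks PermCodes FamilyCode
open Cfsg.Agent.Lib.Golay hiding okCode
open scoped Pointwise

/-- Permutations of the indices as permutations of the points. -/
def ptHom : Equiv.Perm (Fin 24) ≃* Equiv.Perm GolayPt := ptNum.symm.permCongrHom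

theorem ptHom_decode (c : ℕ) : ptHom (decodeP 24 5 c) = perm c := rfl

theorem perm_mulP {a b : ℕ} (ha : okCode a = true) (hb : okCode b = true) :
    perm (mulP 24 5 a b) = perm a * perm b := by
  rw [← ptHom_decode, ← ptHom_decode, ← ptHom_decode, decodeP_mulP ha hb, map_mul]

/-- The subgroup of `M24` generated by coded elements. -/
def eltsGroup (gens : List ℕ) : Subgroup ↥M24 :=
  Subgroup.closure {g : ↥M24 | (g : Equiv.Perm GolayPt) ∈ perm '' {c | c ∈ gens}}

theorem elt_mem {gens : List ℕ} {c : ℕ} (hc : c ∈ gens) (h : isM24Code c = true) :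
    elt c h ∈ eltsGroup gens :=
  Subgroup.subset_closure ⟨c, hc, rfl⟩

theorem map_eltsGroup {gens : List ℕ} (h : ∀ c ∈ gens, isM24Code c = true) :
    (eltsGroup gens).map M24.subtype =
      (Subgroup.closure (decodeP 24 5 '' {c | c ∈ gens})).map ptHom.toMonoidHom := by
  rw [eltsGroup, MonoidHom.map_closure, MonoidHom.map_closure, Set.image_image]
  congr 1
  ext σ
  constructor
  · rintro ⟨g, ⟨c, hc, he⟩, rfl⟩
    exact ⟨c, hc, he⟩
  · rintro ⟨c, hc, rfl⟩
    exact ⟨elt c (h c hc), ⟨c, hc, rfl⟩, rfl⟩

theorem card_eltsGroup {gens : List ℕ} (h : ∀ c ∈ gens, isM24Code c = true)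
    {steps : List (Step ℕ)} {chain : List (Level ℕ)}
    (hc : (permRep 24 5 (by decide)).checkClosure gens steps chain = true) :
    Nat.card (eltsGroup gens) = (permRep 24 5 (by decide)).order chain := by
  rw [← Subgroup.card_map_of_injective (f := M24.subtype) Subtype.val_injective, map_eltsGroup h,
    Subgroup.card_map_of_injective ptHom.injective]
  exact (permRep 24 5 (by decide)).card_closure hc

theorem mem_of_sift {gens : List ℕ} (h : ∀ c ∈ gens, isM24Code c = true) {steps : List (Step ℕ)}
    {chain : List (Level ℕ)}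
    (hc : (permRep 24 5 (by decide)).checkClosure gens steps chain = true) {g : ↥M24} {x : ℕ}
    (hx : (g : Equiv.Perm GolayPt) = perm x) (hok : okCode x = true)
    (hs : (permRep 24 5 (by decide)).sift chain x = true) : g ∈ eltsGroup gens := by
  have h1 := (permRep 24 5 (by decide)).mem_grp_of_sift
    ((permRep 24 5 (by decide)).checkChain_of_checkClosure hc) hok hs
  rw [← (permRep 24 5 (by decide)).closure_eq_grp hc] at h1
  have h2 : M24.subtype g ∈ (eltsGroup gens).map M24.subtype := by
    rw [map_eltsGroup h]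
    exact ⟨_, h1, (ptHom_decode x).trans hx.symm⟩
  obtain ⟨g', hg', he⟩ := h2
  rwa [← Subtype.val_injective he]

/-- Generators commute pairwise and have square one. -/
def elemOk (ns : List ℕ) : Bool :=
  ns.all fun a => Nat.beq (mulP 24 5 a a) oneCode && ns.all fun b =>
    Nat.beq (mulP 24 5 a b) (mulP 24 5 b a)

theorem perm_oneCode : perm oneCode = 1 := gperm_oneCode

theorem sq_eq_one {ns : List ℕ} (hm : ∀ c ∈ ns, isM24Code c = true) (h : elemOk ns = true)
    {x : ↥M24} (hx : x ∈ eltsGroup ns) : x * x = 1 := by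
  simp only [elemOk, List.all_eq_true, Bool.and_eq_true, Nat.beq_eq] at h
  have ok : ∀ c ∈ ns, okCode c = true := fun c hc => okCode_of_isM24Code (hm c hc)
  have hgen : ∀ a ∈ {g : ↥M24 | (g : Equiv.Perm GolayPt) ∈ perm '' {c | c ∈ ns}},
      a * a = 1 ∧ ∀ b ∈ {g : ↥M24 | (g : Equiv.Perm GolayPt) ∈ perm '' {c | c ∈ ns}},
        a * b = b * a := by
    rintro a ⟨c, hc, he⟩
    refine ⟨Subtype.ext ?_, ?_⟩
    · rw [Subgroup.coe_mul, ← he, ← perm_mulP (ok c hc) (ok c hc), (h c hc).1, perm_oneCode,
        Subgroup.coe_one]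
    · rintro b ⟨d, hd, he'⟩
      refine Subtype.ext ?_
      rw [Subgroup.coe_mul, Subgroup.coe_mul, ← he, ← he', ← perm_mulP (ok c hc) (ok d hd),
        ← perm_mulP (ok d hd) (ok c hc), (h c hc).2 d hd]
  letI := Subgroup.closureCommGroupOfComm fun a ha b hb => (hgen a ha).2 b hb
  suffices ∀ y : ↥(Subgroup.closure {g : ↥M24 | (g : Equiv.Perm GolayPt) ∈ perm '' {c | c ∈ ns}}),
      y * y = 1 from congrArg Subtype.val (this ⟨x, hx⟩)
  rintro ⟨y, hy⟩
  induction hy using Subgroup.closure_induction with
  | mem a ha => exact Subtype.ext (hgen a ha).1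
  | one => exact Subtype.ext (mul_one _)
  | mul a b ha hb iha ihb =>
    show (⟨a, ha⟩ * ⟨b, hb⟩ : ↥(Subgroup.closure _)) * (⟨a, ha⟩ * ⟨b, hb⟩) = 1
    rw [mul_mul_mul_comm, iha, ihb, one_mul]
  | inv a ha iha =>
    show (⟨a, ha⟩⁻¹ : ↥(Subgroup.closure _)) * ⟨a, ha⟩⁻¹ = 1
    rw [← mul_inv, iha, inv_one]

theorem le_stabilizer {gens : List ℕ} {k x : ℕ} (hw : wellFormed k x = true)
    (h : ∀ c ∈ gens, isM24Code c = true) (hfix : ∀ c ∈ gens, act k c x = x) :
    eltsGroup gens ≤ MulAction.stabilizer ↥M24 (family k x) := by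
  obtain ⟨hc, hcode, -⟩ := family_spec hw
  rw [eltsGroup, Subgroup.closure_le]
  rintro g ⟨c, hcm, he⟩
  show g • family k x = family k x
  change (g : Equiv.Perm GolayPt) • family k x = family k x
  rw [← he]
  refine code_injOn k (x₁ := perm c • family k x) ?_ hc ?_
  · show (perm c • family k x).card = k
    rw [Finset.card_smul_finset, hc]
  · rw [code_smul (okCode_of_isM24Code (h c hcm)) _ hc, hcode, hfix c hcm]

/-- Conjugation by a generator maps the generators of the subgroup into it. -/
noncomputable def conjOk (pairs : List (ℕ × ℕ)) (ns : List ℕ) (chain : List (Level ℕ)) : Bool :=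
  pairs.all fun p => isM24Code p.1 && okCode p.2 && Nat.beq (mulP 24 5 p.1 p.2) oneCode &&
    ns.all fun n => (permRep 24 5 (by decide)).sift chain (mulP 24 5 p.1 (mulP 24 5 n p.2))

theorem le_normalizer {pairs : List (ℕ × ℕ)} {ns : List ℕ} (hm : ∀ c ∈ ns, isM24Code c = true)
    {steps : List (Step ℕ)} {chain : List (Level ℕ)}
    (hc : (permRep 24 5 (by decide)).checkClosure ns steps chain = true)
    (h : conjOk pairs ns chain = true) :
    eltsGroup (pairs.map Prod.fst) ≤ Subgroup.normalizer ((eltsGroup ns : Subgroup ↥M24) : Set ↥M24) := by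
  simp only [conjOk, List.all_eq_true, Bool.and_eq_true, Nat.beq_eq] at h
  rw [eltsGroup, Subgroup.closure_le]
  rintro g ⟨c, hcm, he⟩
  obtain ⟨p, hp, rfl⟩ := List.mem_map.1 hcm
  obtain ⟨⟨⟨h1, h2⟩, h3⟩, h4⟩ := h p hp
  have hinv : perm p.2 = (g : Equiv.Perm GolayPt)⁻¹ := eq_inv_of_mul_eq_one_right (by
    rw [← he, ← perm_mulP (okCode_of_isM24Code h1) h2, h3, perm_oneCode])
  have hle : (eltsGroup ns).map (MulAut.conj g).toMonoidHom ≤ eltsGroup ns := by
    rw [Subgroup.map_le_iff_le_comap]
    refine (Subgroup.closure_le _).2 ?_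
    rintro b ⟨n, hn, hb⟩
    show g * b * g⁻¹ ∈ eltsGroup ns
    have on := okCode_of_isM24Code (hm n hn)
    refine mem_of_sift hm hc (x := mulP 24 5 p.1 (mulP 24 5 n p.2)) ?_
      (okPerm_mulP (okCode_of_isM24Code h1) (okPerm_mulP on h2)) (h4 n hn)
    rw [perm_mulP (okCode_of_isM24Code h1) (okPerm_mulP on h2), perm_mulP on h2, hinv, hb, he,
      ← mul_assoc]
    rfl
  have heq := Subgroup.eq_of_le_of_card_ge hle (le_of_eq
    (Subgroup.card_map_of_injective (MulAut.conj g).injective).symm)
  show g ∈ Subgroup.normalizer ((eltsGroup ns : Subgroup ↥M24) : Set ↥M24)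
  rw [Subgroup.mem_normalizer_iff]
  intro b
  constructor
  · intro hb
    have : (MulAut.conj g) b ∈ (eltsGroup ns).map (MulAut.conj g).toMonoidHom := ⟨b, hb, rfl⟩
    rwa [heq] at this
  · intro hb
    rw [← heq] at hb
    obtain ⟨b', hb', e⟩ := hb
    have e' : g * b' * g⁻¹ = g * b * g⁻¹ := e
    rwa [← mul_left_cancel (mul_right_cancel e')]

/-! ### the action on the members of a family -/

theorem smul_mem_member {S : Finset (Finset GolayPt)} {g : ↥M24}
    (hg : g ∈ MulAction.stabilizer ↥M24 S) {t : Finset GolayPt} (ht : t ∈ S) : g • t ∈ S := by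
  have := Finset.smul_mem_smul_finset (a := g) ht
  rwa [MulAction.mem_stabilizer_iff.1 hg] at this

/-- The action of the stabiliser of a family on its members. -/
def blockHom (S : Finset (Finset GolayPt)) :
    ↥(MulAction.stabilizer ↥M24 S) →* Equiv.Perm ↥S where
  toFun g :=
    { toFun := fun t => ⟨(g : ↥M24) • t.1, smul_mem_member g.2 t.2⟩
      invFun := fun t => ⟨(g : ↥M24)⁻¹ • t.1, smul_mem_member (Subgroup.inv_mem _ g.2) t.2⟩
      left_inv := fun t => Subtype.ext (inv_smul_smul _ _)
      right_inv := fun t => Subtype.ext (smul_inv_smul _ _) }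
  map_one' := Equiv.ext fun t => Subtype.ext (one_smul _ _)
  map_mul' _ _ := Equiv.ext fun t => Subtype.ext (mul_smul _ _ _)

theorem unpack_lt : ∀ (k x : ℕ), ∀ a ∈ unpack k x, a < 2 ^ 24
  | 0, _, a, h => by simp [unpack] at h
  | k + 1, x, a, h => by
    rw [unpack, List.mem_cons] at h
    rcases h with rfl | h
    · exact Nat.mod_lt _ (by norm_num)
    · exact unpack_lt k _ a h

/-- Each element swaps the first member with one of the others and fixes the rest. -/
def swapsOk (k x : ℕ) (cs : List ℕ) : Bool :=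
  let l := unpack k x
  let m0 := l.headD 0
  l.all fun m => Nat.beq m m0 || cs.any fun c => isM24Code c && l.all fun u =>
    Nat.beq (imgMask c u) (bif Nat.beq u m0 then m else bif Nat.beq u m then m0 else u)

theorem blockHom_surjective {k x : ℕ} {cs : List ℕ} (hk : 0 < k) (hw : wellFormed k x = true)
    (h : swapsOk k x cs = true) : Function.Surjective (blockHom (family k x)) := by
  obtain ⟨-, -, hmem⟩ := family_spec hw
  have hlen : (unpack k x).length = k := length_unpack k x
  obtain ⟨m0, rest, hl⟩ : ∃ m0 rest, unpack k x = m0 :: rest := by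
    cases hl : unpack k x with
    | nil => rw [hl] at hlen; simp at hlen; omega
    | cons a l => exact ⟨a, l, rfl⟩
  simp only [swapsOk, List.all_eq_true, Bool.or_eq_true, List.any_eq_true, Bool.and_eq_true,
    Nat.beq_eq, hl, List.headD_cons] at h
  rw [← hl] at h
  have hm0 : m0 ∈ unpack k x := by rw [hl]; exact List.mem_cons_self
  have h0 : setOfMask m0 ∈ family k x := by
    simp only [family, List.mem_toFinset, List.mem_map]
    exact ⟨m0, hm0, rfl⟩
  have hmask0 : maskOfSet (setOfMask m0) = m0 := maskOfSet_setOfMask (unpack_lt k x m0 hm0)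
  let t0 : ↥(family k x) := ⟨setOfMask m0, h0⟩
  have hswap : ∀ t : ↥(family k x), Equiv.swap t0 t ∈ (blockHom (family k x)).range := by
    intro t
    by_cases ht : maskOfSet t.1 = m0
    · rw [show t = t0 from Subtype.ext (maskOfSet_injective (ht.trans hmask0.symm)), Equiv.swap_self]
      exact one_mem _
    obtain ⟨c, -, hc, hu⟩ := (h _ (hmem _ t.2)).resolve_left ht
    have key : ∀ u : ↥(family k x), perm c • u.1 = (Equiv.swap t0 t u).1 := by
      intro u
      apply maskOfSet_injective
      rw [maskOfSet_smul (okCode_of_isM24Code hc), hu _ (hmem _ u.2)]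
      by_cases h1 : u = t0
      · subst h1
        simp [t0, hmask0]
      · have h1' : maskOfSet u.1 ≠ m0 := fun e => h1 (Subtype.ext (maskOfSet_injective (e.trans hmask0.symm)))
        have h1b : Nat.beq (maskOfSet u.1) m0 = false := by
          rw [Bool.eq_false_iff]; exact fun e => h1' (Nat.eq_of_beq_eq_true e)
        rw [h1b, cond_false]
        by_cases h2 : u = t
        · subst h2
          simp [t0, hmask0]
        · have h2' : maskOfSet u.1 ≠ maskOfSet t.1 := fun e => h2 (Subtype.ext (maskOfSet_injective e))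
          have h2b : Nat.beq (maskOfSet u.1) (maskOfSet t.1) = false := by
            rw [Bool.eq_false_iff]; exact fun e => h2' (Nat.eq_of_beq_eq_true e)
          rw [h2b, cond_false, Equiv.swap_apply_of_ne_of_ne h1 h2]
    have hstab : elt c hc ∈ MulAction.stabilizer ↥M24 (family k x) := by
      rw [MulAction.mem_stabilizer_iff]
      refine Finset.eq_of_subset_of_card_le ?_ (Finset.card_smul_finset _ _).ge
      intro u hu'
      obtain ⟨v, hv, rfl⟩ := Finset.mem_smul_finset.1 hu'
      show perm c • v ∈ family k x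
      rw [key ⟨v, hv⟩]
      exact (Equiv.swap t0 t _).2
    exact ⟨⟨_, hstab⟩, Equiv.ext fun u => Subtype.ext (key u)⟩
  rw [← MonoidHom.range_eq_top, eq_top_iff, ← Equiv.Perm.closure_isSwap, Subgroup.closure_le]
  rintro _ ⟨a, b, hab, rfl⟩
  show Equiv.swap a b ∈ (blockHom (family k x)).range
  by_cases ha : a = t0
  · subst ha; exact hswap b
  by_cases hb : b = t0
  · subst hb; rw [Equiv.swap_comm]; exact hswap a
  rw [← Equiv.swap_mul_swap_mul_swap (x := b) (y := t0) (z := a) hb hab.symm, Equiv.swap_comm b t0]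
  exact Subgroup.mul_mem _ (Subgroup.mul_mem _ (hswap a) (hswap b)) (hswap a)

/-- Surjectivity of the action on members moves along the group. -/
theorem blockHom_surjective_smul {F S : Finset (Finset GolayPt)} {g : ↥M24} (hg : g • F = S)
    (h : Function.Surjective (blockHom F)) : Function.Surjective (blockHom S) := by
  subst hg
  intro e
  let β : ↥F ≃ ↥(g • F) :=
    { toFun := fun t => ⟨g • t.1, Finset.smul_mem_smul_finset t.2⟩
      invFun := fun t => ⟨g⁻¹ • t.1, by rw [Finset.inv_smul_mem_iff]; exact t.2⟩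
      left_inv := fun t => Subtype.ext (inv_smul_smul _ _)
      right_inv := fun t => Subtype.ext (smul_inv_smul _ _) }
  obtain ⟨y, hy⟩ := h ((β.trans e).trans β.symm)
  refine ⟨MulAction.stabilizerEquivStabilizer (rfl : g • F = g • F) y, Equiv.ext fun t => Subtype.ext ?_⟩
  have h1 : (y : ↥M24) • (β.symm t).1 = (β.symm (e (β (β.symm t)))).1 :=
    congrArg Subtype.val (DFunLike.congr_fun hy (β.symm t))
  rw [Equiv.apply_symm_apply] at h1
  show ((MulAction.stabilizerEquivStabilizer (rfl : g • F = g • F) y : ↥(MulAction.stabilizer ↥M24 (g • F))) : ↥M24) • t.1 = (e t).1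
  rw [MulAction.stabilizerEquivStabilizer_apply]
  simp only [MulAut.conj_apply, mul_smul]
  change g • (y : ↥M24) • (β.symm t).1 = (e t).1
  rw [h1]
  exact congrArg Subtype.val (β.apply_symm_apply (e t))

/-- The order of the stabiliser of a family from the size of its orbit. -/
theorem card_stabilizer {S : Finset (Finset GolayPt)} {Ω : Set (Finset (Finset GolayPt))}
    (h : MulAction.orbit ↥M24 S = Ω) :
    Ω.ncard * Nat.card (MulAction.stabilizer ↥M24 S) = 244823040 := by
  rw [← h, ← MulAction.index_stabilizer, mul_comm, Subgroup.card_mul_index, card_M24]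

theorem card_stab_fixing {S : Finset (Finset GolayPt)} (h : Function.Surjective (blockHom S)) :
    Nat.card {g : ↥(MulAction.stabilizer Cfsg.M24 S) //
        ∀ t ∈ S, ((g : Cfsg.M24) : Equiv.Perm GolayPt) • t = t} * S.card.factorial =
      Nat.card (MulAction.stabilizer ↥M24 S) := by
  have e : Nat.card {g : ↥(MulAction.stabilizer Cfsg.M24 S) //
      ∀ t ∈ S, ((g : Cfsg.M24) : Equiv.Perm GolayPt) • t = t} = Nat.card (blockHom S).ker := by
    refine Nat.card_congr (Equiv.subtypeEquivRight fun g => ?_)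
    rw [MonoidHom.mem_ker]
    constructor
    · exact fun hg => Equiv.ext fun t => Subtype.ext (hg t.1 t.2)
    · intro hg t ht
      show ((blockHom S g) ⟨t, ht⟩).1 = t
      rw [hg]; rfl
  rw [e, ← Subgroup.card_mul_index (blockHom S).ker, Subgroup.index_ker,
    MonoidHom.range_eq_top.2 h, Subgroup.card_top, Nat.card_perm, Nat.card_eq_finsetCard]

end Cfsg.Agent.Lib.SporStruct.StabGroups
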