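import Mathlib
import Cfsg.Prelude.Def_SporadicCombinatorics

/-! The ternary code of length 12 in systematic form. -/

set_option autoImplicit false

namespace Cfsg.Agent.Lib.SporStruct.TernaryCode

open Cfsg

/-- The non-systematic part of the generator matrix. -/
def parA : Fin 6 → Fin 6 → ZMod 3 :=
  ![![1, 0, 1, 1, 1, 2], ![1, 2, 2, 2, 0, 2], ![1, 1, 0, 2, 1, 1], ![2, 2, 1, 2, 1, 0],
    ![2, 1, 2, 0, 1, 2], ![0, 1, 1, 2, 2, 2]]

/-- The six information positions. -/
def info : Fin 6 → ArrayPt := ![(0, 0), (0, 1), (0, 2), (1, 0), (1, 1), (2, 0)]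

/-- The six check positions. -/
def chk : Fin 6 → ArrayPt := ![(1, 2), (2, 1), (2, 2), (3, 0), (3, 1), (3, 2)]

/-- Linear form giving the check coordinate `j`. -/
def par (a : Fin 6 → ZMod 3) (j : Fin 6) : ZMod 3 :=
  a 0 * parA 0 j + a 1 * parA 1 j + a 2 * parA 2 j + a 3 * parA 3 j + a 4 * parA 4 j + a 5 * parA 5 j

/-- Position number (0..5 information, 6..11 checks) of a point of the array. -/
def posOf (p : ArrayPt) : Fin 12 :=
  (![![0, 1, 2], ![3, 4, 6], ![5, 7, 8], ![9, 10, 11]] : Fin 4 → Fin 3 → Fin 12) p.1 p.2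

/-- The point with a given position number. -/
def ptOf : Fin 12 → ArrayPt :=
  ![(0, 0), (0, 1), (0, 2), (1, 0), (1, 1), (2, 0), (1, 2), (2, 1), (2, 2), (3, 0), (3, 1), (3, 2)]

theorem ptOf_posOf : ∀ p, ptOf (posOf p) = p := by decide +kernel

theorem posOf_ptOf : ∀ i, posOf (ptOf i) = i := by decide +kernel

/-- Positions and points of the array correspond. -/
def posEquiv : ArrayPt ≃ Fin 12 := ⟨posOf, ptOf, ptOf_posOf, posOf_ptOf⟩

/-- Encoding of an information word. -/
def enc (a : Fin 6 → ZMod 3) : ArrayPt → ZMod 3 :=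
  fun p => (![a 0, a 1, a 2, a 3, a 4, a 5, par a 0, par a 1, par a 2, par a 3, par a 4, par a 5] :
    Fin 12 → ZMod 3) (posOf p)

theorem enc_info (a : Fin 6 → ZMod 3) (i : Fin 6) : enc a (info i) = a i := by
  fin_cases i <;> rfl

theorem enc_injective : Function.Injective enc := fun a b h => funext fun i => by
  rw [← enc_info a i, ← enc_info b i, h]

theorem sum_zmod3 (f : ZMod 3 → ZMod 3) : ∑ r, f r = f 0 + f 1 + f 2 := Fin.sum_univ_three f

theorem mem_tetracode_iff (t : Fin 4 → ZMod 3) :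
    t ∈ tetracode ↔ ∃ a b : ZMod 3, t = ![b, a, a + b, a + 2 * b] := by
  unfold tetracode
  rw [Submodule.mem_span_pair]
  constructor
  · rintro ⟨a, b, rfl⟩
    refine ⟨a, b, ?_⟩
    funext i
    fin_cases i <;> simp [mul_comm]
  · rintro ⟨a, b, rfl⟩
    refine ⟨a, b, ?_⟩
    funext i
    fin_cases i <;> simp [mul_comm]

/-- The code condition in decidable form. -/
def CodeCond (x : ArrayPt → ZMod 3) : Prop :=
  ∃ s : ZMod 3, (∀ i : Fin 4, x (i, 0) + x (i, 1) + x (i, 2) = -s) ∧
    ∀ a b : ZMod 3, x (0, b) + x (1, a) + x (2, a + b) + x (3, a + 2 * b) = s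

theorem mem_iff_cond (x : ArrayPt → ZMod 3) : x ∈ ternaryGolayCode ↔ CodeCond x := by
  show IsTernaryGolayWord x ↔ _
  unfold IsTernaryGolayWord CodeCond
  refine exists_congr fun s => and_congr (forall_congr' fun i => by rw [sum_zmod3]) ?_
  constructor
  · intro h a b
    have := h _ ((mem_tetracode_iff _).2 ⟨a, b, rfl⟩)
    rw [Fin.sum_univ_four] at this
    exact this
  · intro h t ht
    obtain ⟨a, b, rfl⟩ := (mem_tetracode_iff t).1 ht
    rw [Fin.sum_univ_four]
    exact h a b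

instance decidableCodeCond (x : ArrayPt → ZMod 3) : Decidable (CodeCond x) := by
  unfold CodeCond; infer_instance

theorem cond_enc : ∀ a : Fin 6 → ZMod 3, CodeCond (enc a) := by decide +kernel

/-- A word supported on the check positions. -/
def chkWord (b : Fin 6 → ZMod 3) : ArrayPt → ZMod 3 :=
  fun p => (![0, 0, 0, 0, 0, 0, b 0, b 1, b 2, b 3, b 4, b 5] : Fin 12 → ZMod 3) (posOf p)

theorem chk_zero : ∀ b : Fin 6 → ZMod 3, CodeCond (chkWord b) → ∀ j, b j = 0 := by decide +kernel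

theorem eq_enc_of_cond (x : ArrayPt → ZMod 3) (h : CodeCond x) :
    x = enc (fun i => x (info i)) := by
  have hy : x - enc (fun i => x (info i)) ∈ ternaryGolayCode :=
    sub_mem ((mem_iff_cond x).2 h) ((mem_iff_cond _).2 (cond_enc _))
  have e : x - enc (fun i => x (info i)) =
      chkWord (fun j => (x - enc (fun i => x (info i))) (chk j)) := by
    funext p
    rw [← ptOf_posOf p]
    generalize posOf p = k
    fin_cases k <;> simp [chkWord, posOf, ptOf, chk, info, enc]
  rw [e, mem_iff_cond] at hy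
  have hz := chk_zero _ hy
  rw [← sub_eq_zero, e]
  funext p
  show chkWord _ p = 0
  simp only [chkWord, hz]
  generalize posOf p = k
  fin_cases k <;> rfl

theorem mem_iff (x : ArrayPt → ZMod 3) : x ∈ ternaryGolayCode ↔ ∃ a, enc a = x := by
  rw [mem_iff_cond]
  exact ⟨fun h => ⟨_, (eq_enc_of_cond x h).symm⟩, fun ⟨a, ha⟩ => ha ▸ cond_enc a⟩

theorem enc_mem (a : Fin 6 → ZMod 3) : enc a ∈ ternaryGolayCode := (mem_iff _).2 ⟨a, rfl⟩

theorem eq_enc {x : ArrayPt → ZMod 3} (hx : x ∈ ternaryGolayCode) :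
    x = enc (fun i => x (info i)) := eq_enc_of_cond x ((mem_iff_cond x).1 hx)

/-- Information words parametrise the code. -/
noncomputable def codeEquiv : (Fin 6 → ZMod 3) ≃ ↥ternaryGolayCode :=
  Equiv.ofBijective (fun a => ⟨enc a, enc_mem a⟩)
    ⟨fun _ _ h => enc_injective (congrArg Subtype.val h),
      fun x => by obtain ⟨a, ha⟩ := (mem_iff _).1 x.2; exact ⟨a, Subtype.ext ha⟩⟩

end Cfsg.Agent.Lib.SporStruct.TernaryCode
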