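import Cfsg.Agent.Lib.SporStruct.TernaryCode

/-! Supports of weight 6 words of the ternary code, as 12-bit masks. -/

set_option autoImplicit false

namespace Cfsg.Agent.Lib.SporStruct.TernaryCode

open Cfsg

/-- The 12-bit mask of a set of positions. -/
def mask (s : Finset (Fin 12)) : ℕ := ∑ i ∈ s, 2 ^ (i : ℕ)

/-- The position set of a support. -/
def posSupport (a : Fin 6 → ZMod 3) : Finset (Fin 12) :=
  Finset.univ.filter fun i => enc a (ptOf i) ≠ 0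

theorem ternarySupport_enc (a : Fin 6 → ZMod 3) :
    ternarySupport (enc a) = (posSupport a).map posEquiv.symm.toEmbedding := by
  ext p
  simp [ternarySupport, posSupport, posEquiv, ptOf_posOf]

theorem card_support_enc (a : Fin 6 → ZMod 3) :
    (ternarySupport (enc a)).card = (posSupport a).card := by
  rw [ternarySupport_enc, Finset.card_map]

/-- The masks of the hexads, with witnessing information words. -/
def hexadTable : List (ℕ × (Fin 6 → ZMod 3)) :=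
   [(95, ![1, 1, 1, 2, 2, 0]), (190, ![0, 1, 2, 1, 2, 2]), (237, ![1, 0, 2, 1, 0, 1]), (243, ![1, 2, 0, 0, 1, 2]),
    (315, ![1, 2, 0, 1, 2, 1]), (366, ![0, 1, 2, 2, 0, 1]), (373, ![1, 0, 2, 0, 2, 2]), (413, ![1, 0, 2, 2, 1, 0]),
    (423, ![1, 1, 1, 0, 0, 2]), (459, ![1, 2, 0, 2, 0, 0]), (470, ![0, 1, 2, 0, 1, 0]), (504, ![0, 0, 0, 1, 1, 2]),
    (559, ![1, 2, 2, 2, 0, 2]), (630, ![0, 1, 1, 0, 1, 2]), (633, ![1, 0, 0, 2, 1, 1]), (667, ![1, 1, 0, 1, 1, 0]),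
    (693, ![1, 0, 1, 0, 2, 1]), (711, ![1, 1, 2, 0, 0, 0]), (732, ![0, 0, 1, 1, 1, 0]), (746, ![0, 1, 0, 2, 0, 2]),
    (791, ![1, 2, 1, 0, 1, 0]), (828, ![0, 0, 1, 2, 2, 2]), (845, ![1, 0, 1, 1, 0, 0]), (858, ![0, 1, 0, 1, 2, 0]),
    (867, ![1, 1, 0, 0, 0, 1]), (910, ![0, 1, 1, 2, 0, 0]), (937, ![1, 0, 0, 1, 0, 2]), (946, ![0, 1, 0, 0, 1, 1]),
    (977, ![1, 0, 0, 0, 2, 0]), (996, ![0, 0, 1, 0, 0, 1]), (1085, ![1, 0, 1, 1, 1, 2]), (1127, ![1, 2, 1, 0, 0, 1]),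
    (1146, ![0, 1, 0, 1, 1, 1]), (1175, ![1, 2, 2, 0, 2, 0]), (1195, ![1, 1, 0, 2, 0, 1]), (1230, ![0, 1, 1, 1, 0, 0]),
    (1241, ![1, 0, 0, 1, 2, 0]), (1268, ![0, 0, 1, 0, 2, 2]), (1295, ![1, 1, 2, 1, 0, 0]), (1334, ![0, 1, 1, 0, 2, 1]),
    (1363, ![1, 1, 0, 0, 1, 0]), (1372, ![0, 0, 1, 2, 1, 0]), (1385, ![1, 0, 0, 2, 0, 2]), (1434, ![0, 1, 0, 2, 2, 0]),
    (1452, ![0, 0, 1, 1, 0, 1]), (1457, ![1, 0, 0, 0, 1, 1]), (1477, ![1, 0, 1, 0, 0, 0]), (1506, ![0, 1, 0, 0, 0, 2]),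
    (1566, ![0, 1, 2, 2, 1, 0]), (1587, ![1, 1, 0, 0, 2, 2]), (1611, ![1, 2, 0, 1, 0, 0]), (1621, ![1, 0, 2, 0, 1, 0]),
    (1644, ![0, 0, 1, 2, 0, 1]), (1677, ![1, 0, 1, 2, 0, 0]), (1702, ![0, 1, 2, 0, 0, 1]), (1720, ![0, 0, 0, 1, 2, 1]),
    (1746, ![0, 1, 0, 0, 2, 0]), (1761, ![1, 0, 0, 0, 0, 2]), (1817, ![1, 0, 0, 2, 2, 0]), (1829, ![1, 0, 2, 0, 0, 1]),
    (1834, ![0, 1, 0, 1, 0, 2]), (1862, ![0, 1, 1, 0, 0, 0]), (1904, ![0, 0, 0, 0, 1, 2]), (1923, ![1, 2, 0, 0, 0, 0]),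
    (1940, ![0, 0, 1, 0, 1, 0]), (1992, ![0, 0, 0, 1, 0, 0]), (2103, ![1, 1, 2, 0, 1, 1]), (2155, ![1, 1, 0, 1, 0, 2]),
    (2172, ![0, 0, 1, 1, 2, 1]), (2191, ![1, 2, 1, 1, 0, 0]), (2233, ![1, 0, 0, 2, 2, 2]), (2261, ![1, 0, 1, 0, 1, 0]),
    (2266, ![0, 1, 0, 2, 1, 0]), (2278, ![0, 1, 1, 0, 0, 1]), (2334, ![0, 1, 1, 1, 1, 0]), (2349, ![1, 0, 1, 2, 0, 1]),
    (2375, ![1, 2, 2, 0, 0, 0]), (2393, ![1, 0, 0, 1, 1, 0]), (2418, ![0, 1, 0, 0, 2, 2]), (2451, ![1, 1, 0, 0, 2, 0]),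
    (2474, ![0, 1, 0, 1, 0, 1]), (2484, ![0, 0, 1, 0, 1, 2]), (2508, ![0, 0, 1, 2, 0, 0]), (2529, ![1, 0, 0, 0, 0, 1]),
    (2589, ![1, 0, 2, 1, 2, 0]), (2618, ![0, 1, 0, 2, 2, 1]), (2638, ![0, 1, 2, 1, 0, 0]), (2643, ![1, 2, 0, 0, 2, 0]),
    (2661, ![1, 0, 1, 0, 0, 2]), (2710, ![0, 1, 1, 0, 2, 0]), (2723, ![1, 2, 0, 0, 0, 1]), (2732, ![0, 0, 1, 1, 0, 2]),
    (2761, ![1, 0, 0, 2, 0, 0]), (2800, ![0, 0, 0, 0, 1, 1]), (2827, ![1, 1, 0, 2, 0, 0]), (2854, ![0, 1, 2, 0, 0, 2]),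
    (2865, ![1, 0, 0, 0, 1, 2]), (2900, ![0, 0, 1, 0, 2, 0]), (2920, ![0, 0, 0, 1, 0, 1]), (2949, ![1, 0, 2, 0, 0, 0]),
    (2968, ![0, 0, 0, 1, 2, 0]), (3010, ![0, 1, 0, 0, 0, 0]), (3099, ![1, 2, 0, 2, 1, 0]), (3118, ![0, 1, 1, 2, 0, 2]),
    (3149, ![1, 0, 2, 2, 0, 0]), (3158, ![0, 1, 2, 0, 2, 0]), (3185, ![1, 0, 0, 0, 2, 1]), (3228, ![0, 0, 1, 2, 2, 0]),
    (3237, ![1, 0, 2, 0, 0, 2]), (3250, ![0, 1, 0, 0, 1, 2]), (3267, ![1, 1, 0, 0, 0, 0]), (3304, ![0, 0, 0, 1, 0, 2]),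
    (3349, ![1, 0, 1, 0, 2, 0]), (3363, ![1, 2, 0, 0, 0, 2]), (3384, ![0, 0, 0, 1, 2, 2]), (3402, ![0, 1, 0, 2, 0, 0]),
    (3428, ![0, 0, 1, 0, 0, 2]), (3462, ![0, 1, 2, 0, 0, 0]), (3465, ![1, 0, 0, 1, 0, 0]), (3536, ![0, 0, 0, 0, 1, 0]),
    (3591, ![1, 1, 1, 0, 0, 0]), (3625, ![1, 0, 0, 1, 0, 1]), (3636, ![0, 0, 1, 0, 1, 1]), (3672, ![0, 0, 0, 1, 1, 0]),
    (3682, ![0, 1, 0, 0, 0, 1]), (3722, ![0, 1, 0, 1, 0, 0]), (3729, ![1, 0, 0, 0, 1, 0]), (3780, ![0, 0, 1, 0, 0, 0]),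
    (3852, ![0, 0, 1, 1, 0, 0]), (3858, ![0, 1, 0, 0, 1, 0]), (3905, ![1, 0, 0, 0, 0, 0]), (4000, ![0, 0, 0, 0, 0, 1])]

/-- The masks of the hexads. -/
def hexadMasks : List ℕ := hexadTable.map Prod.fst

/-- Hexads as sets of points. -/
def hexadSet : Set (Finset ArrayPt) :=
  {h | ∃ x ∈ ternaryGolayCode, ternarySupport x = h ∧ h.card = 6}

theorem mask_injective : Function.Injective mask := by
  intro s t h
  have := Finset.geomSum_injective (n := 2) le_rfl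
  have h2 : (s.map Fin.valEmbedding) = t.map Fin.valEmbedding := this (by simpa [mask] using h)
  exact Finset.map_injective _ h2

theorem support_mask_mem : ∀ a : Fin 6 → ZMod 3,
    (posSupport a).card = 6 → mask (posSupport a) ∈ hexadMasks := by decide +kernel

theorem table_spec : ∀ e ∈ hexadTable, (posSupport e.2).card = 6 ∧ mask (posSupport e.2) = e.1 := by
  decide +kernel

theorem mem_hexadSet_iff (h : Finset ArrayPt) :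
    h ∈ hexadSet ↔ mask (h.map posEquiv.toEmbedding) ∈ hexadMasks := by
  have key : ∀ a, (ternarySupport (enc a)).map posEquiv.toEmbedding = posSupport a := by
    intro a
    rw [ternarySupport_enc, Finset.map_map]
    ext i
    simp
  constructor
  · rintro ⟨x, hx, rfl, hc⟩
    obtain ⟨a, rfl⟩ := (mem_iff x).1 hx
    rw [key]
    rw [card_support_enc] at hc
    exact support_mask_mem a hc
  · intro hm
    obtain ⟨e, he, hee⟩ := List.mem_map.1 hm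
    obtain ⟨h6, hmask⟩ := table_spec e he
    have : ternarySupport (enc e.2) = h := by
      apply Finset.map_injective posEquiv.toEmbedding
      rw [key]
      exact mask_injective (hmask.trans hee)
    exact ⟨_, enc_mem e.2, this, by rw [← this, card_support_enc, h6]⟩

end Cfsg.Agent.Lib.SporStruct.TernaryCode
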