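import Cfsg.Agent.Lib.SporStruct.PermCodes
import Cfsg.Agent.Lib.SporStruct.CodedOrbit
import Cfsg.Agent.Lib.SporStruct.BlockMax
import Cfsg.Agent.Lib.SporStruct.OctadOrbits
import Cfsg.Agent.Lib.SporStruct.TripleData

/-! Orbits of `M24` and of a stabiliser on the triples of points. -/

set_option autoImplicit false

namespace Cfsg.Agent.Lib.SporStruct.TripleOrbits

open Cfsg Cfsg.Agent.Lib.Golay Masks PermCodes OrbitTree CodedOrbit
open scoped Pointwise

/-- The sets of 3 points. -/
def ksets : Set (Finset GolayPt) := {s | s.card = 3}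

/-- The universe of masks. -/
noncomputable def univMasks : List ℕ := TripleData.tree.keys

/-- The octads through the standard triple. -/
def thru : List ℕ := [5279, 45159, 140167, 459847, 551943, 622863, 786999, 1065303, 1116327, 2183687, 2263063, 3416079, 4196943, 4505735, 5902343, 6292775, 8536111, 8657159, 9471495, 11010247, 12656663]

theorem thru_spec : eqList thru (OctadOrbits.univMasks.filter fun o =>
    Nat.beq (TripleData.root &&& o) TripleData.root) = true := by
  decide +kernel

/-- The invariant of a triple relative to the standard one. -/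
def kf (m : ℕ) : ℕ :=
  bif thru.any (fun o => Nat.beq (m &&& o) m) then pc24 (TripleData.root &&& m) * 2 + 1
  else pc24 (TripleData.root &&& m) * 2

theorem cert_tree : (TripleData.tree.check imgMask TripleData.gens TripleData.root &&
    incList univMasks && univMasks.all (fun m => Nat.beq (pc24 m) 3 && Nat.blt m 16777216) &&
    Nat.beq univMasks.length 2024 && TripleData.gens.all isM24Code) = true := by
  decide +kernel

theorem cert_classes : (classesOk imgMask TripleData.stabGens univMasks kf TripleData.classes &&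
    TripleData.stabGens.all isM24Code &&
    TripleData.stabGens.all (fun c => Nat.beq (imgMask c TripleData.root) TripleData.root)) = true := by
  decide +kernel

theorem root_spec : pc24 TripleData.root = 3 ∧ TripleData.root < 2 ^ 24 := by decide +kernel

/-- The standard set. -/
noncomputable def std : Finset GolayPt := setOfMask TripleData.root

theorem std_mem : std ∈ ksets := by
  show (setOfMask _).card = _
  rw [card_setOfMask]; exact root_spec.1

theorem maskOfSet_std : maskOfSet std = TripleData.root := maskOfSet_setOfMask root_spec.2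

theorem univ_nodup : univMasks.Nodup := by
  have h := cert_tree
  simp only [Bool.and_eq_true] at h
  exact incList_nodup h.1.1.1.2

theorem ncard_ksets : ksets.ncard = 2024 := by
  have e : ksets = ↑((Finset.univ : Finset GolayPt).powersetCard 3) := by
    ext s; simp [ksets, Finset.mem_powersetCard]
  rw [e, Set.ncard_coe_finset, Finset.card_powersetCard, Finset.card_univ, card_golayPt]
  decide

theorem mem_univMasks (m : ℕ) : m ∈ univMasks ↔ ∃ s ∈ ksets, maskOfSet s = m := by
  have h := cert_tree
  simp only [Bool.and_eq_true, List.all_eq_true, Nat.beq_eq, Nat.blt_eq] at h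
  have hsub : ∀ k ∈ univMasks, ∃ s ∈ ksets, maskOfSet s = k := fun k hk =>
    ⟨setOfMask k, by show (setOfMask k).card = _; rw [card_setOfMask]; exact (h.1.1.2 k hk).1,
      maskOfSet_setOfMask (h.1.1.2 k hk).2⟩
  refine ⟨hsub m, ?_⟩
  rintro ⟨s, hs, rfl⟩
  exact mem_universe maskOfSet_injective.injOn (Set.toFinite _) univ_nodup hsub
    (by rw [ncard_ksets, h.1.2]) hs

theorem smul_mem (g : ↥M24) {s : Finset GolayPt} (hs : s ∈ ksets) : g • s ∈ ksets := by
  show (g • s).card = _
  rw [Finset.card_smul_finset]; exact hs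

theorem code_elt {c : ℕ} (hc : isM24Code c = true) (s : Finset GolayPt) :
    maskOfSet (elt c hc • s) = imgMask c (maskOfSet s) :=
  maskOfSet_smul (okCode_of_isM24Code hc) s

/-- `M24` is transitive on the triples. -/
theorem exists_smul_std {s : Finset GolayPt} (hs : s ∈ ksets) : ∃ g : ↥M24, g • std = s := by
  have h := cert_tree
  simp only [Bool.and_eq_true, List.all_eq_true] at h
  obtain ⟨g, -, hg⟩ := reach (⊤ : Subgroup ↥M24) (Ω := ksets) (E := maskOfSet)
    (fun g _ x hx => smul_mem g hx)
    (fun c hc => ⟨elt c (h.2 c hc), Subgroup.mem_top _, fun x _ => code_elt _ x⟩)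
    std_mem (by rw [maskOfSet_std]; exact h.1.1.1.1) maskOfSet_injective.injOn hs
    ((mem_univMasks _).2 ⟨s, hs, rfl⟩)
  exact ⟨g, hg⟩

theorem std_classes {y z : Finset GolayPt} (hy : y ∈ ksets) (hz : z ∈ ksets)
    (h : kf (maskOfSet y) = kf (maskOfSet z)) : ∃ g : ↥M24, g • std = std ∧ g • y = z := by
  have hc := cert_classes
  simp only [Bool.and_eq_true, List.all_eq_true, Nat.beq_eq] at hc
  obtain ⟨g, hg, hgy⟩ := class_trans (MulAction.stabilizer ↥M24 std) (Ω := ksets) (E := maskOfSet)
    hc.1.1 (fun g _ x hx => smul_mem g hx)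
    (fun c hcm => ⟨elt c (hc.1.2 c hcm), MulAction.mem_stabilizer_iff.2 (maskOfSet_injective
      (by rw [code_elt, maskOfSet_std, hc.2 c hcm])), fun x _ => code_elt _ x⟩)
    maskOfSet_injective.injOn univ_nodup mem_univMasks hy hz h
  exact ⟨g, MulAction.mem_stabilizer_iff.1 hg, hgy⟩

theorem orbit_eq {x : Finset GolayPt} (hx : x ∈ ksets) : MulAction.orbit ↥M24 x = ksets := by
  obtain ⟨a, rfl⟩ := exists_smul_std hx
  rw [MulAction.orbit_eq_iff.2 (MulAction.mem_orbit _ a)]
  ext s
  exact ⟨fun ⟨g, hg⟩ => hg ▸ smul_mem g std_mem, fun hs => exists_smul_std hs⟩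

/-- The number of members of a class at the standard set. -/
theorem ncard_std_class (i : ℕ) :
    {y | y ∈ ksets ∧ kf (maskOfSet y) = i}.ncard = univMasks.countP fun m => Nat.beq (kf m) i := by
  rw [← class_ncard (Ω := ksets) (E := maskOfSet) maskOfSet_injective.injOn univ_nodup mem_univMasks]
  congr 1
  ext y
  simp

open scoped Classical in
theorem kf_mask (y : Finset GolayPt) : kf (maskOfSet y) =
    (std ∩ y).card * 2 + if ∃ o ∈ octads, std ∪ y ⊆ o then 1 else 0 := by
  have key : (thru.any fun o => Nat.beq (maskOfSet y &&& o) (maskOfSet y)) = true ↔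
      ∃ o ∈ octads, std ∪ y ⊆ o := by
    simp only [List.any_eq_true, Nat.beq_eq]
    rw [eqList_eq thru_spec]
    simp only [List.mem_filter, Nat.beq_eq, OctadOrbits.mem_univMasks]
    constructor
    · rintro ⟨m, ⟨⟨o, ho, rfl⟩, h1⟩, h2⟩
      refine ⟨o, ho, Finset.union_subset ?_ ((subset_iff_and _ _).2 h2)⟩
      rw [subset_iff_and, maskOfSet_std]; exact h1
    · rintro ⟨o, ho, hsub⟩
      rw [Finset.union_subset_iff, subset_iff_and, subset_iff_and, maskOfSet_std] at hsub
      exact ⟨_, ⟨⟨o, ho, rfl⟩, hsub.1⟩, hsub.2⟩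
  rw [card_inter_eq, maskOfSet_std, kf]
  cases hb : thru.any fun o => Nat.beq (maskOfSet y &&& o) (maskOfSet y) with
  | true => rw [cond_true, if_pos (key.1 hb)]
  | false =>
    rw [cond_false, if_neg (fun h => by rw [key.2 h] at hb; exact Bool.noConfusion hb), Nat.add_zero]

end Cfsg.Agent.Lib.SporStruct.TripleOrbits
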